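import Mathlib

/-! Generating functions for counting conjugacy classes of classical groups: `gf`, `card_tuples`,
the series `Wf`, the numbers `Kc a q n` (Macdonald's sums over partitions) and their bounds. -/

set_option autoImplicit false

namespace Cfsg.Agent.Classical.Kn

open PowerSeries Finset

/-- generating function of a graded set -/
noncomputable def gf {T : Type*} (dg : T → ℕ) : ℝ⟦X⟧ := mk fun m => (Nat.card {x // dg x = m} : ℝ)

theorem card_tuples {ι : Type*} [Fintype ι] {T : ι → Type*} (dg : ∀ i, T i → ℕ)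
    (h : ∀ i m, Finite {x // dg i x = m}) (n : ℕ) :
    Finite {u : ∀ i, T i // ∑ i, dg i (u i) = n} ∧
      (Nat.card {u : ∀ i, T i // ∑ i, dg i (u i) = n} : ℝ) = coeff n (∏ i, gf (dg i)) := by
  classical
  let e : {u : ∀ i, T i // ∑ i, dg i (u i) = n} ≃
      Σ l : finsuppAntidiag (univ : Finset ι) n, ∀ i, {x // dg i x = l.1 i} :=
    { toFun := fun u => ⟨⟨Finsupp.equivFunOnFinite.symm fun i => dg i (u.1 i), by
        simpa [mem_finsuppAntidiag] using u.2⟩, fun i => ⟨u.1 i, rfl⟩⟩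
      invFun := fun x => ⟨fun i => x.2 i, by
        simpa [(x.2 _).2] using (mem_finsuppAntidiag.1 x.1.2).1⟩
      left_inv := fun _ => rfl
      right_inv := fun ⟨⟨l, hl⟩, x⟩ => by
        have h1 : (Finsupp.equivFunOnFinite.symm fun i => dg i (x i)) = l := Finsupp.ext fun i => (x i).2
        refine Sigma.ext (Subtype.ext h1) (Function.hfunext rfl fun i j h => ?_)
        obtain rfl := eq_of_heq h
        exact (Subtype.heq_iff_coe_eq fun y => by simp [(x i).2]).2 rfl }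
  refine ⟨Finite.of_equiv _ e.symm, ?_⟩
  rw [Nat.card_congr e, Nat.card_sigma, coeff_prod, ← sum_coe_sort (finsuppAntidiag univ n)]
  simp [gf, Nat.card_pi]

/-- coefficientwise inequality -/
def Le (f g : ℝ⟦X⟧) : Prop := ∀ n, coeff n f ≤ coeff n g

variable {f g f' g' : ℝ⟦X⟧} {x c d : ℝ}

theorem Le.mul (h : Le f f') (h' : Le g g') (h0 : Le 0 f') (h1 : Le 0 g) : Le (f * g) (f' * g') :=
  fun n => by
    rw [coeff_mul, coeff_mul]
    exact sum_le_sum fun _ _ => mul_le_mul (h _) (h' _) (h1 _) (h0 _)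

theorem Le.nn_mul (h0 : Le 0 f) (h1 : Le 0 g) : Le 0 (f * g) := by
  simpa using Le.mul h0 h1 h0 fun _ => le_rfl

theorem Le.nn_add (h0 : Le 0 f) (h1 : Le 0 g) : Le 0 (f + g) := fun n => by
  simpa using add_nonneg (h0 n) (h1 n)

theorem nn_X_pow (k : ℕ) : Le 0 (X ^ k) := fun n => by
  rw [coeff_X_pow]; split_ifs <;> simp

theorem nn_one : Le 0 1 := by simpa using nn_X_pow 0

theorem nn_prod {ι : Type*} (s : Finset ι) {f : ι → ℝ⟦X⟧} (h : ∀ i ∈ s, Le 0 (f i)) :
    Le 0 (∏ i ∈ s, f i) := prod_induction _ _ (fun _ _ => Le.nn_mul) nn_one h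

theorem nn_gf {T : Type*} (dg : T → ℕ) : Le 0 (gf dg) := fun n => by simp [gf]

theorem le_prod {ι : Type*} (s : Finset ι) {f g : ι → ℝ⟦X⟧} (h0 : ∀ i ∈ s, Le 0 (f i))
    (h : ∀ i ∈ s, Le (f i) (g i)) : Le (∏ i ∈ s, f i) (∏ i ∈ s, g i) := by
  classical
  induction s using Finset.induction_on with
  | empty => exact fun _ => le_rfl
  | insert a s ha ih =>
    rw [prod_insert ha, prod_insert ha]
    simp only [forall_mem_insert] at h0 h
    exact h.1.mul (ih h0.2 h.2) (fun n => (h0.1 n).trans (h.1 n)) (nn_prod _ h0.2)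

/-- the value at `x` is at most `c` -/
def Bd (x : ℝ) (f : ℝ⟦X⟧) (c : ℝ) : Prop := Le 0 f ∧ ∀ n, ∑ m ∈ range n, coeff m f * x ^ m ≤ c

/-- the coefficients are at most `c / x ^ n` -/
def Dm (x : ℝ) (f : ℝ⟦X⟧) (c : ℝ) : Prop := ∀ n, coeff n f * x ^ n ≤ c

theorem Bd.nonneg (h : Bd x f c) : 0 ≤ c := by simpa using h.2 0

theorem Dm.mul (hx : 0 ≤ x) (h : Dm x f c) (hc : 0 ≤ c) (h' : Bd x g d) : Dm x (f * g) (c * d) := fun n => by
  rw [mul_comm f, coeff_mul, sum_mul, Nat.sum_antidiagonal_eq_sum_range_succ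
    (fun i j => coeff i g * coeff j f * x ^ n)]
  refine le_trans (sum_le_sum fun i hi => ?_) ((mul_sum ..).symm.trans_le
    (mul_le_mul_of_nonneg_left (h'.2 (n + 1)) hc))
  obtain ⟨j, rfl⟩ := Nat.exists_eq_add_of_le (Nat.le_of_lt_succ (mem_range.1 hi))
  have := mul_le_mul_of_nonneg_right (h j) (mul_nonneg (h'.1 i) (pow_nonneg hx i))
  rw [Nat.add_sub_cancel_left, pow_add]
  linarith

theorem ps_mul (hx : 0 ≤ x) (h : Le 0 f) (h' : Le 0 g) (n : ℕ) : ∑ m ∈ range n, coeff m (f * g) * x ^ m ≤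
    (∑ m ∈ range n, coeff m f * x ^ m) * ∑ m ∈ range n, coeff m g * x ^ m := by
  have h1 : ∀ m, coeff m (f * g) * x ^ m =
      ∑ k ∈ range (m + 1), coeff k f * x ^ k * (coeff (m - k) g * x ^ (m - k)) := fun m => by
    rw [coeff_mul, sum_mul, ← Nat.sum_antidiagonal_eq_sum_range_succ
      fun i j => coeff i f * x ^ i * (coeff j g * x ^ j)]
    exact sum_congr rfl fun p hp => by rw [← mem_antidiagonal.1 hp]; ring
  simp only [h1]
  rw [sum_range_diag_flip n fun i j => coeff i f * x ^ i * (coeff j g * x ^ j), sum_mul_sum]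
  exact sum_le_sum fun i _ => sum_le_sum_of_subset_of_nonneg (range_subset_range.2 (Nat.sub_le _ _))
    fun j _ _ => mul_nonneg (mul_nonneg (h _) (pow_nonneg hx _)) (mul_nonneg (h' _) (pow_nonneg hx _))

theorem Bd.mul (hx : 0 ≤ x) (h : Bd x f c) (h' : Bd x g d) : Bd x (f * g) (c * d) :=
  ⟨h.1.nn_mul h'.1, fun n => (ps_mul hx h.1 h'.1 n).trans (mul_le_mul (h.2 n) (h'.2 n)
    (sum_nonneg fun i _ => mul_nonneg (h'.1 i) (pow_nonneg hx i)) h.nonneg)⟩

theorem Bd.add (h : Bd x f c) (h' : Bd x g d) : Bd x (f + g) (c + d) :=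
  ⟨h.1.nn_add h'.1, fun n => by simpa [add_mul, sum_add_distrib] using add_le_add (h.2 n) (h'.2 n)⟩

theorem bd_mono (hx : 0 ≤ x) (hc : 0 ≤ c) (i : ℕ) : Bd x (C c * X ^ i) (c * x ^ i) :=
  ⟨fun n => by simpa using mul_nonneg hc (nn_X_pow i n), fun n => by
    simp only [coeff_C_mul, coeff_X_pow, mul_ite, ite_mul, mul_zero, zero_mul, sum_ite_eq', mul_one]
    split_ifs <;> simp [mul_nonneg hc (pow_nonneg hx i)]⟩

theorem bd_one : Bd x 1 1 := ⟨nn_one, fun n => by
  simp only [coeff_one, ite_mul, zero_mul, sum_ite_eq']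
  split_ifs <;> simp⟩

theorem bd_prod (hx : 0 ≤ x) {ι : Type*} (s : Finset ι) {f : ι → ℝ⟦X⟧} {c : ι → ℝ}
    (h : ∀ i ∈ s, Bd x (f i) (c i)) : Bd x (∏ i ∈ s, f i) (∏ i ∈ s, c i) := by
  classical
  induction s using Finset.induction_on with
  | empty => exact bd_one
  | insert a s ha ih =>
    rw [prod_insert ha, prod_insert ha]
    simp only [forall_mem_insert] at h
    exact h.1.mul hx (ih h.2)

/-- A series with `f * (1 - r X ^ i) = 1 + s X ^ i` is bounded by the value of the quotient. -/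
theorem bd_of_mul (hx : 0 ≤ x) (h0 : Le 0 f) {r s : ℝ} {i : ℕ} (hr : 0 ≤ r) (hs : 0 ≤ s)
    (h : f * (1 - C r * X ^ i) = 1 + C s * X ^ i) (h1 : r * x ^ i < 1) :
    Bd x f ((1 + s * x ^ i) / (1 - r * x ^ i)) := by
  refine ⟨h0, fun n => ?_⟩
  have h2 : f = 1 + C s * X ^ i + f * (C r * X ^ i) := by linear_combination h
  have h3 := ps_mul hx h0 (bd_mono hx hr i).1 n
  have h4 := mul_le_mul_of_nonneg_left ((bd_mono hx hr i).2 n)
    (sum_nonneg fun m (_ : m ∈ range n) => mul_nonneg (h0 m) (pow_nonneg hx m))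
  have h5 := (bd_one.add (bd_mono hx hs i)).2 n
  have h6 := congrArg (fun f => ∑ m ∈ range n, coeff m f * x ^ m) h2
  simp only [map_add _ _ (f * _), add_mul, sum_add_distrib] at h6
  rw [le_div_iff₀ (by linarith)]
  linarith

/-- `w 0 = 1`, `w (m + 1) = a q ^ m` -/
noncomputable def wt (a q : ℝ) : ℕ → ℝ
  | 0 => 1
  | m + 1 => a * q ^ m

/-- `∑ w m X ^ (i m)` -/
noncomputable def Wf (a q : ℝ) (i : ℕ) : ℝ⟦X⟧ := mk fun m => if i ∣ m then wt a q (m / i) else 0

variable {a q : ℝ} {i n : ℕ}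

theorem nn_Wf (ha : 0 ≤ a) (hq : 0 ≤ q) (i : ℕ) : Le 0 (Wf a q i) := fun n => by
  simp only [Wf, coeff_mk, map_zero]
  split_ifs
  · cases n / i <;> simp only [wt] <;> positivity
  · rfl

theorem Wf_mul (hi : 0 < i) : Wf a q i * (1 - C q * X ^ i) = 1 + C (a - q) * X ^ i := by
  ext n
  rw [mul_sub, mul_one, mul_left_comm, map_sub, map_add, coeff_C_mul, coeff_C_mul, coeff_mul_X_pow',
    coeff_X_pow, coeff_one]
  simp only [Wf, coeff_mk]
  rcases lt_or_ge n i with h | h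
  · rcases n.eq_zero_or_pos with rfl | h0
    · simp [wt, hi.ne, hi.ne']
    · simp [h.not_ge, h.ne, h0.ne', Nat.not_dvd_of_pos_of_lt h0 h]
  obtain ⟨n, rfl⟩ := Nat.exists_eq_add_of_le' h
  rw [Nat.add_div_right _ hi]
  rcases n.eq_zero_or_pos with rfl | h0
  · simp [wt, hi.ne']
  by_cases hd : i ∣ n
  · obtain ⟨k, hk⟩ := Nat.exists_eq_add_of_le' (Nat.div_pos (Nat.le_of_dvd h0 hd) hi)
    simp [hd, hk, wt, hi.ne', h0.ne', pow_succ]
    ring
  · simp [hd, hi.ne', h0.ne']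

/-- Macdonald's sum `∑_ν ∏ w (n_i)` over the partitions of `n` -/
noncomputable def Kc (a q : ℝ) (n : ℕ) : ℝ := coeff n (∏ i ∈ range n, Wf a q (i + 1))

theorem Kc_one : Kc a q 1 = a := by simp [Kc, Wf, wt]

theorem Kc_two : Kc a q 2 = a * q + a := by
  simp [Kc, Wf, wt, prod_range_succ, coeff_mul, Nat.antidiagonal_succ]
  ring

theorem Kc_three : Kc a q 3 = a * q ^ 2 + a ^ 2 + a := by
  simp [Kc, Wf, wt, prod_range_succ, coeff_mul, Nat.antidiagonal_succ]
  ring

theorem geo_mul (q : ℝ) : (PowerSeries.mk fun n => q ^ n) * (1 - C q * X) = 1 := by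
  have := Wf_mul (a := q) (q := q) one_pos
  rw [sub_self, map_zero, zero_mul, add_zero, pow_one] at this
  convert this using 2
  ext n
  cases n <;> simp [Wf, wt, pow_succ']

theorem gl_aux (hq : 1 ≤ q) (N : ℕ) :
    Le 0 ((1 - X ^ (N + 1)) * (PowerSeries.mk fun n => q ^ n) - ∏ i ∈ range (N + 1), Wf (q - 1) q (i + 1)) := by
  have h := geo_mul q
  have h' := fun i : ℕ => Wf_mul (a := q - 1) (q := q) i.succ_pos
  simp only [sub_sub_cancel_left, map_neg, map_one, Nat.succ_eq_add_one] at h'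
  induction N with
  | zero =>
    rw [prod_range_one, show (1 - X ^ (0 + 1)) * (PowerSeries.mk fun n => q ^ n) - Wf (q - 1) q (0 + 1) = 0 by
      linear_combination (-PowerSeries.mk fun n => q ^ n) * h' 0 + Wf (q - 1) q 1 * h]
    exact fun _ => le_rfl
  | succ N ih =>
    convert (nn_Wf (a := q - 1) (by linarith) (by linarith) (N + 2)).nn_mul
      (ih.nn_add (nn_X_pow (N + 1))) using 1
    rw [prod_range_succ _ (N + 1)]
    linear_combination (-PowerSeries.mk fun n => q ^ n) * h' (N + 1) + Wf (q - 1) q (N + 2) * X ^ (N + 1) * h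

/-- `k(GL_n(q)) ≤ q ^ n` -/
theorem Kc_gl (hq : 1 ≤ q) (hn : 0 < n) : Kc (q - 1) q n ≤ q ^ n - 1 := by
  obtain ⟨n, rfl⟩ := Nat.exists_eq_add_of_le' hn
  have := gl_aux hq n (n + 1)
  rw [sub_mul, one_mul, map_sub, map_sub, coeff_X_pow_mul'] at this
  simpa [Kc] using this

theorem dm_Wf (hq : 1 < q) {s : ℝ} (hs : 0 ≤ s) (N : ℕ) :
    Dm q⁻¹ (∏ i ∈ range (N + 1), Wf (q + s) q (i + 1))
      ((1 + s * q⁻¹) * ∏ i ∈ range N, (1 + s * q⁻¹ ^ (i + 2)) / (1 - q⁻¹ ^ (i + 1))) := by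
  have h0 : 0 < q := by linarith
  rw [prod_range_succ', mul_comm]
  refine Dm.mul (by positivity) (fun n => ?_) (by positivity) (bd_prod (by positivity) _ fun i _ => ?_)
  · rcases n with _ | n
    · simpa [Wf, wt] using by positivity
    · simp only [Wf, wt, coeff_mk, zero_add, one_dvd, if_true, Nat.div_one]
      exact le_of_eq (by rw [inv_pow]; field_simp; ring)
  · have h1 : q * q⁻¹ ^ (i + 2) = q⁻¹ ^ (i + 1) := by rw [pow_succ', mul_inv_cancel_left₀ h0.ne']
    rw [← h1]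
    exact bd_of_mul (by positivity) (nn_Wf (by positivity) h0.le _) h0.le hs
      (by simpa using Wf_mul (a := q + s) (q := q) (i + 1).succ_pos)
      (h1 ▸ pow_lt_one₀ (by positivity) (inv_lt_one_of_one_lt₀ hq) i.succ_ne_zero)

/-- A bound for an infinite product from a finite one and a bound on the tail factors. -/
theorem prod_le_of_tail {r : ℕ → ℝ} {y t B D : ℝ} {N : ℕ} (hy : 0 ≤ y) (h1 : ∀ i, 1 ≤ r i)
    (h2 : ∀ i, N ≤ i → r i ≤ 1 + t * y ^ i) (ht : 0 ≤ t) (hD : 0 ≤ D) (h3 : B * t + D * y ≤ D)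
    (h4 : ∏ i ∈ range N, r i ≤ B - D * y ^ N) (n : ℕ) : ∏ i ∈ range n, r i ≤ B := by
  have h5 : ∀ k, ∏ i ∈ range (N + k), r i ≤ B - D * y ^ (N + k) := fun k => by
    induction k with
    | zero => exact h4
    | succ k ih =>
      rw [← add_assoc, prod_range_succ, pow_succ]
      have h6 : 0 ≤ ∏ i ∈ range (N + k), r i := prod_nonneg fun i _ => by linarith [h1 i]
      have h7 := pow_nonneg hy (N + k)
      refine (mul_le_mul ih (h2 _ (Nat.le_add_right _ _)) (by linarith [h1 (N + k)])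
        (h6.trans ih)).trans ?_
      nlinarith [mul_le_mul_of_nonneg_right h3 h7, mul_nonneg (mul_nonneg hD ht) (mul_nonneg h7 h7)]
  refine (prod_le_prod_of_subset_of_one_le (range_subset_range.2 (Nat.le_add_left n N))
    (fun i _ => by linarith [h1 i]) fun i _ _ => h1 i).trans ((h5 n).trans ?_)
  linarith [mul_nonneg hD (pow_nonneg hy (N + n))]

end Cfsg.Agent.Classical.Kn
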