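import Cfsg.Agent.Classical.Kn1

/-! The combinatorial model of the classes of `SL_n` and `SU_n`: tuples `Tu A q n` of "polynomials"
(`Md A q`), the set `Sl A q n c` and Macdonald's bound `sl_bound`. -/

set_option autoImplicit false

namespace Cfsg.Agent.Classical.Kn

open PowerSeries Finset Function

theorem gf_mul_le {T : Type*} {dg : T → ℕ} {a q : ℝ}
    (h : ∀ m, Finite {x // dg x = m} ∧ (Nat.card {x // dg x = m} : ℝ) ≤ wt a q m) {i : ℕ} (hi : 0 < i) :
    (∀ m, Finite {x // i * dg x = m}) ∧ Le (gf fun x => i * dg x) (Wf a q i) := by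
  have h1 : ∀ m, i ∣ m → ∀ x, i * dg x = m ↔ dg x = m / i := fun m ⟨k, hk⟩ x => by
    rw [hk, Nat.mul_div_cancel_left _ hi, Nat.mul_right_inj hi.ne']
  have h2 : ∀ m, ¬ i ∣ m → IsEmpty {x // i * dg x = m} := fun m hm => ⟨fun x => hm ⟨_, x.2.symm⟩⟩
  refine ⟨fun m => ?_, fun m => ?_⟩
  · by_cases hm : i ∣ m
    · simpa only [h1 m hm] using (h _).1
    · have := h2 m hm
      infer_instance
  · simp only [gf, Wf, coeff_mk]
    split_ifs with hm
    · simpa only [h1 m hm] using (h _).2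
    · simp [h2 m hm]

theorem card_le_sigma {X α : Type*} [Finite X] [Finite α] (f : X → α) (b : α → ℕ)
    (h : ∀ a, Nat.card {x // f x = a} ≤ b a) : Nat.card X ≤ Nat.card (Σ a, Fin (b a)) := by
  have := Fintype.ofFinite α
  rw [← Nat.card_congr (Equiv.sigmaFiberEquiv f), Nat.card_sigma, Nat.card_sigma]
  exact sum_le_sum fun a _ => by simpa using h a

theorem exists_rank {X : Type*} {P : X → Prop} {N : ℕ} (h : Finite {x // P x} ∧ Nat.card {x // P x} ≤ N) :
    ∃ r : X → ℕ, (∀ x, P x → r x < N) ∧ ∀ x y, P x → P y → r x = r y → x = y := by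
  classical
  have := h.1
  refine ⟨fun x => if hx : P x then Finite.equivFin {x // P x} ⟨x, hx⟩ else 0, fun x hx => ?_,
    fun x y hx hy e => ?_⟩
  · exact (dif_pos hx).trans_lt ((Fin.is_lt _).trans_le h.2)
  · simp only [dif_pos hx, dif_pos hy] at e
    exact congrArg Subtype.val ((Finite.equivFin _).injective (Fin.ext e))

theorem pow_gcd_mem {C : Type*} [CommGroup C] (H : Subgroup C) (s : Finset ℕ)
    (h : ∀ i ∈ s, ∀ c : C, c ^ i ∈ H) (c : C) : c ^ s.gcd id ∈ H := by
  rw [← QuotientGroup.eq_one_iff, QuotientGroup.mk_pow, ← orderOf_dvd_iff_pow_eq_one]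
  exact dvd_gcd fun i hi => orderOf_dvd_iff_pow_eq_one.2 ((QuotientGroup.eq_one_iff _).2 (h i hi c))

theorem index_le_gcd {C : Type*} [CommGroup C] [Finite C] [IsCyclic C] (H : Subgroup C) (s : Finset ℕ)
    (h : ∀ i ∈ s, ∀ c : C, c ^ i ∈ H) : H.index ≤ (Nat.card C).gcd (s.gcd id) := by
  rw [← IsCyclic.index_powMonoidHom_range]
  exact Subgroup.index_antitone fun _ ⟨c, hc⟩ => hc ▸ pow_gcd_mem H s h c

variable (A : Type*) [CommGroup A] (q : ℕ)

/-- model of the monic polynomials: degree, constant term and the other coefficients -/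
@[ext] structure Md where
  /-- degree -/
  dg : ℕ
  /-- constant term -/
  ct : A
  /-- the other coefficients -/
  rk : ℕ
  h0 : dg = 0 → ct = 1
  h1 : rk < q ^ (dg - 1)

instance mdZero : Zero (Md A q) := ⟨⟨0, 1, 0, fun _ => rfl, by simp⟩⟩

/-- tuples of total degree `n` -/
abbrev Tu (n : ℕ) : Type _ := {u : ℕ →₀ Md A q // u 0 = 0 ∧ (u.sum fun i x => i * x.dg) = n}

variable {A q}

/-- determinant of a tuple -/
def dt (u : ℕ →₀ Md A q) : A := u.prod fun i x => x.ct ^ i

variable (A q) in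
/-- model of the classes of `SL_n` inside the coset of determinant `c` -/
abbrev Sl (n : ℕ) (c : A) : Type _ :=
  Σ u : {u : Tu A q n // dt u.1 = c}, Fin ((Nat.card A).gcd (u.1.1.support.gcd id))

theorem md_eq_zero {x : Md A q} : x.dg = 0 ↔ x = 0 := by
  refine ⟨fun h => Md.ext h (x.h0 h) ?_, fun h => h ▸ rfl⟩
  have := x.h1
  rw [h] at this
  exact Nat.lt_one_iff.1 this

theorem card_md [Finite A] (m : ℕ) : Finite {x : Md A q // x.dg = m} ∧
    (Nat.card {x : Md A q // x.dg = m} : ℝ) ≤ wt (Nat.card A) q m := by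
  let φ : {x : Md A q // x.dg = m} → A × Fin (q ^ (m - 1)) := fun x => (x.1.ct, ⟨_, x.2 ▸ x.1.h1⟩)
  have h : Injective φ := fun x y e => Subtype.ext (Md.ext (x.2.trans y.2.symm)
    (congrArg Prod.fst e :) (congrArg (fun z => z.2.1) e :))
  refine ⟨.of_injective _ h, ?_⟩
  rcases m with _ | m
  · simp [md_eq_zero, wt]
  · simpa [wt] using (Nat.cast_le (α := ℝ)).2 (Nat.card_le_card_of_injective _ h)

variable {n : ℕ}

theorem tu_dvd (u : Tu A q n) : u.1.support.gcd id ∣ n :=
  (dvd_sum fun _ hi => (gcd_dvd hi).mul_right _).trans u.2.2.dvd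

theorem card_tu [Finite A] (n : ℕ) : Finite (Tu A q n) ∧ (Nat.card (Tu A q n) : ℝ) ≤ Kc (Nat.card A) q n := by
  have h0 := fun i : ℕ => gf_mul_le (card_md (A := A) (q := q)) i.succ_pos
  obtain ⟨h1, h2⟩ := card_tuples (ι := Fin n) (fun i (x : Md A q) => (i + 1) * x.dg) (fun i => (h0 i).1) n
  have h3 : ∀ u : Tu A q n, u.1.support ⊆ range (n + 1) := fun u i hi => mem_range.2 (Nat.lt_succ_of_le
    ((Nat.le_mul_of_pos_right _ (Nat.pos_of_ne_zero (mt md_eq_zero.1 (Finsupp.mem_support_iff.1 hi)))).trans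
      ((single_le_sum (f := fun i => i * (u.1 i).dg) (fun _ _ => Nat.zero_le _) hi).trans_eq u.2.2)))
  let φ : Tu A q n → {v : Fin n → Md A q // ∑ i : Fin n, (i + 1) * (v i).dg = n} := fun u =>
    ⟨fun i => u.1 (i + 1), by
      have := u.2.2
      rwa [Finsupp.sum_of_support_subset _ (h3 u) _ (fun _ _ => rfl), sum_range_succ', zero_mul, add_zero,
        sum_range] at this⟩
  have h : Injective φ := fun u v e => Subtype.ext (Finsupp.ext fun i => by
    rcases i with _ | i
    · rw [u.2.1, v.2.1]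
    by_cases hi : i < n
    · exact congrFun (congrArg Subtype.val e) ⟨i, hi⟩
    · rw [Finsupp.notMem_support_iff.1 fun h => hi (by simpa using h3 u h),
        Finsupp.notMem_support_iff.1 fun h => hi (by simpa using h3 v h)])
  refine ⟨.of_injective _ h, ((Nat.cast_le.2 (Nat.card_le_card_of_injective _ h)).trans_eq h2).trans ?_⟩
  rw [Kc, prod_range]
  exact le_prod univ (fun _ _ => nn_gf _) (fun (i : Fin n) _ => (h0 i).2) n

instance tuFinite [Finite A] : Finite (Tu A q n) := (card_tu n).1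

theorem card_dvd_le [Finite A] {d : ℕ} (hd : 0 < d) :
    Nat.card {u : Tu A q n // d ∣ u.1.support.gcd id} ≤ Nat.card (Tu A q (n / d)) := by
  have hi : Injective (d * ·) := mul_right_injective₀ hd.ne'
  have h1 : ∀ u : {u : Tu A q n // d ∣ u.1.support.gcd id},
      Finsupp.embDomain ⟨_, hi⟩ (u.1.1.comapDomain (d * ·) hi.injOn) = u.1.1 := fun u =>
    Finsupp.embDomain_comapDomain fun i hi' => by
      obtain ⟨k, hk⟩ := u.2.trans (gcd_dvd hi')
      exact ⟨k, hk.symm⟩
  refine Nat.card_le_card_of_injective (fun u => ⟨u.1.1.comapDomain (d * ·) hi.injOn, u.1.2.1, ?_⟩)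
    fun u v e => Subtype.ext (Subtype.ext ?_)
  · have := u.1.2.2
    rw [← h1 u, Finsupp.sum_embDomain] at this
    refine (Nat.div_eq_of_eq_mul_right hd (this.symm.trans ?_)).symm
    simp [Finsupp.sum, mul_sum, mul_assoc]
  · rw [← h1 u, ← h1 v, show u.1.1.comapDomain _ _ = _ from congrArg Subtype.val e]

/-- change of the constant term -/
def act (t : A) (x : Md A q) : Md A q :=
  ⟨x.dg, if x.dg = 0 then 1 else t * x.ct, x.rk, fun h => if_pos h, x.h1⟩

theorem act_inj (t : A) : Injective (act t : Md A q → _) := fun x y e => by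
  have h1 : x.dg = y.dg := (congrArg Md.dg e :)
  have h2 := congrArg Md.ct e
  refine Md.ext h1 ?_ (congrArg Md.rk e :)
  by_cases h : x.dg = 0
  · rw [x.h0 h, y.h0 (h1 ▸ h)]
  · simpa [act, h, h1 ▸ h] using h2

theorem act_zero (t : A) : act t (0 : Md A q) = 0 := md_eq_zero.1 rfl

theorem exists_prod_pow (s : Finset ℕ) (c : A) : ∃ t : ℕ → A, ∏ i ∈ s, t i ^ i = c ^ s.gcd id := by
  classical
  let φ : (ℕ → A) →* A := ∏ i ∈ s, (powMonoidHom i).comp (Pi.evalMonoidHom _ i)
  obtain ⟨t, ht⟩ := pow_gcd_mem φ.range s (fun i hi c => ⟨Pi.mulSingle i c, by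
    simp only [φ, MonoidHom.finsetProd_apply, MonoidHom.comp_apply, Pi.evalMonoidHom_apply,
      powMonoidHom_apply]
    rw [prod_eq_single_of_mem i hi fun j _ h => by simp [h], Pi.mulSingle_eq_same]⟩) c
  exact ⟨t, by simpa [φ] using ht⟩

theorem sl_le_sum [Finite A] [IsCyclic A] [Fintype (Tu A q n)] (c : A) :
    Nat.card A * Nat.card (Sl A q n c) ≤ ∑ v : Tu A q n, (Nat.card A).gcd (v.1.support.gcd id) ^ 2 := by
  classical
  have := Fintype.ofFinite A
  choose t ht using fun (s : Finset ℕ) (h : (powMonoidHom (s.gcd id) : A →* A).range) =>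
    (exists_prod_pow s h.2.choose).imp fun _ e => e.trans h.2.choose_spec
  let m : ∀ u : ℕ →₀ Md A q, (ℕ → A) → ℕ →₀ Md A q := fun u t =>
    ⟨u.support, fun i => act (t i) (u i), fun i => by
      rw [Finsupp.mem_support_iff, ← act_zero (t i), (act_inj _).ne_iff, act_zero]⟩
  have h1 : ∀ u t, dt (m u t) = (∏ i ∈ u.support, t i ^ i) * dt u := fun u t => by
    rw [dt, dt, Finsupp.prod, Finsupp.prod, ← prod_mul_distrib]
    exact prod_congr rfl fun i hi => by
      simp [m, act, mt md_eq_zero.1 (Finsupp.mem_support_iff.1 hi), mul_pow]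
  let φ : (Σ u : {u : Tu A q n // dt u.1 = c},
      (powMonoidHom (u.1.1.support.gcd id) : A →* A).range) → Tu A q n := fun x =>
    ⟨m x.1.1.1 (t _ x.2), (congrArg _ x.1.1.2.1).trans (act_zero _), x.1.1.2.2⟩
  have h2 : Injective φ := by
    rintro ⟨⟨⟨⟨s, u, hu⟩, _⟩, h3⟩, h⟩ ⟨⟨⟨⟨s', u', hu'⟩, _⟩, h3'⟩, h'⟩ e
    have e := congrArg Subtype.val e
    obtain rfl : s = s' := congrArg Finsupp.support e
    have h4 := congrArg dt e
    rw [h1, h1, h3, h3', mul_left_inj, ht, ht] at h4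
    obtain rfl : h = h' := Subtype.ext h4
    obtain rfl : u = u' := funext fun i => act_inj _ (DFunLike.congr_fun e i)
    rfl
  refine le_trans (le_of_eq ?_) ((sum_le_sum_of_subset (subset_univ (univ.map ⟨φ, h2⟩))))
  rw [sum_map, Nat.card_sigma, mul_sum, ← univ_sigma_univ, sum_sigma]
  refine sum_congr rfl fun u _ => ?_
  simp only [Embedding.coeFn_mk, φ, m, sum_const, card_univ, smul_eq_mul, ← Nat.card_eq_fintype_card]
  rw [IsCyclic.card_powMonoidHom_range, sq, ← mul_assoc, Nat.div_mul_cancel (Nat.gcd_dvd_left _ _),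
    Nat.card_eq_fintype_card (α := Fin _), Fintype.card_fin]

/-- Macdonald's formula for the number of classes of `SL_n`, as an upper bound. -/
theorem sl_bound [Finite A] [IsCyclic A] (c : A) :
    (Nat.card A * Nat.card (Sl A q n c) : ℝ) ≤ Kc (Nat.card A) q n +
      ∑ d ∈ (n.gcd (Nat.card A)).divisors.erase 1, ((d : ℝ) ^ 2 - 1) * Kc (Nat.card A) q (n / d) := by
  classical
  have := Fintype.ofFinite (Tu A q n)
  have h1 := (Nat.cast_le (α := ℝ)).2 (sl_le_sum (q := q) (n := n) c)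
  have h0 : ∀ d ∈ (n.gcd (Nat.card A)).divisors.erase 1, (0 : ℝ) ≤ (d : ℝ) ^ 2 - 1 := fun d hd =>
    sub_nonneg.2 (one_le_pow₀ (Nat.one_le_cast.2 (Nat.pos_of_mem_divisors (mem_of_mem_erase hd))))
  push_cast at h1
  refine h1.trans (le_trans (sum_le_sum fun v _ => ?_ : _ ≤ ∑ v : Tu A q n, (1 + ∑ d ∈
    (n.gcd (Nat.card A)).divisors.erase 1, if d ∣ v.1.support.gcd id then (d : ℝ) ^ 2 - 1 else 0)) ?_)
  · by_cases h : (Nat.card A).gcd (v.1.support.gcd id) = 1
    · simpa [h] using sum_nonneg fun d hd => ite_nonneg (h0 d hd) le_rfl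
    · have := single_le_sum (f := fun d => if d ∣ v.1.support.gcd id then (d : ℝ) ^ 2 - 1 else 0)
        (fun d hd => ite_nonneg (h0 d hd) le_rfl) (mem_erase.2 ⟨h, Nat.mem_divisors.2
          ⟨Nat.dvd_gcd ((Nat.gcd_dvd_right _ _).trans (tu_dvd v)) (Nat.gcd_dvd_left _ _),
            (Nat.gcd_pos_of_pos_right _ (Nat.card_pos (α := A))).ne'⟩⟩)
      rw [if_pos (Nat.gcd_dvd_right _ _)] at this
      linarith
  · rw [sum_add_distrib, sum_comm]
    refine add_le_add (by simpa using (card_tu (A := A) (q := q) n).2) (sum_le_sum fun d hd => ?_)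
    rw [← sum_filter, sum_const, nsmul_eq_mul, mul_comm, ← Fintype.card_subtype, ← Nat.card_eq_fintype_card]
    exact mul_le_mul_of_nonneg_left ((Nat.cast_le.2 (card_dvd_le (Nat.pos_of_mem_divisors
      (mem_of_mem_erase hd)))).trans (card_tu _).2) (h0 d hd)

end Cfsg.Agent.Classical.Kn
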