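import Cfsg.Agent.Classical.Eig7
import Cfsg.Agent.Mult.GLss

/-! Semisimple classes of the special unitary groups. -/

namespace Cfsg.Agent.Classical.Eig

open Module Polynomial Cfsg.Agent.Elu Cfsg.Agent.Geom Cfsg.Agent.Geom.Formed

universe u

variable {F : Type u} [Field F] [Finite F] {V : Type u} [AddCommGroup V] [Module F V]
  [FiniteDimensional F V] {f z z' : End F V}

omit [Finite F] [FiniteDimensional F V] in
theorem commute_aeval (h : Commute z f) (a : F[X]) : Commute z (aeval f a) := by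
  rw [aeval_eq_sum_range]
  exact Commute.sum_right _ _ _ fun i _ => (h.pow_right i).smul_right _

theorem exists_aeval_kerA {g : F[X]} (hg : Irreducible g) (hm : g.Monic)
    (hd : kd f g = g.natDegree) (h : Commute z f) :
    ∃ a : F[X], ∀ w ∈ kerA f g, z w = aeval f a w := by
  obtain ⟨v, hv, h0⟩ := (kerA f g).exists_mem_ne_zero_of_ne_bot fun e => by
    rw [kd, show LinearMap.ker _ = _ from e, finrank_bot] at hd
    exact hg.natDegree_pos.ne hd
  have h1 : cyc f v = kerA f g := Submodule.eq_of_le_of_finrank_eq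
    ((inv_ker_aeval f g).cyc_le hv) ((finrank_cyc hg hm hv h0).trans hd.symm)
  obtain ⟨a, ha⟩ := mem_cyc.1 (h1.ge (x := z v) (by
    rw [mem_kerA, ← End.mul_apply, ← (commute_aeval h g).eq, End.mul_apply, hv, map_zero]))
  refine ⟨a, fun w hw => ?_⟩
  obtain ⟨b, rfl⟩ := mem_cyc.1 (h1.ge hw)
  rw [← End.mul_apply z, (commute_aeval h b).eq, End.mul_apply, ← ha, aeval_comm_apply]

theorem apply_comm_kerA {g : F[X]} (hg : Irreducible g) (hm : g.Monic) (hd : kd f g = g.natDegree)
    (h : Commute z f) (h' : Commute z' f) {w : V} (hw : w ∈ kerA f g) : z (z' w) = z' (z w) := by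
  obtain ⟨a, ha⟩ := exists_aeval_kerA hg hm hd h
  rw [ha w hw, ← End.mul_apply z', (commute_aeval h' a).eq, End.mul_apply, ha]
  rw [mem_kerA, ← End.mul_apply, ← (commute_aeval h' g).eq, End.mul_apply, hw, map_zero]

theorem HasF.comm_of_single {δ : ℤ} {ζ : Kb F} (hf : HasF δ f {(ζ, 1)}) (h : Commute z f)
    (h' : Commute z' f) : Commute z z' := by
  classical
  have h1 := hf.2
  rw [Multiset.singleton_bind, ex] at h1
  have h2 : ∀ ξ η : Kb F, gdeg (mp ξ) (mp η) = if mp ξ = mp η then (mp ξ).natDegree else 0 :=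
    fun ξ η => by simpa using gdeg_mp ξ η 1 1
  refine LinearMap.ext fun v => ?_
  split_ifs at h1 with e
  · refine apply_comm_kerA (mp_irr ζ) (mp_monic ζ) (by simp [kd_eq, h1, blk, h2]) h h' ?_
    rw [mem_kerA, aeval_eq_zero_iff.2 (by simp [h1, blk])]; rfl
  · have h3 : mp ζ ≠ mp (ζ ^ δ) := fun e' => e (mp_eq_iff.1 e')
    obtain ⟨a, b, rfl⟩ := exists_add_of_isCompl (isCompl_kerA (f := f)
      (isCoprime_of_ne (mp_irr _) (mp_monic _) (mp_irr _) (mp_monic _) h3)
      (aeval_eq_zero_iff.2 (by simp [h1, blk]))) v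
    simp only [End.mul_apply, map_add]
    rw [apply_comm_kerA (mp_irr ζ) (mp_monic ζ) (by simp [kd_eq, h1, blk, h2, h3.symm]) h h' a.2,
      apply_comm_kerA (mp_irr _) (mp_monic _) (by simp [kd_eq, h1, blk, h2, h3]) h h' b.2]

omit [Finite F] in
theorem det_adj {σ : F →+* F} {Φ : Formed σ V} (hn : Φ.Nondeg) (f : End F V) :
    LinearMap.det (adj hn f) = σ (LinearMap.det f) := by
  classical
  let b := finBasis F V
  let G : Matrix _ _ F := .of fun i j => Φ.B (b i) (b j)
  have h1 : ((LinearMap.toMatrix b b (adj hn f)).map σ).transpose * G =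
      G * LinearMap.toMatrix b b f := by
    ext i j
    have := B_adj hn f (b i) (b j)
    rw [← b.sum_repr (adj hn f (b i)), ← b.sum_repr (f (b j))] at this
    simpa [Matrix.mul_apply, LinearMap.toMatrix_apply, G, mul_comm, -Basis.sum_repr] using this
  have h2 : G.det ≠ 0 := fun e => by
    obtain ⟨v, hv, h⟩ := Matrix.exists_mulVec_eq_zero_iff.2 e
    refine hv (b.equivFun.symm.injective (hn.right _ (fun x => ?_) |>.trans (map_zero _).symm))
    exact LinearMap.congr_fun (b.ext (f₁ := Φ.B.flip (b.equivFun.symm v)) (f₂ := 0) fun i => by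
      simpa [Matrix.mulVec, dotProduct, G, mul_comm] using congrFun h i) x
  have h3 := congrArg Matrix.det h1
  rw [Matrix.det_mul, Matrix.det_mul, mul_comm, mul_right_inj' h2, Matrix.det_transpose,
    ← RingHom.mapMatrix_apply, ← RingHom.map_det, LinearMap.det_toMatrix,
    LinearMap.det_toMatrix] at h3
  rw [← h3, Φ.σσ]

/-- The centraliser of a unitary element with a semisimple block has all determinants. -/
theorem exists_cent_det_ss {p : ℕ} [Fact p.Prime] [CharP F p] {σ : F →+* F} {Φ : Formed σ V}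
    (hn : Φ.Nondeg) (hε : Φ.ε = 1) (hσ1 : σ ≠ RingHom.id F) {j : ℕ} (hσ : ∀ c, σ c = c ^ p ^ j)
    (hF : Nat.card F = (p ^ j) ^ 2) (x : Φ.isom) {ζ : Kb F} {A : Multiset (Kb F × ℕ)}
    (h : HasF (-(p ^ j : ℕ)) (x.1 : End F V) ((ζ, 1) ::ₘ A)) {c : Fˣ} (hc : σ c * c = 1) :
    ∃ w : Φ.isom, w * x = x * w ∧ LinearEquiv.det w.1 = c := by
  have h1 := h.dim
  rw [eig_herm hF, ← tdim_eq_card, tdim_cons] at h1
  dsimp only at h1
  obtain ⟨U, hU, h2⟩ := Spu.exists_nd (.inr ⟨hσ1, hε⟩) hn (l := per (-(p ^ j : ℕ)) ζ * 1)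
    (by omega) fun e => absurd e hσ1
  have h3 := hn.finrank_add_finrank_perp U
  obtain ⟨y₁, h4⟩ := real_herm hU hε hσ1 hσ hF (A := {(ζ, 1)}) (by simp) (by simp [h2])
  obtain ⟨y₂, h5⟩ := real_herm (hn.restrict_perp hU) hε hσ1 hσ hF (pos_cons.1 h.pos).2 (by omega)
  obtain ⟨f, a, b, h6, h7, h8⟩ := exists_iso_sum hn hU (iso_coe.2 y₁.2) (iso_coe.2 y₂.2)
  obtain ⟨y, rfl⟩ := h6.exists_isom hn
  obtain ⟨k, rfl⟩ := isConj_iff.1 ((isConj_herm_iff hσ1 hn (x := y) (y := x)).2
    (exists_equiv_iff.2 (by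
      rw [elemDiv_of_isCompl (hn.isCompl_perp hU) a b, h7, h8, h4.2, h5.2, h.2, ← Multiset.map_add,
        ← Multiset.add_bind, Multiset.singleton_add])))
  obtain ⟨θ, hθ⟩ : ∃ θ, σ θ ≠ θ := not_forall.1 fun e => hσ1 (RingHom.ext e)
  obtain ⟨e, he⟩ := exists_h90_comm σ (θ := θ) (u := c) (sub_ne_zero.2 hθ.symm).isUnit
    (by rwa [mul_comm])
  obtain ⟨z, h9, h10⟩ := exists_commute_det (f := (y₁.1 : End F U)) (mp_irr ζ)
    (h4.2 ▸ Multiset.mem_map.2 ⟨_, (mem_bind_ex (Multiset.mem_singleton_self _)).1, pow_one _⟩)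
    (e + c * σ e)
  have h11 : IsUnit (adj hU z) := (LinearMap.isUnit_iff_isUnit_det _).2 (by
    rw [det_adj, h10]; exact he.map σ)
  have h12 : Commute (adj hU z) y₁.1 := by
    have := congrArg (adj hU) h9
    rw [adj_mul, adj_mul, adj_isom hU y₁.2.1] at this
    refine LinearMap.ext fun v => ?_
    simpa using congrArg y₁.1 (LinearMap.congr_fun this (y₁.1 v))
  obtain ⟨t, ht⟩ := h11
  have h13 : Commute (t⁻¹ : (End F U)ˣ).1 y₁.1 := Commute.units_inv_left (ht ▸ h12)
  have h14 : Iso (Φ.restrict U) (z * (t⁻¹ : (End F U)ˣ).1) :=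
    (Spu.iso (Φ := Φ.restrict U) (.inr ⟨hσ1, hε⟩)).2 fun u v => by
      rw [End.mul_apply, ← B_adj' hU, ← End.mul_apply, ← mul_assoc,
        ← (h4.comm_of_single h9 h12).eq, ← ht, mul_assoc, t.mul_inv, mul_one, ← B_adj hU, ← ht,
        ← End.mul_apply, t.mul_inv, End.one_apply]
  obtain ⟨w, hw⟩ := h14.exists_isom hU
  obtain ⟨w', h15, h16⟩ := exists_cent_of_sub hn y hU (mem_stab_of_le a) w fun u => by
    have : ∀ u, restrictStab y.1 (mem_stab_of_le a) u = y₁.1 u := fun u =>
      Subtype.ext (congrArg Subtype.val (LinearMap.congr_fun h7 u))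
    simp only [this]
    exact LinearMap.congr_fun (hw ▸ (Commute.mul_left h9 h13).eq) u
  refine ⟨k * w' * k⁻¹, by simp [mul_assoc]; simp [← mul_assoc, h15], ?_⟩
  rw [Subgroup.coe_mul, Subgroup.coe_mul, map_mul, map_mul, mul_right_comm, ← map_mul,
    ← Subgroup.coe_mul, mul_inv_cancel, Subgroup.coe_one, map_one, one_mul, h16]
  have h17 := congrArg LinearMap.det t.mul_inv
  rw [map_mul, ht, det_adj, h10, map_one] at h17
  refine Units.ext (mul_right_cancel₀ (he.map σ).ne_zero ?_)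
  rw [LinearEquiv.coe_det, hw, map_mul, h10, mul_assoc, mul_comm (LinearMap.det _), h17, map_add, map_mul,
    Φ.σσ]
  linear_combination (-e) * hc

variable {K : Type u} [Field K] [Fintype K] {q n : ℕ} (hK : Fintype.card K = q ^ 2) (p : ℕ)
  [Fact p.Prime] [CharP K p]
include hK

theorem isConj_SU_of_charpoly {g h : SU n K q} (hg : (orderOf g).Coprime p)
    (hh : (orderOf h).Coprime p) (hc : g.1.1.charpoly = h.1.1.charpoly) : IsConj g h := by
  have := Fact.mk hK
  have h1 := fun x : SU n K q => (orderOf_injective _ Matrix.SpecialLinearGroup.toGL_injective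
    x.1).trans (Subgroup.orderOf_coe x)
  rw [← h1] at hg hh
  rcases n.eq_zero_or_pos with rfl | h0
  · rw [show g = h from Subtype.ext (Subtype.ext (Subsingleton.elim _ _))]
  refine isConj_SU_of_det hK (isConj_units_iff.1 (Mult.isConj_of_charpoly p hg hh hc)) fun c hc => ?_
  obtain ⟨A, h2, h3⟩ := exists_hasF_GU hK (suToGU n K q g)
  rcases A.empty_or_exists_mem with rfl | ⟨⟨ζ, e⟩, hz⟩
  · exact absurd h3 h0.ne
  have h4 := (Mult.irr_of_coprime p hg (h2.2 ▸ Multiset.mem_map.2 ⟨_, (mem_bind_ex hz).1, rfl⟩)).1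
  obtain rfl : e = 1 := by
    have := h2.pos _ hz
    by_contra h5
    exact not_irreducible_pow h5 h4
  obtain ⟨A, rfl⟩ := Multiset.exists_cons_of_mem hz
  obtain ⟨j, rfl⟩ := exists_pow_char (p := p) hK
  refine exists_cent_det_ss (ζ := ζ) (A := A) (hermFormed_nondeg hK n) rfl (frobq_ne_id hK)
    (fun _ => rfl) (Nat.card_eq_fintype_card.trans hK) _ ?_ (frobq_mul_self hK hc)
  rwa [coe_guEquiv, coe_glEquiv]

theorem card_fix_semi {W : Type*} [AddCommGroup W] [Module K W] [Finite W] (τ : W →+ W)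
    (h1 : ∀ w, τ (τ w) = w) (h2 : ∀ (c : K) w, τ (c • w) = frobq hK c • τ w) :
    Nat.card {w // τ w = w} ^ 2 = Nat.card W := by
  obtain ⟨θ, hθ⟩ : ∃ θ, frobq hK θ ≠ θ := not_forall.1 fun e => frobq_ne_id hK (RingHom.ext e)
  have h3 : θ - frobq hK θ ≠ 0 := sub_ne_zero.2 hθ.symm
  rw [sq, ← Nat.card_prod]
  refine Nat.card_eq_of_bijective (fun x => x.1.1 + θ • x.2.1) ⟨fun x y e => ?_, fun w => ?_⟩
  · have h4 := congrArg τ e
    simp only [map_add, h2, x.1.2, x.2.2, y.1.2, y.2.2] at h4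
    have h5 : x.2.1 = y.2.1 := smul_right_injective W h3 (by
      dsimp only at e ⊢
      linear_combination (norm := module) e - h4)
    exact Prod.ext (Subtype.ext (by simpa [h5] using e)) (Subtype.ext h5)
  · have h4 : frobq hK (θ - frobq hK θ)⁻¹ = -(θ - frobq hK θ)⁻¹ := by
      rw [map_inv₀, map_sub, frobq_frobq, ← inv_neg, neg_sub]
    refine ⟨(⟨(θ - frobq hK θ)⁻¹ • (θ • τ w - frobq hK θ • w), ?_⟩,
      ⟨(θ - frobq hK θ)⁻¹ • (w - τ w), ?_⟩), ?_⟩
    · rw [h2, h4, map_sub, h2, h2, h1, frobq_frobq]; module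
    · rw [h2, h4, map_sub, h1]; module
    · dsimp only
      rw [smul_comm θ, ← smul_add]
      exact (inv_smul_eq_iff₀ h3).2 (by module)

theorem charpoly_adj (g : GL (Fin n) K) (h : g.1.det = 1) :
    ((g⁻¹.1.map (frobq hK)).transpose).charpoly =
      C ((-1) ^ n) * (reflect n g.1.charpoly).map (frobq hK) := by
  rw [Matrix.charpoly_transpose, Matrix.charpoly_map, Matrix.coe_units_inv,
    Matrix.charpoly_inv _ g.isUnit, h, ← Matrix.reverse_charpoly, reverse,
    Matrix.charpoly_natDegree_eq_dim]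
  simp

theorem card_ss_SU (hn : 1 ≤ n) : Nat.card {c : ConjClasses (SU n K q) //
    ∃ g, ConjClasses.mk g = c ∧ (orderOf g).Coprime p} = q ^ (n - 1) := by
  have := Fact.mk hK
  have hε : ((-1 : K) ^ n) * (-1) ^ n = 1 := by rw [← mul_pow]; simp
  let φ : SU n K q →* Matrix (Fin n) (Fin n) K :=
    (Units.coeHom _).comp ((GU n K q).subtype.comp (suToGU n K q))
  rw [card_classes_of_inv _ (fun g => g.1.1.charpoly) (fun f => (f.Monic ∧ f.natDegree = n ∧
      f.coeff 0 = (-1) ^ n) ∧ C ((-1) ^ n) * (reflect n f).map (frobq hK) = f)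
    (fun g h hg hh => ⟨Mult.charpoly_of_isConj φ, isConj_SU_of_charpoly hK p hg hh⟩)
    fun f => ⟨fun ⟨⟨h1, h2, h3⟩, h4⟩ => ?_, ?_⟩]
  · let W : Submodule K K[X] := degreeLT K n ⊓ LinearMap.ker (lcoeff K 0)
    have hW : ∀ f, f ∈ W ↔ (∀ i, n ≤ i → f.coeff i = 0) ∧ f.coeff 0 = 0 := fun f => by
      simp [W, mem_degreeLT, degree_lt_iff_coeff_zero]
    have h0 : ∀ f : K[X], (f.Monic ∧ f.natDegree = n ∧ f.coeff 0 = (-1) ^ n) ↔
        f - (X ^ n + C ((-1) ^ n)) ∈ W := fun f => by
      have h1 : (X ^ n + C ((-1) ^ n) : K[X]).coeff 0 = (-1) ^ n := by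
        rw [coeff_add, coeff_C_zero, coeff_X_pow, if_neg (by omega), zero_add]
      rw [Submodule.mem_inf, mem_degreeLT, LinearMap.mem_ker, lcoeff_apply, coeff_sub, h1,
        sub_eq_zero, ← and_assoc]
      refine and_congr_left' ⟨fun h => ?_, fun h => ?_⟩
      · have h3 : f.degree = n := (degree_eq_iff_natDegree_eq h.1.ne_zero).2 h.2
        exact h3 ▸ degree_sub_lt_left (h3.trans (degree_X_pow_add_C hn _).symm) h.1.ne_zero
          (h.1.leadingCoeff.trans (leadingCoeff_X_pow_add_C hn).symm)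
      · rw [← degree_X_pow_add_C (R := K) hn ((-1) ^ n)] at h
        rw [← sub_add_cancel f (X ^ n + C ((-1) ^ n))]
        exact ⟨(monic_X_pow_add_C _ (by omega)).add_of_right h,
          (natDegree_add_eq_right_of_degree_lt h).trans natDegree_X_pow_add_C⟩
    let T : K[X] →+ K[X] := ⟨⟨fun f => C ((-1) ^ n) * (reflect n f).map (frobq hK), by simp⟩,
      fun _ _ => by simp [mul_add]⟩
    have hT : ∀ f i, (T f).coeff i = (-1) ^ n * frobq hK (f.coeff (revAt n i)) := fun f i => by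
      simp only [T, AddMonoidHom.coe_mk, ZeroHom.coe_mk, coeff_C_mul, coeff_map, coeff_reflect]
    have h1 : T (X ^ n + C ((-1) ^ n)) = X ^ n + C ((-1) ^ n) := by
      change C _ * map _ (reflect _ _) = _
      rw [reflect_add, reflect_C, reflect_monomial, revAt_le le_rfl, tsub_self, pow_zero,
        Polynomial.map_add, Polynomial.map_mul, map_C, Polynomial.map_one, Polynomial.map_pow, map_X,
        map_pow (frobq hK), map_neg, map_one, mul_add, ← mul_assoc, ← C_mul, hε, C_1, one_mul,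
        mul_one, add_comm]
    let τ : W →+ W := (T.comp W.subtype.toAddMonoidHom).codRestrict W fun f => (hW _).2 ⟨fun i hi => by
      rcases hi.eq_or_lt with rfl | hi
      · simp [hT, ((hW _).1 f.2).2, -frobq_apply]
      · simp [hT, revAt_eq_self_of_lt hi, ((hW _).1 f.2).1 i hi.le, -frobq_apply], by
      simp [hT, ((hW _).1 f.2).1, -frobq_apply]⟩
    have h2 : Nat.card W = q ^ (2 * (n - 1)) := by
      rw [← Nat.card_congr (α := {f : K[X] // f.Monic ∧ f.natDegree = n - 1 + 1 ∧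
        f.coeff 0 = (-1) ^ n}) (Equiv.subtypeEquiv (Equiv.subRight (X ^ n + C ((-1) ^ n)))
          fun f => by rw [Nat.sub_add_cancel hn]; exact h0 f),
        Mult.card_monic_coeff (n - 1) (· = (-1 : K) ^ n), Nat.card_unique, one_mul,
        Nat.card_eq_fintype_card, hK, pow_mul]
    have : Finite W := Nat.finite_of_card_ne_zero (h2 ▸ pow_ne_zero _ (by
      have := two_le_of_card_eq_sq hK; omega))
    have h3 := card_fix_semi hK τ (fun w => Subtype.ext (Polynomial.ext fun i => by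
      change (T (T w)).coeff i = _
      rw [hT, hT, revAt_invol, map_mul, frobq_frobq, map_pow, map_neg, map_one, ← mul_assoc, hε,
        one_mul])) fun c w => Subtype.ext (Polynomial.ext fun i => by
      change (T (c • w.1)).coeff i = (frobq hK c • T w).coeff i
      rw [coeff_smul, hT, hT, coeff_smul, smul_eq_mul, smul_eq_mul, map_mul, mul_left_comm])
    rw [h2, mul_comm, pow_mul, Nat.pow_left_inj two_ne_zero] at h3
    rw [← h3]
    refine Nat.card_congr ((Equiv.subtypeEquiv (Equiv.subRight (X ^ n + C ((-1) ^ n))) fun f =>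
      ?_).trans (Equiv.subtypeSubtypeEquivSubtypeExists (· ∈ W) _).symm)
    rw [h0, Equiv.subRight_apply]
    refine ⟨fun h => ⟨h.1, Subtype.ext ?_⟩, fun ⟨h, h'⟩ => ⟨h, ?_⟩⟩
    · exact (map_sub T _ _).trans (by rw [h1]; exact congrArg (· - _) h.2)
    · have := (map_sub T _ _).symm.trans (congrArg Subtype.val h')
      rwa [h1, sub_left_inj] at this
  · obtain ⟨g, rfl⟩ := Mult.exists_GL_charpoly (ι := Fin n) h1 (by simp [h2]) (by simp [h3])
    obtain ⟨s, h5, h6⟩ := Mult.exists_coprime_charpoly p (Units.coeHom _) g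
    have h7 : s.1.det = 1 := by
      rw [Matrix.det_eq_sign_charpoly_coeff, show s.1.charpoly = _ from h6, Fintype.card_fin]
      exact (congrArg _ h3).trans hε
    let s' : GL (Fin n) K := Matrix.GeneralLinearGroup.mk'' ((s⁻¹.1.map (frobq hK)).transpose) (by
      rw [Matrix.det_transpose, ← RingHom.mapMatrix_apply, ← RingHom.map_det]
      exact ((Matrix.isUnit_iff_isUnit_det _).1 s⁻¹.isUnit).map _)
    have h8 : ∀ k, s ^ k = 1 → s' ^ k = 1 := fun k hk => Units.ext (by
      change ((s⁻¹.1.map (frobq hK)).transpose) ^ k = 1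
      rw [← Matrix.transpose_pow, ← RingHom.mapMatrix_apply, ← map_pow, ← Units.val_pow_eq_pow_val,
        inv_pow, hk, inv_one, Units.val_one, map_one, Matrix.transpose_one])
    have h9 := isConj_GL_iff_elemDiv.1 (Mult.isConj_of_charpoly p h5 (h5.coprime_dvd_left
      (orderOf_dvd_of_pow_eq_one (h8 _ (pow_orderOf_eq_one s))))
        (h6.trans (h4.symm.trans ((charpoly_adj hK s h7).trans (by rw [show s.1.charpoly = _ from h6]; rfl)).symm)))
    obtain ⟨y, hy⟩ := (exists_herm_iff (frobq_ne_id hK) (hermFormed_nondeg hK n) rfl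
      (x := glEquiv _ K s)).2 (exists_equiv_iff.2 (h9.trans (congrArg elemDiv (by
        rw [show ((glEquiv _ K s).symm : End K _) = Matrix.toLin' s⁻¹.1 from by
          rw [← coe_glEquiv, map_inv]; rfl, adj_hermFormed]; rfl))))
    obtain ⟨y, rfl⟩ := (guEquiv hK n).surjective y
    have h10 : IsConj s y.1 := isConj_GL_iff_elemDiv.2 (exists_equiv_iff.1 hy)
    have h11 := Mult.charpoly_of_isConj (Units.coeHom _) h10
    refine (Mult.exists_coprime_charpoly p φ ⟨⟨y.1.1, ?_⟩, y.2⟩).imp fun _ h =>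
      ⟨h.1, h.2.trans (h11.symm.trans h6)⟩
    rw [Matrix.det_eq_sign_charpoly_coeff, ← show s.1.charpoly = y.1.1.charpoly from h11,
      ← Matrix.det_eq_sign_charpoly_coeff, h7]
  · rintro ⟨g, -, rfl⟩
    refine ⟨⟨Matrix.charpoly_monic _, by simp, ?_⟩, ?_⟩
    · have := Matrix.det_eq_sign_charpoly_coeff g.1.1
      rw [g.1.2, Fintype.card_fin] at this
      linear_combination (-(-1) ^ n) * this - g.1.1.charpoly.coeff 0 * hε
    · refine (charpoly_adj hK (suToGU n K q g).1 g.1.2).symm.trans (congrArg _ ?_)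
      apply Matrix.toLin'.injective
      rw [← adj_hermFormed, ← coe_glEquiv, map_inv]
      exact adj_isom _ (guEquiv hK n (suToGU n K q g))⁻¹.2.1

end Cfsg.Agent.Classical.Eig
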