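import Cfsg.Agent.Classical.Kn2
import Cfsg.Agent.Classical.SUss

/-! Counting stable multisets of eigenvalues (`card_lin`, `card_her`, `card_bil`), the Jordan form over the
algebraic closure as a tuple of multisets (`HasJ`) and its image in the model `Tu`. -/

set_option autoImplicit false

namespace Cfsg.Agent.Classical.Kn

open Module Polynomial Function Cfsg.Agent.Elu Cfsg.Agent.Geom Cfsg.Agent.Geom.Formed
  Cfsg.Agent.Classical.Eig

section Poly
variable {K : Type*} [Field K] {E E' : Multiset Kˣ}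

/-- `∏ (X + ξ)` -/
noncomputable def pP (E : Multiset Kˣ) : K[X] := (E.map fun ξ : Kˣ => X + C (ξ : K)).prod

theorem pP_cons (ξ : Kˣ) (E : Multiset Kˣ) : pP (ξ ::ₘ E) = (X + C (ξ : K)) * pP E := by simp [pP]

theorem pP_monic (E : Multiset Kˣ) : (pP E).Monic :=
  monic_multiset_prod_of_monic _ _ fun _ _ => monic_X_add_C _

theorem natDegree_pP (E : Multiset Kˣ) : (pP E).natDegree = E.card := by
  rw [pP, natDegree_multiset_prod_of_monic _ (by simp +contextual [monic_X_add_C])]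
  simp

theorem pP_inj (h : pP E = pP E') : E = E' := by
  have h1 : ∀ E : Multiset Kˣ, (pP E).roots = E.map fun ξ : Kˣ => -(ξ : K) := fun E => by
    rw [← roots_multiset_prod_X_sub_C (E.map _), Multiset.map_map]
    simp [pP]
  exact Multiset.map_injective (neg_injective.comp Units.val_injective) ((h1 E).symm.trans ((congrArg roots h).trans (h1 E')))

theorem pP_zero (E : Multiset Kˣ) : (pP E).coeff 0 = E.prod := by
  induction E using Multiset.induction_on with
  | empty => simp [pP]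
  | cons a s ih => simp [pP_cons, ih]

theorem pP_top (E : Multiset Kˣ) : (pP E).coeff E.card = 1 := natDegree_pP E ▸ (pP_monic E).coeff_natDegree

theorem pP_frob {p : ℕ} [Fact p.Prime] [CharP K p] (j k : ℕ) (E : Multiset Kˣ) :
    (pP (E.map (· ^ p ^ j))).coeff k = (pP E).coeff k ^ p ^ j := by
  rw [← iterateFrobenius_def, ← coeff_map, pP, pP, Polynomial.map_multiset_prod, Multiset.map_map,
    Multiset.map_map]
  simp [iterateFrobenius_def]

theorem pP_mul (c : Kˣ) (k : ℕ) (E : Multiset Kˣ) :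
    (pP (E.map (c * ·))).coeff k * c ^ k = c ^ E.card * (pP E).coeff k := by
  rw [← comp_C_mul_X_coeff, ← coeff_C_mul]
  congr 1
  induction E using Multiset.induction_on with
  | empty => simp [pP]
  | cons a s ih => simp [pP_cons, ih]; ring

theorem pP_inv {k : ℕ} (hk : k ≤ E.card) :
    (pP E).coeff (E.card - k) = E.prod * (pP (E.map (·⁻¹))).coeff k := by
  rw [← revAt_le hk, ← coeff_reflect, ← coeff_C_mul]
  congr 1
  clear hk
  induction E using Multiset.induction_on with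
  | empty => simp [pP]
  | cons a s ih =>
    rw [pP_cons, Multiset.card_cons, add_comm _ 1, reflect_mul _ _ (natDegree_X_add_C _).le
      (natDegree_pP s).le, ih, Multiset.map_cons, pP_cons, reflect_add, reflect_C]
    have : C (a : K) * C ((a⁻¹ : Kˣ) : K) = 1 := by rw [← C_mul, Units.mul_inv, C_1]
    simp only [reflect_one_X, Multiset.prod_cons, Units.val_mul, C_mul]
    linear_combination (-C (s.prod : Kˣ).1 * pP (s.map (·⁻¹))) * this

theorem card_fix (τ : K) {N : ℕ} (hN : 1 < N) :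
    Finite {a : K // τ * a ^ N = a} ∧ Nat.card {a : K // τ * a ^ N = a} ≤ N := by
  classical
  have h0 : (C τ * X ^ N - X : K[X]) ≠ 0 := fun h => by
    simpa [coeff_X_pow, hN.ne] using congrArg (coeff · 1) h
  let φ : {a : K // τ * a ^ N = a} → (C τ * X ^ N - X : K[X]).roots.toFinset := fun a =>
    ⟨a, by simp [h0, a.2]⟩
  have h : Injective φ := fun _ _ e => Subtype.ext (congrArg Subtype.val e :)
  refine ⟨.of_injective _ h, (Nat.card_le_card_of_injective _ h).trans ?_⟩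
  rw [Nat.card_eq_fintype_card, Fintype.card_coe]
  exact (Multiset.toFinset_card_le _).trans ((card_roots' _).trans (by compute_degree; omega))

theorem card_le_of_coeff {T : Multiset Kˣ → Prop} {κ : Type} [Fintype κ] (ix : κ → ℕ) (τ : κ → K)
    {N : κ → ℕ} (hN : ∀ k, 1 < N k) (h : ∀ E, T E → ∀ k, τ k * (pP E).coeff (ix k) ^ N k = (pP E).coeff (ix k))
    (h' : ∀ E E', T E → T E' → (∀ k, (pP E).coeff (ix k) = (pP E').coeff (ix k)) → pP E = pP E') :
    Finite {E // T E} ∧ Nat.card {E // T E} ≤ ∏ k, N k := by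
  have := fun k => (card_fix (τ k) (hN k)).1
  let φ : {E // T E} → ∀ k, {a : K // τ k * a ^ N k = a} := fun E k => ⟨_, h E.1 E.2 k⟩
  have h1 : Injective φ := fun E E' e =>
    Subtype.ext (pP_inj (h' _ _ E.2 E'.2 fun k => congrArg Subtype.val (congrFun e k)))
  refine ⟨.of_injective _ h1, (Nat.card_le_card_of_injective _ h1).trans ?_⟩
  rw [Nat.card_pi]
  exact Finset.prod_le_prod' fun k _ => (card_fix _ (hN k)).2

theorem pow_card_of_tw {c : Kˣ} (h : E.map (c * ·) = E) : orderOf c ∣ E.card := by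
  have := congrArg Multiset.prod h
  rw [Multiset.prod_map_mul, Multiset.map_const', Multiset.prod_replicate, Multiset.map_id'] at this
  exact orderOf_dvd_of_pow_eq_one (mul_eq_right.1 this)

variable {p : ℕ} [hp : Fact p.Prime] [CharP K p] {j : ℕ} (hj : 1 < p ^ j)
include hj

theorem card_lin {c : Kˣ} (hc : 0 < orderOf c) (m : ℕ) (t : Kˣ) :
    Finite {E : Multiset Kˣ // (E.map (· ^ p ^ j) = E ∧ E.map (c * ·) = E) ∧
      E.card = orderOf c * (m + 1) ∧ E.prod = t} ∧
    Nat.card {E : Multiset Kˣ // (E.map (· ^ p ^ j) = E ∧ E.map (c * ·) = E) ∧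
      E.card = orderOf c * (m + 1) ∧ E.prod = t} ≤ (p ^ j) ^ m := by
  have h0 : ∀ (E : Multiset Kˣ) k, E.map (c * ·) = E → ¬ orderOf c ∣ k → (pP E).coeff k = 0 :=
    fun E k h hk => by
      have := pP_mul c k E
      rw [h, ← Units.val_pow_eq_pow_val c E.card, orderOf_dvd_iff_pow_eq_one.1 (pow_card_of_tw h),
        Units.val_one, one_mul] at this
      exact by_contra fun h0 => hk (orderOf_dvd_of_pow_eq_one (Units.ext ((mul_eq_left₀ h0).1 this)))
  simpa using card_le_of_coeff (κ := Fin m) (fun k => orderOf c * (k + 1)) (fun _ => 1) (fun _ => hj)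
    (fun E h k => by rw [one_mul, ← pP_frob, h.1.1]) fun E E' h h' e => Polynomial.ext fun k => by
      by_cases hk : orderOf c ∣ k
      · obtain ⟨_ | l, rfl⟩ := hk
        · rw [mul_zero, pP_zero, pP_zero, h.2.2, h'.2.2]
        rcases lt_trichotomy l m with hl | rfl | hl
        · exact e ⟨l, hl⟩
        · exact (h.2.1 ▸ pP_top E).trans (h'.2.1 ▸ pP_top E').symm
        · rw [coeff_eq_zero_of_natDegree_lt, coeff_eq_zero_of_natDegree_lt] <;>
            simp [natDegree_pP, h.2.1, h'.2.1, hc, hl]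
      · rw [h0 _ _ h.1.2 hk, h0 _ _ h'.1.2 hk]

theorem card_her (m : ℕ) (t : Kˣ) :
    Finite {E : Multiset Kˣ // E.map (· ^ (-(p ^ j : ℕ) : ℤ)) = E ∧ E.card = 1 * (m + 1) ∧ E.prod = t} ∧
    Nat.card {E : Multiset Kˣ // E.map (· ^ (-(p ^ j : ℕ) : ℤ)) = E ∧ E.card = 1 * (m + 1) ∧ E.prod = t} ≤
      (p ^ j) ^ m := by
  have h0 : ∀ (E : Multiset Kˣ) k, E.map (· ^ (-(p ^ j : ℕ) : ℤ)) = E ∧ E.card = 1 * (m + 1) ∧ E.prod = t →
      k ≤ m + 1 → (pP E).coeff (m + 1 - k) = t * (pP E).coeff k ^ p ^ j := fun E k h hk => by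
    rw [← pP_frob, ← one_mul (m + 1), ← h.2.1, pP_inv (by omega), h.2.2]
    conv_lhs => rw [← h.1, Multiset.map_map]
    simp only [Function.comp_def, zpow_neg, inv_inv, zpow_natCast]
  convert card_le_of_coeff (κ := Fin (m / 2) ⊕ Fin (m % 2)) (Sum.elim (· + 1) fun _ => (m + 1) / 2)
    (Sum.elim (fun _ => (t : K) * t ^ p ^ j) fun _ => t)
    (N := Sum.elim (fun _ => p ^ j * p ^ j) fun _ => p ^ j) (by rintro (_ | _) <;> simp only [Sum.elim_inl, Sum.elim_inr] <;> nlinarith)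
    (fun E h => ?_) fun E E' h h' e => Polynomial.ext fun k => ?_ using 2
  · simp [← pow_mul, ← pow_add, ← sq, ← pow_mul]
    congr 1
    nlinarith [Nat.div_add_mod m 2]
  · rintro (k | k)
    · have h1 := h0 E (m + 1 - (k + 1)) h (by omega)
      rw [h0 E (k + 1) h (by omega), Nat.sub_sub_self (by omega)] at h1
      simp only [Sum.elim_inl]
      rw [pow_mul, mul_assoc, ← mul_pow, ← h1]
    · have h1 := h0 E ((m + 1) / 2) h (by omega)
      rw [show m + 1 - (m + 1) / 2 = (m + 1) / 2 by have := k.2; omega] at h1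
      exact h1.symm
  · have h1 : ∀ k, 2 * k ≤ m + 1 → (pP E).coeff k = (pP E').coeff k := fun k hk => by
      rcases k with _ | k
      · rw [pP_zero, pP_zero, h.2.2, h'.2.2]
      by_cases h2 : k < m / 2
      · exact e (.inl ⟨k, h2⟩)
      · simpa [show (m + 1) / 2 = k + 1 by omega] using e (.inr ⟨0, by omega⟩)
    by_cases h2 : k ≤ m + 1
    · by_cases h3 : 2 * k ≤ m + 1
      · exact h1 k h3
      rw [← Nat.sub_sub_self h2, h0 _ _ h (by omega), h0 _ _ h' (by omega), h1 _ (by omega)]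
    · rw [coeff_eq_zero_of_natDegree_lt, coeff_eq_zero_of_natDegree_lt] <;>
        simp [natDegree_pP, h.2.1, h'.2.1] <;> omega

theorem card_bil (m : ℕ) :
    Finite {E : Multiset Kˣ // E.map (· ^ p ^ j) = E ∧ E.map (·⁻¹) = E ∧ E.card = 2 * m ∧ E.prod = 1} ∧
    Nat.card {E : Multiset Kˣ // E.map (· ^ p ^ j) = E ∧ E.map (·⁻¹) = E ∧ E.card = 2 * m ∧ E.prod = 1} ≤
      (p ^ j) ^ m := by
  have h0 : ∀ (E : Multiset Kˣ) k, E.map (·⁻¹) = E ∧ E.card = 2 * m ∧ E.prod = 1 →
      k ≤ 2 * m → (pP E).coeff (2 * m - k) = (pP E).coeff k := fun E k h hk => by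
    rw [← h.2.1, pP_inv (by omega), h.2.2, h.1, Units.val_one, one_mul]
  simpa using card_le_of_coeff (κ := Fin m) (· + 1) (fun _ => 1) (fun _ => hj)
    (fun E h k => by rw [one_mul, ← pP_frob, h.1]) fun E E' h h' e => Polynomial.ext fun k => by
      have h1 : ∀ k, k ≤ m → (pP E).coeff k = (pP E').coeff k := fun k hk => by
        rcases k with _ | k
        · rw [pP_zero, pP_zero, h.2.2.2, h'.2.2.2]
        · exact e ⟨k, hk⟩
      by_cases h2 : k ≤ 2 * m
      · by_cases h3 : k ≤ m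
        · exact h1 k h3
        rw [← h0 _ _ h.2 h2, ← h0 _ _ h'.2 h2, h1 _ (by omega)]
      · rw [coeff_eq_zero_of_natDegree_lt, coeff_eq_zero_of_natDegree_lt] <;>
          simp [natDegree_pP, h.2.2.1, h'.2.2.1] <;> omega

end Poly

theorem exists_emb {G A : Type*} [CommGroup G] [CommGroup A] {T : Multiset G → Prop} {d q : ℕ}
    (hd : 0 < d) (j : A →* G) (h0 : ∀ E, T E → d ∣ E.card ∧ E.prod ∈ j.range)
    (h1 : ∀ m t, Finite {E // T E ∧ E.card = d * (m + 1) ∧ E.prod = t} ∧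
      Nat.card {E // T E ∧ E.card = d * (m + 1) ∧ E.prod = t} ≤ q ^ m) :
    ∃ ι : Multiset G → Md A q, ι 0 = 0 ∧ (∀ E E', T E → T E' → ι E = ι E' → E = E') ∧
      ∀ E, T E → d * (ι E).dg = E.card ∧ j (ι E).ct = E.prod := by
  classical
  choose r h2 h3 using fun m t => exists_rank (h1 m t)
  have h4 : ∀ E, T E → E ≠ 0 → E.card = d * (E.card / d - 1 + 1) := fun E h h' => by
    rw [Nat.sub_add_cancel (Nat.div_pos (Nat.le_of_dvd (Multiset.card_pos.2 h') (h0 E h).1) hd),
      Nat.mul_div_cancel' (h0 E h).1]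
  let ι : Multiset G → Md A q := fun E => if h : T E ∧ E ≠ 0 then ⟨E.card / d, (h0 E h.1).2.choose,
    r (E.card / d - 1) E.prod E, fun e => absurd (Nat.eq_zero_of_dvd_of_div_eq_zero (h0 E h.1).1 e)
      (Multiset.card_pos.2 h.2).ne', h2 _ _ _ ⟨h.1, h4 E h.1 h.2, rfl⟩⟩ else 0
  have h5 : ∀ E, T E → d * (ι E).dg = E.card ∧ j (ι E).ct = E.prod := fun E h => by
    by_cases h' : E = 0
    · subst h'
      simp only [ι, dif_neg (not_and.2 fun _ => not_not.2 rfl)]
      exact ⟨rfl, map_one j⟩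
    · simp only [ι, dif_pos (And.intro h h')]
      exact ⟨Nat.mul_div_cancel' (h0 E h).1, (h0 E h).2.choose_spec⟩
  refine ⟨ι, dif_neg (by simp), fun E E' h h' e => ?_, h5⟩
  have h6 : E.card = E'.card := by rw [← (h5 E h).1, e, (h5 E' h').1]
  have h7 : E.prod = E'.prod := by rw [← (h5 E h).2, e, (h5 E' h').2]
  by_cases h8 : E = 0
  · rw [h8, ← Multiset.card_eq_zero.1 (h6.symm.trans (by simp [h8]))]
  have h9 : E' ≠ 0 := fun e => h8 (Multiset.card_eq_zero.1 (by simp [h6, e]))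
  have := congrArg Md.rk e
  simp only [ι, dif_pos (And.intro h h8), dif_pos (And.intro h' h9), ← h6, ← h7] at this
  exact h3 _ _ _ _ ⟨h, h4 E h h8, rfl⟩ ⟨h', h6 ▸ h4 E h h8, h7.symm⟩ this

universe u
variable {F : Type u} [Field F] [Finite F] {V : Type*} [AddCommGroup V] [Module F V]
  [FiniteDimensional F V] {f g : End F V} {u : ℕ →₀ Multiset (Kb F)}

open _root_.Classical in
/-- `u i` is the multiset of the eigenvalues of the Jordan blocks of size `i` of `f`. -/
structure HasJ (f : End F V) (u : ℕ →₀ Multiset (Kb F)) : Prop where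
  unit : IsUnit f
  zero : u 0 = 0
  count : ∀ i ξ, 0 < i → (u i).count ξ = (elemDiv f).count (mp ξ ^ i)
  dim : (u.sum fun i E => i * E.card) = finrank F V
  det : algebraMap F (AlgebraicClosure F) (LinearMap.det f) = (u.prod fun i E => E.prod ^ i : Kb F)

theorem exists_hasJ (hf : IsUnit f) : ∃ u, HasJ f u := by
  classical
  obtain ⟨L, hL⟩ := exists_hasT hf
  have : ∀ L : Multiset (Kb F × ℕ), Pos L → ∃ u : ℕ →₀ Multiset (Kb F), u 0 = 0 ∧
      (∀ i ξ, 0 < i → (u i).count ξ = (L.map blk).count (mp ξ ^ i)) ∧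
      (u.sum fun i E => i * E.card) = tdim (qz F) L ∧ (u.prod fun i E => E.prod ^ i) = tdet (qz F) L := by
    intro L
    induction L using Multiset.induction_on with
    | empty => exact fun _ => ⟨0, by simp⟩
    | cons z L ih =>
      intro h
      obtain ⟨u, h1, h2, h3, h4⟩ := ih (pos_cons.1 h).2
      have h0 := (pos_cons.1 h).1
      refine ⟨Finsupp.single z.2 (orb (qz F) z.1) + u, by simp [h1, h0.ne'], fun i ξ hi => ?_, ?_, ?_⟩
      · rw [Finsupp.add_apply, Multiset.count_add, h2 i ξ hi, Multiset.map_cons, Multiset.count_cons,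
          add_comm, Finsupp.single_apply]
        simp only [show mp ξ ^ i = blk z ↔ _ from eq_comm.trans (blk_eq_iff (w := (ξ, i)) h0), mp_eq_iff]
        split_ifs with h5 h6 h6 <;> simp_all [Multiset.count_eq_of_nodup (nodup_orb _ _), mem_orb (per_card_pos _)]
      · rw [Finsupp.sum_add_index' (by simp) (by simp [mul_add]), h3]
        simp [mul_comm]
      · rw [Finsupp.prod_add_index' (by simp) (by simp [mul_pow]), h4]
        simp [prod_orb, zpow_mul]
  obtain ⟨u, h1, h2, h3, h4⟩ := this L hL.1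
  exact ⟨u, hf, h1, by convert hL.2 ▸ h2, h3.trans hL.dim, by
    rw [hL.det, h4, tdet_eq_prod]⟩

theorem HasJ.elemDiv_eq {W : Type*} [AddCommGroup W] [Module F W] [FiniteDimensional F W] {g : End F W}
    (h : HasJ f u) (h' : HasJ g u) : elemDiv f = elemDiv g := by
  classical
  obtain ⟨L, hL⟩ := exists_hasT h.unit
  obtain ⟨L', hL'⟩ := exists_hasT h'.unit
  refine Multiset.ext.2 fun a => ?_
  by_cases ha : a ∈ (L + L').map blk
  · obtain ⟨z, hz, rfl⟩ := Multiset.mem_map.1 ha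
    have h0 := pos_add.2 ⟨hL.1, hL'.1⟩ z hz
    rw [blk]
    convert (h.count _ z.1 h0).symm.trans (h'.count _ z.1 h0)
  · rw [Multiset.map_add, Multiset.mem_add, ← hL.2, ← hL'.2, not_or] at ha
    rw [Multiset.count_eq_zero.2 ha.1, Multiset.count_eq_zero.2 ha.2]

theorem HasJ.mem (h : HasJ f u) {i : ℕ} {ξ : Kb F} (hξ : ξ ∈ u i) : 0 < i ∧ mp ξ ^ i ∈ elemDiv f := by
  classical
  have hi : 0 < i := Nat.pos_of_ne_zero (by rintro rfl; simp [h.zero] at hξ)
  exact ⟨hi, Multiset.count_pos.1 (by convert h.count i ξ hi ▸ Multiset.count_pos.2 hξ)⟩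

theorem HasJ.map_eq (h : HasJ f u) {φ : Kb F → Kb F} (hφ : Injective φ)
    (hd : ∀ ξ, per (qz F) (φ ξ) = per (qz F) ξ) (H : ∀ ξ e, kd f (mp (φ ξ) ^ e) = kd f (mp ξ ^ e)) (i : ℕ) :
    (u i).map φ = u i := by
  classical
  rcases i with _ | i
  · simp [h.zero]
  refine Multiset.eq_of_le_of_card_le (Multiset.le_iff_count.2 fun η => ?_) (by simp)
  by_cases hη : η ∈ (u (i + 1)).map φ
  · obtain ⟨ξ, -, rfl⟩ := Multiset.mem_map.1 hη
    have h1 := fun ξ => sum_gdeg_second_diff (fun _ => isPP_of_mem (f := f)) (mp_irr ξ) (mp_monic ξ) i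
    have h2 := h1 (φ ξ)
    have h3 := h1 ξ
    simp only [← kd_eq, H, natDegree_mp, hd] at h2 h3
    convert (Multiset.count_map_eq_count' _ _ hφ ξ).trans_le ((h.count _ ξ i.succ_pos).trans
      (Eq.trans ?_ (h.count _ (φ ξ) i.succ_pos).symm)).le
    convert Nat.eq_of_mul_eq_mul_right (per_card_pos ξ) (Nat.add_left_cancel (h3.trans h2.symm))
  · simp [hη]

theorem HasJ.frob {p : ℕ} [Fact p.Prime] [CharP F p] {j : ℕ} (hF : Nat.card F = p ^ j) (h : HasJ f u)
    (i : ℕ) : (u i).map (· ^ p ^ j) = u i := by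
  have h1 : ∀ ξ : Kb F, mp (ξ ^ p ^ j) = mp ξ := fun ξ => mp_of_cj ⟨1, by simp [hF]⟩
  exact h.map_eq (fun ξ η e => mul_inv_eq_one.1 (eq_one_of_pow_char (p := p) (a := j) (by
    simp [mul_pow, e]))) (fun ξ => by rw [← natDegree_mp, ← natDegree_mp, h1]) (by simp [h1]) i

theorem HasJ.dual {p : ℕ} [Fact p.Prime] [CharP F p] {σ : F →+* F} {Φ : Formed σ V} (hn : Φ.Nondeg) {j : ℕ}
    (hσ : ∀ c, σ c = c ^ p ^ j) (hδ : Du F (-(p ^ j : ℕ))) (hf : Iso Φ f) (h : HasJ f u) (i : ℕ) :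
    (u i).map (· ^ (-(p ^ j : ℕ) : ℤ)) = u i := by
  obtain ⟨x, rfl⟩ := hf.exists_isom hn
  have h1 : ∀ ζ : Kb F, ζ ^ p ^ j = (ζ ^ (-(p ^ j : ℕ) : ℤ))⁻¹ := fun ζ => by
    rw [zpow_neg, inv_inv, zpow_natCast]
  refine h.map_eq (fun ξ η e => mul_inv_eq_one.1 (eq_one_of_pow_char (p := p) (a := j) (by
    rw [mul_pow, inv_pow, h1, h1, show _ = _ from e, mul_inv_cancel]))) (fun _ => hδ.per_eq) (fun ξ e => ?_) i
  conv_lhs => rw [← adj_adj hn (x.1 : End F V), adj_isom hn x.2.1]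
  rw [kd_adj, Polynomial.map_pow, map_mp_frob hσ (by rw [h1, per_inv, hδ.per_eq, hδ.per_eq]), h1,
    kd_inv (f := (x.1 : End F V)) (by ext; simp), hδ.mp_mp]

/-- the units of `F` in the algebraic closure -/
noncomputable def jb (F : Type u) [Field F] : Fˣ →* Kb F := Units.map (algebraMap F _).toMonoidHom

omit [Finite F] in
theorem jb_inj : Injective (jb F) := Units.map_injective (algebraMap F _).injective

theorem mem_jb {ξ : Kb F} : ξ ∈ (jb F).range ↔ ξ ^ qz F = ξ := by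
  rw [← exists_algebraMap_iff]
  exact ⟨fun ⟨c, h⟩ => ⟨c, congrArg Units.val h⟩, fun ⟨c, h⟩ =>
    ⟨Units.mk0 c (by rintro rfl; exact ξ.ne_zero (by simpa using h.symm)), Units.ext h⟩⟩

omit [FiniteDimensional F V] in
theorem kd_smul_mp (c : Fˣ) (ξ : Kb F) (e : ℕ) :
    kd ((c : F) • f) (mp (jb F c * ξ) ^ e) = kd f (mp ξ ^ e) := by
  have h1 : Associated (mp ξ) ((mp (jb F c * ξ)).comp (C (c : F) * X)) := by
    have h2 : ((mp (jb F c * ξ)).comp (C (c : F) * X)).natDegree = (mp ξ).natDegree := by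
      rw [natDegree_comp, natDegree_C_mul_X _ c.ne_zero, mul_one, natDegree_mp, natDegree_mp,
        per_mul_fix (mem_jb.1 ⟨c, rfl⟩)]
    exact associated_of_dvd_of_natDegree_le (mp_dvd_iff.2 (by
      simpa [aeval_comp, jb] using aeval_mp (jb F c * ξ)))
      (fun h => (mp_irr ξ).natDegree_pos.ne (by simp [← h2, h])) h2.le
  rw [kd_associated f h1.pow_pow, ← pow_comp, kd, kd, aeval_comp]
  rw [map_mul, aeval_C, aeval_X, ← Algebra.smul_def]

theorem HasJ.tw (h : HasJ f u) {c : Fˣ} (hc : elemDiv ((c : F) • f) = elemDiv f) (i : ℕ) :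
    (u i).map (jb F c * ·) = u i :=
  h.map_eq (mul_right_injective _) (fun _ => per_mul_fix (mem_jb.1 ⟨c, rfl⟩) _)
    (fun ξ e => by rw [kd_eq, ← hc, ← kd_eq, kd_smul_mp]) i

/-- the image of a Jordan form in the model -/
theorem exists_tu {A : Type*} [CommGroup A] {T : Multiset (Kb F) → Prop} {d q n : ℕ} (hd : 0 < d)
    (j : A →* Kb F) (h0 : ∀ E, T E → d ∣ E.card ∧ E.prod ∈ j.range)
    (h1 : ∀ m t, Finite {E // T E ∧ E.card = d * (m + 1) ∧ E.prod = t} ∧
      Nat.card {E // T E ∧ E.card = d * (m + 1) ∧ E.prod = t} ≤ q ^ m) (hn : finrank F V = n) {X : Type*}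
    (x : X → End F V) (hx : ∀ a, IsUnit (x a) ∧ ∀ u, HasJ (x a) u → ∀ i, T (u i)) :
    ∃ φ : X → Tu A q (n / d), (∀ a b, φ a = φ b → elemDiv (x a) = elemDiv (x b)) ∧
      (∀ a, ∀ i ∈ (φ a).1.support, 0 < i ∧ ∃ ξ, mp ξ ^ i ∈ elemDiv (x a)) ∧
      ∀ a, LinearMap.det (x a) = 1 → j (dt (φ a).1) = 1 := by
  obtain ⟨ι, h2, h3, h4⟩ := exists_emb hd j h0 h1
  choose u hu using fun a => exists_hasJ (hx a).1
  have h5 := fun a => (hx a).2 _ (hu a)
  refine ⟨fun a => ⟨(u a).mapRange ι h2, by simp [(hu a).zero, h2], ?_⟩, fun a b e => ?_,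
    fun a i hi => ?_, fun a ha => ?_⟩
  · rw [Finsupp.sum_mapRange_index fun _ => rfl, ← hn, ← (hu a).dim]
    refine (Nat.div_eq_of_eq_mul_right hd ?_).symm
    simp only [Finsupp.sum, Finset.mul_sum, mul_left_comm d, (h4 _ (h5 a _)).1]
  · have e := congrArg Subtype.val e
    exact (hu a).elemDiv_eq ((Finsupp.ext fun i => h3 _ _ (h5 a i) (h5 b i) (DFunLike.congr_fun e i) :
      u a = u b) ▸ hu b)
  · obtain ⟨ξ, hξ⟩ := Multiset.exists_mem_of_ne_zero
      (Finsupp.mem_support_iff.1 (Finsupp.support_mapRange (hf := h2) hi))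
    exact ⟨((hu a).mem hξ).1, ξ, ((hu a).mem hξ).2⟩
  · have := (hu a).det
    rw [ha, map_one, eq_comm, Units.val_eq_one] at this
    change j (((u a).mapRange ι h2).prod fun i x => x.ct ^ i) = 1
    rw [Finsupp.prod_mapRange_index (h := fun i (x : Md A q) => x.ct ^ i) fun _ => one_pow _, ← this]
    simp only [Finsupp.prod, map_prod, map_pow, (h4 _ (h5 a _)).2]

end Cfsg.Agent.Classical.Kn
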