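import Cfsg.Agent.Classical.Kn3

/-! Determinants in centralisers (`exists_commute_det_blk`, `exists_cent_det_blk`) and the bounds for the
number of classes of `GL_n`, `SL_n`, `PSL_n`, `SU_n` by the model of `Kn2`. -/

set_option autoImplicit false

namespace Cfsg.Agent.Classical.Kn

open Module Polynomial Function Cfsg.Agent.Elu Cfsg.Agent.Geom Cfsg.Agent.Geom.Formed
  Cfsg.Agent.Classical.Eig

section Grp
variable {G H C : Type*} [Group G] [Group H]

theorem card_classes_le [Finite H] [CommGroup C] [Finite C] [IsCyclic C] (d : G →* C) (hd : Surjective d)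
    (j : H →* G) (hj : Injective j) (hr : j.range = d.ker) {P : ConjClasses H → Prop} {q m : ℕ}
    (r : {c // P c} → H) (h0 : ∀ c, ConjClasses.mk (r c) = c) (φ : {c // P c} → Tu C q m)
    (h1 : ∀ a b, φ a = φ b → IsConj (j (r a)) (j (r b)))
    (h2 : ∀ a, ∀ i ∈ (φ a).1.support, ∀ c, ∃ z, z * j (r a) = j (r a) * z ∧ d z = c ^ i)
    (h3 : ∀ a, dt (φ a).1 = 1) : Nat.card {c // P c} ≤ Nat.card (Sl C q m 1) := by
  refine card_le_sigma (fun a => ⟨φ a, h3 a⟩) _ fun u => ?_
  rcases isEmpty_or_nonempty {a // (⟨φ a, h3 a⟩ : {u : Tu C q m // dt u.1 = 1}) = u} with h | ⟨⟨a, rfl⟩⟩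
  · simp
  refine le_trans ?_ ((card_classes_ker d hd j hj hr (r a) _ fun _ => Iff.rfl).trans_le
    (index_le_gcd _ _ fun i hi c => ?_))
  · exact Nat.card_le_card_of_injective (fun b => ⟨b.1.1, r b.1, h0 _, h1 _ _ (congrArg Subtype.val b.2).symm⟩)
      fun _ _ e => Subtype.ext (Subtype.ext (congrArg Subtype.val e :))
  · obtain ⟨z, h4, h5⟩ := h2 a i hi c
    exact ⟨z, Subgroup.mem_centralizer_singleton_iff.2 h4, h5⟩

/-- Burnside's lemma for the action of the centre on the conjugacy classes -/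
theorem card_center_mul [Finite G] [Fintype (Subgroup.center G)] :
    Nat.card (Subgroup.center G) * Nat.card (ConjClasses (G ⧸ Subgroup.center G)) = ∑ z : Subgroup.center G,
      Nat.card {c : ConjClasses G // ∃ x, ConjClasses.mk x = c ∧ IsConj (z * x) x} := by
  classical
  let A : MulAction (Subgroup.center G) (ConjClasses G) :=
    { smul := fun z => Quotient.map' (z.1 * ·) fun x y h => by
        obtain ⟨g, rfl⟩ := isConj_iff.1 h
        exact isConj_iff.2 ⟨g, by rw [← mul_assoc, Subgroup.mem_center_iff.1 z.2 g]; group⟩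
      one_smul := by rintro ⟨x⟩; exact congrArg ConjClasses.mk (one_mul x)
      mul_smul := by rintro a b ⟨x⟩; exact congrArg ConjClasses.mk (mul_assoc _ _ x) }
  have hA : ∀ (z : Subgroup.center G) (x : G), z • ConjClasses.mk x = ConjClasses.mk (z * x) := fun _ _ => rfl
  have := Fintype.ofFinite (MulAction.orbitRel.Quotient (Subgroup.center G) (ConjClasses G))
  have := fun z : Subgroup.center G => Fintype.ofFinite (MulAction.fixedBy (ConjClasses G) z)
  have h := MulAction.sum_card_fixedBy_eq_card_orbits_mul_card_group (Subgroup.center G) (ConjClasses G)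
  simp only [← Nat.card_eq_fintype_card] at h
  have h1 : ∀ x y : G, (ConjClasses.mk x).map (QuotientGroup.mk' (Subgroup.center G)) =
      (ConjClasses.mk y).map (QuotientGroup.mk' _) ↔ MulAction.orbitRel (Subgroup.center G) _
        (ConjClasses.mk x) (ConjClasses.mk y) := fun x y => by
    refine ⟨fun e => ?_, fun ⟨z, e⟩ => ?_⟩
    · obtain ⟨g, e⟩ := isConj_iff.1 (ConjClasses.mk_eq_mk_iff_isConj.1 e)
      obtain ⟨g, rfl⟩ := QuotientGroup.mk'_surjective _ g
      rw [← map_inv, ← map_mul, ← map_mul, QuotientGroup.mk'_eq_mk'] at e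
      obtain ⟨z, hz, rfl⟩ := e
      exact ⟨⟨z, hz⟩⁻¹, ConjClasses.mk_eq_mk_iff_isConj.2 (isConj_iff.2 ⟨g⁻¹, by
        rw [Subgroup.mem_center_iff.1 hz]; simp [mul_assoc]⟩)⟩
    · rw [← show z • ConjClasses.mk y = _ from e, hA]
      exact congrArg ConjClasses.mk (by simp)
  rw [mul_comm, ← Nat.card_eq_of_bijective (Quotient.lift (s := MulAction.orbitRel (Subgroup.center G) _)
    (ConjClasses.map (QuotientGroup.mk' (Subgroup.center G))) (by
      rintro ⟨x⟩ ⟨y⟩; exact (h1 x y).2)) ⟨by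
      rintro ⟨⟨x⟩⟩ ⟨⟨y⟩⟩ e; exact Quotient.sound ((h1 x y).1 e), fun c => by
      obtain ⟨c, rfl⟩ := ConjClasses.map_surjective (QuotientGroup.mk'_surjective _) c
      exact ⟨Quotient.mk _ c, rfl⟩⟩]
  refine h.symm.trans (Finset.sum_congr rfl fun z _ => Nat.card_congr (Equiv.subtypeEquivRight ?_))
  rintro ⟨x⟩
  exact ⟨fun e => ⟨x, rfl, ConjClasses.mk_eq_mk_iff_isConj.1 e⟩, fun ⟨y, e, h⟩ =>
    e ▸ ConjClasses.mk_eq_mk_iff_isConj.2 h⟩

end Grp

universe u
variable {F : Type u} [Field F] {V W W' : Type*} [AddCommGroup V] [Module F V] [FiniteDimensional F V]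
  [AddCommGroup W] [Module F W] [FiniteDimensional F W] [AddCommGroup W'] [Module F W']
  [FiniteDimensional F W'] {f : End F V}

theorem det_aeval {g : End F W} {h : End F W'} {e : ℕ} (H : f.charpoly = g.charpoly ^ e * h.charpoly)
    (a : F[X]) : LinearMap.det (aeval f a) = LinearMap.det (aeval g a) ^ e * LinearMap.det (aeval h a) := by
  let K := AlgebraicClosure F
  have h1 : ∀ {ι : Type} [Fintype ι] [DecidableEq ι] (M : Matrix ι ι F), algebraMap F K (aeval M a).det =
      (aeval (M.map (algebraMap F K)) (a.map (algebraMap F K))).det := fun M => by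
    rw [RingHom.map_det, map_aeval_eq_aeval_map (φ := algebraMap F K) (by
      ext c i j; by_cases e : i = j <;> simp [Matrix.algebraMap_matrix_apply, e])]; rfl
  have h2 : ∀ {ι : Type} [Fintype ι] [DecidableEq ι] (M : Matrix ι ι K) (c : K),
      (aeval M (X + C c)).det = (-1) ^ M.charpoly.natDegree * M.charpoly.eval (-c) := fun M c => by
    rw [Matrix.eval_charpoly, Matrix.charpoly_natDegree_eq_dim, ← Matrix.det_neg]
    congr 1; ext i j; by_cases e : i = j <;> simp [Matrix.algebraMap_matrix_apply, e, add_comm, neg_neg (M i j)]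
  have h3 : ∀ {ι : Type} [Fintype ι] [DecidableEq ι] (M : Matrix ι ι K) (c : K),
      (aeval M (C c)).det = c ^ M.charpoly.natDegree := fun M c => by
    simp [Algebra.algebraMap_eq_smul_one]
  apply (algebraMap F K).injective
  rw [← LinearMap.det_toMatrix (finBasis F V), ← LinearMap.det_toMatrix (finBasis F W),
    ← LinearMap.det_toMatrix (finBasis F W'), map_mul, map_pow]
  rw [← LinearMap.charpoly_toMatrix _ (finBasis F V), ← LinearMap.charpoly_toMatrix _ (finBasis F W),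
    ← LinearMap.charpoly_toMatrix _ (finBasis F W')] at H
  erw [← aeval_algHom_apply (LinearMap.toMatrixAlgEquiv (finBasis F V)),
    ← aeval_algHom_apply (LinearMap.toMatrixAlgEquiv (finBasis F W)),
    ← aeval_algHom_apply (LinearMap.toMatrixAlgEquiv (finBasis F W'))]
  rw [h1, h1, h1]
  replace H := congrArg (map (algebraMap F K)) H
  simp only [Polynomial.map_mul, Polynomial.map_pow, ← Matrix.charpoly_map] at H
  have H' := congrArg natDegree H
  rw [((Matrix.charpoly_monic _).pow _).natDegree_mul (Matrix.charpoly_monic _),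
    (Matrix.charpoly_monic _).natDegree_pow] at H'
  have h4 := IsAlgClosed.splits (a.map (algebraMap F K))
  generalize a.map (algebraMap F K) = b at h4
  induction h4 using Submonoid.closure_induction with
  | mem x hx =>
    rcases hx with ⟨c, rfl⟩ | ⟨c, rfl⟩
    · rw [h3, h3, h3]; erw [H']; ring!
    · rw [h2, h2, h2]; erw [H', H]; rw [eval_mul, eval_pow]; ring!
  | one => simp
  | mul x y _ _ hx hy => simp only [map_mul, Matrix.det_mul, hx, hy]; ring

variable [Finite F]

theorem exists_aeval_det {p : F[X]} (hp : Irreducible p) (hm : p.Monic) {e : ℕ} {D : Multiset F[X]}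
    (h : elemDiv f = p ^ e ::ₘ D) (hD : IsCoprime p D.prod) (c : F) :
    ∃ a : F[X], LinearMap.det (aeval f a) = c ^ e := by
  obtain ⟨g, hg⟩ := exists_elemDiv_eq (V := Fin (D.map natDegree).sum → F) (D := D)
    (fun a ha => isPP_of_mem (h ▸ Multiset.mem_cons_of_mem ha)) (by simp)
  obtain ⟨k, hk⟩ := exists_elemDiv_eq (V := Fin p.natDegree → F) (D := {p})
    (by simpa using isPP_of_irreducible hp hm) (by simp)
  obtain ⟨z, h1, rfl⟩ := exists_commute_det (f := k) hp (by simp [hk]) c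
  have h2 : aeval k p = 0 := aeval_eq_zero_iff.2 (by simp [hk])
  obtain ⟨a, ha⟩ := exists_aeval_kerA hp hm (by simpa using kd_eq_finrank_iff.2 h2) h1
  obtain ⟨s, t, h3⟩ := hD
  have h4 : aeval g D.prod = 0 := aeval_eq_zero_iff.2 fun _ h => Multiset.dvd_prod (hg ▸ h)
  refine ⟨s * p + a * (t * D.prod), ?_⟩
  rw [det_aeval (g := k) (h := g) (e := e) (by simp [charpoly_eq_prod, h, hg, hk]), eq_sub_of_add_eq h3,
    show aeval k _ = z from LinearMap.ext fun v => (ha v (by simp [h2])).symm ▸ by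
      simp [eq_sub_of_add_eq' h3, h2]]
  simp [h4]

theorem exists_commute_det_blk {p : F[X]} (hp : Irreducible p) (hm : p.Monic) {e : ℕ}
    (hmem : p ^ e ∈ elemDiv f) (c : F) : ∃ z : End F V, z * f = f * z ∧ LinearMap.det z = c ^ e := by
  obtain ⟨D, hD⟩ := Multiset.exists_cons_of_mem hmem
  obtain ⟨g, hg⟩ := exists_elemDiv_eq (V := Fin (D.map natDegree).sum → F) (D := D)
    (fun a ha => isPP_of_mem (hD ▸ Multiset.mem_cons_of_mem ha)) (by simp)
  obtain ⟨k, hk⟩ := exists_elemDiv_eq (V := Fin (p ^ e).natDegree → F) (D := {p ^ e})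
    (by simpa using isPP_of_mem hmem) (by simp)
  obtain ⟨a, ha⟩ := exists_aeval_det (D := 0) hp hm hk isCoprime_one_right c
  obtain ⟨E, he⟩ := exists_equiv_iff.2 (show elemDiv (k.prodMap g : End F (_ × _)) = elemDiv f by
    rw [elemDiv_prodMap, hk, hg, hD]; rfl)
  refine ⟨E.conj ((aeval k a).prodMap 1), LinearMap.ext fun v => ?_, ?_⟩
  · obtain ⟨v, rfl⟩ := E.surjective v
    simpa [← he] using LinearMap.congr_fun (commute_aeval (Commute.refl k) a).eq.symm v.1
  · rw [LinearEquiv.conj_apply, LinearMap.comp_assoc, LinearMap.det_conj, LinearMap.det_prodMap, ha]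
    simp

/-- The centraliser of a unitary element with a block of size `e` has all `e`-th powers as determinants. -/
theorem exists_cent_det_blk {V : Type u} [AddCommGroup V] [Module F V] [FiniteDimensional F V] {p : ℕ}
    [Fact p.Prime] [CharP F p] {σ : F →+* F} {Φ : Formed σ V}
    (hn : Φ.Nondeg) (hε : Φ.ε = 1) (hσ1 : σ ≠ RingHom.id F) {j : ℕ} (hσ : ∀ c, σ c = c ^ p ^ j)
    (hF : Nat.card F = (p ^ j) ^ 2) (x : Φ.isom) {ζ : Kb F} {i : ℕ} {A : Multiset (Kb F × ℕ)}
    (h : HasF (-(p ^ j : ℕ)) (x.1 : End F V) ((ζ, i) ::ₘ A)) {c : Fˣ} (hc : σ c * c = 1) :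
    ∃ w : Φ.isom, w * x = x * w ∧ LinearEquiv.det w.1 = c ^ i := by
  classical
  have h1 := h.dim
  rw [eig_herm hF, ← tdim_eq_card, tdim_cons] at h1
  dsimp only at h1
  obtain ⟨U, hU, h2⟩ := Spu.exists_nd (.inr ⟨hσ1, hε⟩) hn (l := per (-(p ^ j : ℕ)) ζ * i)
    (by omega) fun e => absurd e hσ1
  have h3 := hn.finrank_add_finrank_perp U
  obtain ⟨y₁, h4⟩ := real_herm hU hε hσ1 hσ hF (A := {(ζ, i)}) (pos_singleton.2 (pos_cons.1 h.pos).1)
    (by simp [h2])
  obtain ⟨y₂, h5⟩ := real_herm (hn.restrict_perp hU) hε hσ1 hσ hF (pos_cons.1 h.pos).2 (by omega)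
  obtain ⟨f, a, b, h6, h7, h8⟩ := exists_iso_sum hn hU (iso_coe.2 y₁.2) (iso_coe.2 y₂.2)
  obtain ⟨y, rfl⟩ := h6.exists_isom hn
  obtain ⟨k, rfl⟩ := isConj_iff.1 ((isConj_herm_iff hσ1 hn (x := y) (y := x)).2
    (exists_equiv_iff.2 (by
      rw [elemDiv_of_isCompl (hn.isCompl_perp hU) a b, h7, h8, h4.2, h5.2, h.2, ← Multiset.map_add,
        ← Multiset.add_bind, Multiset.singleton_add])))
  obtain ⟨θ, hθ⟩ : ∃ θ, σ θ ≠ θ := not_forall.1 fun e => hσ1 (RingHom.ext e)
  obtain ⟨e, he⟩ := exists_h90_comm σ (θ := θ) (u := c) (sub_ne_zero.2 hθ.symm).isUnit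
    (by rwa [mul_comm])
  obtain ⟨s, h10⟩ : ∃ s : F[X], LinearMap.det (aeval (y₁.1 : End F U) s) = (e + c * σ e) ^ i := by
    have h9 := h4.2
    rw [Multiset.singleton_bind, ex] at h9
    split_ifs at h9 with h0
    · exact exists_aeval_det (D := 0) (mp_irr ζ) (mp_monic ζ) h9 isCoprime_one_right _
    · exact exists_aeval_det (D := {_}) (mp_irr ζ) (mp_monic ζ) h9 (by
        simpa [blk] using (isCoprime_of_ne (mp_irr _) (mp_monic _) (mp_irr _) (mp_monic _)
          fun e' => h0 (mp_eq_iff.1 e')).pow_right) _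
  have h9 := (commute_aeval (Commute.refl (y₁.1 : End F U)) s).symm
  generalize hz : aeval (y₁.1 : End F U) s = z at h9 h10
  have h11 : IsUnit (adj hU z) := (LinearMap.isUnit_iff_isUnit_det _).2 (by
    rw [det_adj, h10]; exact (he.pow _).map σ)
  have h12 : Commute (adj hU z) y₁.1 := by
    have := congrArg (adj hU) h9
    rw [adj_mul, adj_mul, adj_isom hU y₁.2.1] at this
    refine LinearMap.ext fun v => ?_
    simpa using congrArg y₁.1 (LinearMap.congr_fun this (y₁.1 v))
  obtain ⟨t, ht⟩ := h11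
  have h13 : Commute (t⁻¹ : (End F U)ˣ).1 y₁.1 := Commute.units_inv_left (ht ▸ h12)
  have h14 : Iso (Φ.restrict U) (z * (t⁻¹ : (End F U)ˣ).1) :=
    (Spu.iso (Φ := Φ.restrict U) (.inr ⟨hσ1, hε⟩)).2 fun u v => by
      rw [End.mul_apply, ← B_adj' hU, ← End.mul_apply, ← mul_assoc,
        (hz ▸ commute_aeval h12 s : Commute _ z).eq, ← ht, mul_assoc, t.mul_inv, mul_one, ← B_adj hU, ← ht,
        ← End.mul_apply, t.mul_inv, End.one_apply]
  obtain ⟨w, hw⟩ := h14.exists_isom hU
  obtain ⟨w', h15, h16⟩ := exists_cent_of_sub hn y hU (mem_stab_of_le a) w fun u => by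
    have : ∀ u, restrictStab y.1 (mem_stab_of_le a) u = y₁.1 u := fun u =>
      Subtype.ext (congrArg Subtype.val (LinearMap.congr_fun h7 u))
    simp only [this]
    exact LinearMap.congr_fun (hw ▸ (Commute.mul_left h9 h13).eq) u
  refine ⟨k * w' * k⁻¹, by simp [mul_assoc]; simp [← mul_assoc, h15], ?_⟩
  rw [Subgroup.coe_mul, Subgroup.coe_mul, map_mul, map_mul, mul_right_comm, ← map_mul,
    ← Subgroup.coe_mul, mul_inv_cancel, Subgroup.coe_one, map_one, one_mul, h16]
  have h17 := congrArg LinearMap.det t.mul_inv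
  rw [map_mul, ht, det_adj, h10, map_one] at h17
  refine Units.ext (mul_right_cancel₀ ((he.pow i).map σ).ne_zero ?_)
  rw [LinearEquiv.coe_det, hw, map_mul, h10, mul_assoc, mul_comm (LinearMap.det _), h17, map_pow,
    Units.val_pow_eq_pow_val, ← mul_pow, mul_one, map_add, map_mul, Φ.σσ]
  congr 1
  linear_combination (-e) * hc

theorem lin_emb (c : Fˣ) : (∀ E : Multiset (Kb F), E.map (· ^ Nat.card F) = E ∧ E.map (jb F c * ·) = E →
    orderOf c ∣ E.card ∧ E.prod ∈ (jb F).range) ∧ ∀ m t,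
    Finite {E : Multiset (Kb F) // (E.map (· ^ Nat.card F) = E ∧ E.map (jb F c * ·) = E) ∧
      E.card = orderOf c * (m + 1) ∧ E.prod = t} ∧
    Nat.card {E : Multiset (Kb F) // (E.map (· ^ Nat.card F) = E ∧ E.map (jb F c * ·) = E) ∧
      E.card = orderOf c * (m + 1) ∧ E.prod = t} ≤ Nat.card F ^ m := by
  obtain ⟨p, _⟩ := CharP.exists F
  have := Fintype.ofFinite F
  obtain ⟨j, hp, hj⟩ := FiniteField.card F p
  have hp := Fact.mk hp
  rw [← Nat.card_eq_fintype_card] at hj
  rw [← orderOf_injective _ jb_inj c]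
  refine ⟨fun E h => ⟨pow_card_of_tw h.2, mem_jb.2 ?_⟩, fun m t => hj ▸ card_lin (hj ▸ Finite.one_lt_card)
    (orderOf_pos' _) m t⟩
  rw [zpow_natCast]
  exact (Multiset.prod_hom E (powMonoidHom _)).symm.trans (congrArg _ h.1)

theorem HasJ.frob' {u : ℕ →₀ Multiset (Kb F)} (h : HasJ f u) (i : ℕ) : (u i).map (· ^ Nat.card F) = u i := by
  obtain ⟨p, _⟩ := CharP.exists F
  have := Fintype.ofFinite F
  obtain ⟨j, hp, hj⟩ := FiniteField.card F p
  have hp := Fact.mk hp
  rw [← Nat.card_eq_fintype_card] at hj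
  exact hj ▸ h.frob hj i

open Matrix

theorem card_gl_le (n : ℕ) :
    (Nat.card (ConjClasses (GL (Fin n) F)) : ℝ) ≤ Kc (Nat.card F - 1) (Nat.card F) n := by
  choose r hr using ConjClasses.mk_surjective (α := GL (Fin n) F)
  obtain ⟨φ, h, -⟩ := exists_tu (orderOf_pos 1) (jb F) (lin_emb 1).1 (lin_emb 1).2 (finrank_fin_fun F)
    (fun c => toLin' (r c).1) fun c => ⟨(r c).isUnit.map toLinAlgEquiv', fun u hu i => ⟨hu.frob' i, by simp⟩⟩
  have := (card_tu (A := Fˣ) (q := Nat.card F) (n / orderOf (1 : Fˣ))).2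
  rw [Nat.card_units, Nat.cast_pred Nat.card_pos] at this
  simpa using (Nat.cast_le.2 (Nat.card_le_card_of_injective φ fun a b e => by
    rw [← hr a, ← hr b, ConjClasses.mk_eq_mk_iff_isConj, isConj_GL_iff_elemDiv, h a b e])).trans this

theorem card_sl_le {n : ℕ} [NeZero n] (c : Fˣ) {z : SpecialLinearGroup (Fin n) F} (hz : z.1 = (c : F) • 1) :
    Nat.card {C : ConjClasses (SpecialLinearGroup (Fin n) F) // ∃ x, ConjClasses.mk x = C ∧ IsConj (z * x) x} ≤
      Nat.card (Sl Fˣ (Nat.card F) (n / orderOf c) 1) := by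
  choose r hr hr' using fun C : {C : ConjClasses (SpecialLinearGroup (Fin n) F) //
    ∃ x, ConjClasses.mk x = C ∧ IsConj (z * x) x} => C.2
  obtain ⟨φ, h1, h2, h3⟩ := exists_tu (orderOf_pos c) (jb F) (lin_emb c).1 (lin_emb c).2 (finrank_fin_fun F)
    (fun a => toLin' (r a).1) fun a => ⟨(SpecialLinearGroup.toGL (r a)).isUnit.map toLinAlgEquiv',
      fun u hu i => ⟨hu.frob' i, hu.tw (by
        simpa [hz] using isConj_GL_iff_elemDiv.1 (SpecialLinearGroup.toGL.map_isConj (hr' a))) i⟩⟩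
  refine card_classes_le GeneralLinearGroup.det GeneralLinearGroup.det_surjective _
    SpecialLinearGroup.toGL_injective range_toGL r hr φ (fun a b e => isConj_GL_iff_elemDiv.2 (h1 a b e))
    (fun a i hi c => ?_) fun a => jb_inj ((h3 a (by simp)).trans (map_one _).symm)
  obtain ⟨-, ξ, h⟩ := h2 a i hi
  obtain ⟨w, h4, h5⟩ := exists_commute_det_blk (mp_irr ξ) (mp_monic ξ) h c
  obtain ⟨w, rfl⟩ := toLin'.surjective w
  rw [LinearMap.det_toLin'] at h5
  refine ⟨GeneralLinearGroup.mkOfDetNeZero w (by simp [h5]), Units.ext (toLin'.injective ?_), Units.ext h5⟩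
  simpa [toLin'_mul, Module.End.mul_eq_comp] using h4

theorem card_su_le {K : Type u} [Field K] [Fintype K] {q n : ℕ} (hK : Fintype.card K = q ^ 2) (hn : 1 ≤ n) :
    ∃ (A : Type u) (_ : CommGroup A) (_ : Finite A) (_ : IsCyclic A), Nat.card A = q + 1 ∧
      Nat.card (ConjClasses (SU n K q)) ≤ Nat.card (Sl A q n 1) := by
  have := Fact.mk hK
  have hq := two_le_of_card_eq_sq hK
  have h5 := range_guDet (F := K) (q := q) hn
  obtain ⟨p, _⟩ := CharP.exists K
  have hp := Fact.mk (CharP.char_is_prime K p)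
  obtain ⟨j, rfl⟩ := exists_pow_char (p := p) hK
  refine ⟨(guDet n K (p ^ j)).range, inferInstance, inferInstance, inferInstance, by
    rw [h5, card_rootsOfUnity_eq_gcd, Nat.card_eq_fintype_card, hK,
      Nat.gcd_eq_left ⟨p ^ j - 1, by simpa using Nat.sq_sub_sq (p ^ j) 1⟩], ?_⟩
  choose r hr using fun C : {_C : ConjClasses (SU n K (p ^ j)) // True} => ConjClasses.mk_surjective C.1
  have h6 : ∀ g : GU n K (p ^ j), Iso (hermFormed hK n) (toLin' g.1.1) := fun g => by
    have := iso_coe.2 (guEquiv hK n g).2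
    rwa [coe_guEquiv, coe_glEquiv] at this
  obtain ⟨φ, h1, h2, h3⟩ := exists_tu one_pos ((jb K).comp (guDet n K (p ^ j)).range.subtype)
    (fun E (h : E.map (· ^ (-(p ^ j : ℕ) : ℤ)) = E) => ⟨one_dvd _, by
      have h7 : E.prod ^ (-(p ^ j : ℕ) : ℤ) = E.prod := 
        (Multiset.prod_hom E (zpowGroupHom _)).symm.trans (congrArg _ h)
      obtain ⟨c, hc⟩ := mem_jb.2 ((du_neg_of_sq hK).2 _ h7)
      refine ⟨⟨c, h5 ▸ jb_inj ?_⟩, hc⟩
      rw [map_pow, hc, pow_succ, map_one, mul_eq_one_iff_eq_inv, ← inv_eq_iff_eq_inv, ← zpow_natCast, ← _root_.zpow_neg,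
        h7]⟩) (card_her hq) (finrank_fin_fun K) (fun a => toLin' (r a).1.1) fun a =>
      ⟨(suToGU n K _ (r a)).1.isUnit.map toLinAlgEquiv', fun u hu i => hu.dual (hermFormed_nondeg hK n)
        (fun _ => rfl) (du_neg_of_sq hK) (h6 (suToGU n K _ (r a))) i⟩
  rw [← Nat.card_congr (Equiv.subtypeUnivEquiv (p := fun _ => True) fun _ => trivial)]
  refine (card_classes_le (guDet n K (p ^ j)).rangeRestrict (MonoidHom.rangeRestrict_surjective _) _
    suToGU_injective (range_suToGU.trans (MonoidHom.ker_rangeRestrict _).symm) r hr φ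
    (fun a b e => (isConj_GU_iff hK).2 (isConj_iff_elemDiv.2 (h1 a b e))) (fun a i hi c => ?_)
    fun a => Subtype.ext (jb_inj ((h3 a (by simp)).trans (map_one _).symm))).trans_eq (by rw [Nat.div_one])
  obtain ⟨h7, ξ, h⟩ := h2 a i hi
  obtain ⟨A, h8, -⟩ := exists_hasF_GU hK (suToGU n K _ (r a))
  obtain ⟨w, h9, e⟩ := Multiset.mem_map.1 (h8.2 ▸ h)
  obtain ⟨⟨ζ, k⟩, h10, h11⟩ := of_mem_bind_ex h9
  obtain rfl : i = k := by
    have := ((blk_eq_iff (z := (ξ, i)) h7).1 e.symm).2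
    rcases h11 with rfl | rfl <;> exact this
  obtain ⟨A, rfl⟩ := Multiset.exists_cons_of_mem h10
  obtain ⟨w, h12, h13⟩ := exists_cent_det_blk (hermFormed_nondeg hK n) rfl (frobq_ne_id hK) (fun _ => rfl)
    (Nat.card_eq_fintype_card.trans hK) (guEquiv hK n (suToGU n K _ (r a))) (ζ := ζ) (i := i) (A := A)
    (by rwa [coe_guEquiv, coe_glEquiv]) (frobq_mul_self hK (h5.le c.2))
  obtain ⟨w, rfl⟩ := (guEquiv hK n).surjective w
  rw [← map_mul, ← map_mul, (guEquiv hK n).injective.eq_iff] at h12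
  exact ⟨w, h12, Subtype.ext (by rw [coe_guEquiv, linearEquiv_det_glEquiv] at h13; exact h13)⟩

end Cfsg.Agent.Classical.Kn
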