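import Cfsg.Agent.Classical.Kn4

/-! Numerical bounds for the model counts `Sl A q n c` in the linear (`sl_le`) and the unitary case
(`su_le`). -/

set_option autoImplicit false

namespace Cfsg.Agent.Classical.Kn

open Finset

theorem term_le {q : ℝ} {d e : ℕ} (hd : 2 ≤ d) (he : 1 ≤ e) (h : 4 ≤ d * e) (hq : (d : ℝ) + 1 ≤ q) :
    ((d : ℝ) ^ 2 - 1) * q ^ e ≤ (2 + (-1) ^ d) * q ^ (d * e - 2) := by
  have h0 : (2 : ℝ) ≤ d := by exact_mod_cast hd
  have h1 : 1 ≤ q := by linarith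
  by_cases h2 : e + 4 ≤ d * e
  · have h3 : q ^ (e + 2) ≤ q ^ (d * e - 2) := pow_le_pow_right₀ h1 (by omega)
    have h4 : (-1 : ℝ) ≤ (-1) ^ d := by rcases neg_one_pow_eq_or ℝ d with h | h <;> simp [h]
    rw [pow_add] at h3
    nlinarith [mul_le_mul_of_nonneg_right (show (d : ℝ) ^ 2 - 1 ≤ q ^ 2 by nlinarith)
      (pow_nonneg (zero_le_one.trans h1) e), pow_nonneg (zero_le_one.trans h1) (d * e - 2)]
  · have h3 : d ≤ 4 := by nlinarith
    interval_cases d
    · have := pow_le_pow_right₀ h1 (show e ≤ 2 * e - 2 by omega)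
      norm_num; linarith
    · omega
    · obtain rfl : e = 1 := by omega
      norm_num at hq ⊢; nlinarith

theorem sum_w (D : ℕ) : ∑ d ∈ Icc 2 (D + 1), (2 + (-1 : ℝ) ^ d) = 2 * D + (1 - (-1) ^ D) / 2 := by
  induction D with
  | zero => simp
  | succ D ih => rw [sum_Icc_succ_top (by omega), ih]; push_cast; ring

variable {A : Type*} [CommGroup A] [Finite A] [IsCyclic A] {q : ℕ}

theorem sl_le (hq : Nat.card A + 1 = q) (c : A) : Nat.card (Sl A q 1 c) ≤ 1 ∧
    Nat.card (Sl A q 2 c) ≤ q + 1 + min (3 * (q - 2)) 3 ∧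
    ∀ m, 3 ≤ m → Nat.card (Sl A q m c) ≤ q ^ (m - 1) + 3 * q ^ (m - 2) := by
  have h := fun n => sl_bound (q := q) (n := n) c
  obtain ⟨a, ha⟩ := Nat.exists_eq_add_of_le' (Nat.card_pos (α := A))
  rw [ha] at h hq
  subst hq
  have h0 : (0 : ℝ) < (a + 1 : ℕ) := by positivity
  have h1 := fun n => Kc_gl (q := (a + 1 + 1 : ℕ)) (n := n) (by norm_cast; omega)
  rw [Nat.cast_succ (a + 1), add_sub_cancel_right, ← Nat.cast_succ] at h1
  refine ⟨?_, ?_, fun m hm => ?_⟩
  · exact_mod_cast le_of_mul_le_mul_left ((h 1).trans (by simp [Kc_one] : _ ≤ _ * (1 : ℝ))) h0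
  · have := h 2
    rcases (Nat.dvd_prime Nat.prime_two).1 (Nat.gcd_dvd_left 2 (a + 1)) with e | e
    · rw [e] at this
      refine le_trans ?_ (Nat.le_add_right _ _)
      exact_mod_cast le_of_mul_le_mul_left (this.trans (by simp [Kc_two]; linarith : _ ≤ _ * (a + 3 : ℝ))) h0
    · have h2 := Nat.le_of_dvd a.succ_pos (e ▸ Nat.gcd_dvd_right 2 (a + 1))
      rw [e, show (Nat.divisors 2).erase 1 = {2} by decide] at this
      refine le_trans (b := a + 6) ?_ (by omega)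
      exact_mod_cast le_of_mul_le_mul_left (this.trans (by
        simp [Kc_two, Kc_one]; linarith : _ ≤ _ * (a + 6 : ℝ))) h0
  rw [← Nat.cast_le (α := ℝ)]
  refine le_of_mul_le_mul_left ((h m).trans ?_) h0
  rcases hm.eq_or_lt with rfl | hm
  · rcases (Nat.dvd_prime Nat.prime_three).1 (Nat.gcd_dvd_left 3 (a + 1)) with e | e
    · simp [e, Kc_three]; nlinarith
    · have h2 : (3 : ℝ) ≤ a + 1 := by exact_mod_cast Nat.le_of_dvd a.succ_pos (e ▸ Nat.gcd_dvd_right 3 (a + 1))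
      rw [e, show (Nat.divisors 3).erase 1 = {3} by decide]
      simp [Kc_three, Kc_one]; nlinarith
  have h2 : (m.gcd (a + 1)).divisors.erase 1 ⊆ Icc 2 (a + 1) := fun d hd => by
    have := Nat.pos_of_mem_divisors (mem_of_mem_erase hd)
    have := ne_of_mem_erase hd
    have := Nat.le_of_dvd a.succ_pos ((Nat.dvd_of_mem_divisors (mem_of_mem_erase hd)).trans (Nat.gcd_dvd_right _ _))
    exact mem_Icc.2 ⟨by omega, this⟩
  have h3 : ∀ d : ℕ, (0 : ℝ) ≤ 2 + (-1) ^ d := fun d => by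
    rcases neg_one_pow_eq_or ℝ d with h | h <;> norm_num [h]
  refine (add_le_add (h1 m (by omega)) ((sum_le_sum fun d hd => ?_).trans (sum_le_sum_of_subset_of_nonneg
    (f := fun d => (2 + (-1 : ℝ) ^ d) * (a + 1 + 1 : ℕ) ^ (m - 2)) h2 fun d _ _ =>
      mul_nonneg (h3 d) (by positivity)))).trans ?_
  · obtain ⟨e, rfl⟩ := (Nat.dvd_of_mem_divisors (mem_of_mem_erase hd)).trans (Nat.gcd_dvd_left _ _)
    obtain ⟨h4, h5⟩ := mem_Icc.1 (h2 hd)
    have h6 : 0 < e := Nat.pos_of_ne_zero (by rintro rfl; omega)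
    rw [Nat.mul_div_cancel_left _ (by omega)]
    refine le_trans ?_ (term_le h4 h6 hm (by norm_cast; omega))
    exact mul_le_mul_of_nonneg_left ((h1 e h6).trans (sub_le_self _ zero_le_one))
      (sub_nonneg.2 (one_le_pow₀ (by norm_cast; omega)))
  · obtain ⟨m, rfl⟩ := Nat.exists_eq_add_of_le' (show 2 ≤ m by omega)
    rw [← sum_mul, sum_w]
    have h4 : (0 : ℝ) ≤ (a + 1 + 1) ^ m := by positivity
    push_cast
    rcases neg_one_pow_eq_or ℝ a with h | h <;> simp [h, pow_succ] <;> nlinarith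

theorem sl_le' (hq : Nat.card A + 1 = q) (c : A) {m : ℕ} (hm : 1 ≤ m) :
    2 * Nat.card (Sl A q m c) ≤ 5 * q ^ (m - 1) := by
  obtain ⟨h1, h2, h3⟩ := sl_le hq c
  have := Nat.card_pos (α := A)
  obtain rfl | rfl | h : m = 1 ∨ m = 2 ∨ 3 ≤ m := by omega
  · simp; omega
  · simp; omega
  · replace h3 := h3 m h
    obtain ⟨m, rfl⟩ := Nat.exists_eq_add_of_le' (show 2 ≤ m by omega)
    simp only [Nat.add_sub_cancel, show m + 2 - 1 = m + 1 from rfl, pow_succ] at h3 ⊢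
    nlinarith [Nat.mul_le_mul_left (q ^ m) (show 2 ≤ q by omega)]

theorem prod_tail {y t B D : ℝ} {N : ℕ} (hy : 0 ≤ y) (hy' : y < 1) (hD : 0 ≤ D) (ht : 0 ≤ t)
    (h2 : y ^ 2 + y ≤ t * (1 - y ^ (N + 1))) (h3 : B * t + D * y ≤ D)
    (h4 : ∏ i ∈ range N, (1 + y ^ (i + 2)) / (1 - y ^ (i + 1)) ≤ B - D * y ^ N) {x : ℝ} (hx : 0 ≤ x)
    (hx' : x ≤ y) (n : ℕ) : ∏ i ∈ range n, (1 + 1 * x ^ (i + 2)) / (1 - x ^ (i + 1)) ≤ B := by
  have h0 : ∀ i, 0 < 1 - y ^ (i + 1) := fun i => sub_pos.2 (pow_lt_one₀ hy hy' i.succ_ne_zero)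
  refine le_trans (prod_le_prod (fun i _ => div_nonneg (by positivity) (sub_nonneg.2 (pow_le_one₀ hx
    (hx'.trans hy'.le)))) fun i _ => ?_) (prod_le_of_tail hy (fun i => ?_) (fun i hi => ?_) ht hD h3 h4 n)
  · have := h0 i
    rw [one_mul]; gcongr
  · exact (one_le_div (h0 i)).2 (by linarith [pow_nonneg hy (i + 1), pow_nonneg hy (i + 2)])
  · rw [div_le_iff₀ (h0 i)]
    have h5 : y ^ 2 + y ≤ t * (1 - y ^ (i + 1)) := 
      h2.trans (mul_le_mul_of_nonneg_left (sub_le_sub_left (pow_le_pow_of_le_one hy hy'.le (by omega)) _) ht)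
    have := mul_le_mul_of_nonneg_left h5 (pow_nonneg hy i)
    simp only [pow_succ] at this ⊢
    linarith

theorem Kc_su {q y B : ℝ} (hq : 1 < q) (hy : q⁻¹ ≤ y)
    (h : ∀ n, ∏ i ∈ range n, (1 + 1 * q⁻¹ ^ (i + 2)) / (1 - q⁻¹ ^ (i + 1)) ≤ B) {n : ℕ} (hn : 0 < n) :
    Kc (q + 1) q n ≤ (1 + y) * B * q ^ n := by
  obtain ⟨n, rfl⟩ := Nat.exists_eq_add_of_le' hn
  have h0 : 0 < q := by linarith
  have h1 : 0 ≤ B := zero_le_one.trans (by simpa using h 0)
  have := dm_Wf hq zero_le_one n (n + 1)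
  rw [inv_pow, ← div_eq_mul_inv, div_le_iff₀ (by positivity)] at this
  refine this.trans (mul_le_mul_of_nonneg_right ((mul_le_mul_of_nonneg_left (h n) (by positivity)).trans ?_)
    (by positivity))
  rw [one_mul]; gcongr

theorem term_le' {q : ℝ} {d e : ℕ} (hd : 2 ≤ d) (he : 1 ≤ e) (h3 : 3 ≤ q) (hq : (d : ℝ) ≤ q + 1) :
    ((d : ℝ) ^ 2 - 1) * q ^ e ≤ (if d ≤ 3 then 3 else if d = 4 then 2 else 1) * q ^ (d * e - 1) := by
  have h0 : (2 : ℝ) ≤ d := by exact_mod_cast hd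
  have h1 : 1 ≤ q := by linarith
  have h2 : ∀ k, k + 2 ≤ d → q ^ e * q ^ k ≤ q ^ (d * e - 1) := fun k hk => by
    rw [← pow_add]; exact pow_le_pow_right₀ h1 (by
      have : (k + 2) * e ≤ d * e := Nat.mul_le_mul_right _ hk
      have : k ≤ k * e := Nat.le_mul_of_pos_right _ he
      rw [add_mul] at *; omega)
  have h4 := pow_pos (zero_lt_one.trans_le h1) e
  obtain rfl | rfl | rfl | h : d = 2 ∨ d = 3 ∨ d = 4 ∨ 5 ≤ d := by omega
  · have := h2 0 le_rfl; norm_num at this ⊢; linarith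
  · have := h2 1 le_rfl; norm_num at this ⊢; nlinarith
  · have := h2 2 le_rfl; norm_num at this ⊢; nlinarith [mul_le_mul h3 h3 (by norm_num) (by linarith)]
  · have := h2 3 h
    rw [if_neg (by omega), if_neg (by omega), one_mul]
    refine le_trans ?_ this
    rw [mul_comm]
    exact mul_le_mul_of_nonneg_left (by nlinarith [mul_le_mul h3 h3 (by norm_num) (by linarith)]) h4.le

theorem sum_w' (k : ℕ) : ∑ d ∈ Icc 2 (k + 4), (if d ≤ 3 then 3 else if d = 4 then 2 else 1 : ℝ) = k + 8 := by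
  induction k with
  | zero => rw [sum_Icc_succ_top (by omega), sum_Icc_succ_top (by omega)]; norm_num
  | succ k ih => rw [add_right_comm, sum_Icc_succ_top (by omega), ih, if_neg (by omega), if_neg (by omega)]
                 push_cast; ring

theorem su_le (hq : Nat.card A = q + 1) (h2 : 2 ≤ q) (c : A) {n : ℕ} (hn : 1 ≤ n) :
    100 * Nat.card (Sl A q n c) ≤ 826 * q ^ (n - 1) := by
  have h := sl_bound (q := q) (n := n) c
  rw [hq, Nat.cast_succ] at h
  obtain ⟨m, rfl⟩ := Nat.exists_eq_add_of_le' hn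
  rw [← Nat.cast_le (α := ℝ)]
  push_cast
  have h0 : (0 : ℝ) < q + 1 := by positivity
  suffices _ ≤ (q + 1 : ℝ) * (8.26 * q ^ m) by linarith [le_of_mul_le_mul_left (h.trans this) h0]
  rcases h2.eq_or_lt with rfl | h2
  · have h1 := fun n => Kc_su (q := 2) (y := 1 / 2) (B := 5.506) (n := n) one_lt_two (by norm_num)
      (prod_tail (y := 1 / 2) (t := 0.7515) (D := 8.28) (N := 8) (by norm_num) (by norm_num) (by norm_num)
        (by norm_num) (by norm_num) (by norm_num) (by norm_num [prod_range_succ]) (by norm_num) (by norm_num))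
    have h3 := h1 _ hn
    have h4 : (0 : ℝ) < 2 ^ m := by positivity
    rw [pow_succ] at h3
    push_cast
    rcases (Nat.dvd_prime Nat.prime_three).1 (Nat.gcd_dvd_right (m + 1) 3) with e | e
    · rw [e, Nat.divisors_one, erase_singleton, sum_empty]; linarith
    rw [e, show (Nat.divisors 3).erase 1 = {3} by decide, sum_singleton]
    obtain ⟨k, hk⟩ := e ▸ Nat.gcd_dvd_left (m + 1) 3
    rw [hk, Nat.mul_div_cancel_left _ three_pos, ← hk]
    obtain rfl | h5 : k = 1 ∨ 2 ≤ k := by omega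
    · obtain rfl : m = 2 := by omega
      rw [Kc_one]; norm_num at h3 ⊢; linarith
    · have h6 := h1 k (by omega)
      have h7 : (2 : ℝ) ^ (k + 3) ≤ 2 ^ m := pow_le_pow_right₀ one_le_two (by omega)
      rw [pow_add] at h7
      norm_num at h3 h6 h7 ⊢; linarith
  have h3 : (3 : ℝ) ≤ q := by exact_mod_cast h2
  have h4 : (q : ℝ)⁻¹ ≤ 1 / 3 := by rw [one_div]; gcongr
  have h1 := fun n => Kc_su (q := q) (y := 1 / 3) (B := 2.1) (n := n) (by linarith) h4
    (prod_tail (y := 1 / 3) (t := 0.447) (D := 1.41) (N := 4) (by norm_num) (by norm_num) (by norm_num)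
      (by norm_num) (by norm_num) (by norm_num) (by norm_num [prod_range_succ]) (by positivity) h4)
  obtain ⟨k, rfl⟩ := Nat.exists_eq_add_of_le' h2
  have h5 : ((m + 1).gcd (k + 3 + 1)).divisors.erase 1 ⊆ Icc 2 (k + 4) := fun d hd => by
    have := Nat.pos_of_mem_divisors (mem_of_mem_erase hd)
    have := ne_of_mem_erase hd
    have := Nat.le_of_dvd (k + 3).succ_pos
      ((Nat.dvd_of_mem_divisors (mem_of_mem_erase hd)).trans (Nat.gcd_dvd_right _ _))
    exact mem_Icc.2 ⟨by omega, this⟩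
  refine (add_le_add (h1 _ hn) ((sum_le_sum fun d hd => ?_).trans (sum_le_sum_of_subset_of_nonneg
    (f := fun d => (if d ≤ 3 then 3 else if d = 4 then 2 else 1 : ℝ) * (2.8 * (k + 3 : ℕ) ^ m)) h5 fun d _ _ =>
      mul_nonneg (by split_ifs <;> norm_num) (by positivity)))).trans ?_
  · obtain ⟨e, he⟩ := (Nat.dvd_of_mem_divisors (mem_of_mem_erase hd)).trans (Nat.gcd_dvd_left _ _)
    obtain ⟨h6, h7⟩ := mem_Icc.1 (h5 hd)
    have h8 : 0 < e := Nat.pos_of_ne_zero (by rintro rfl; omega)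
    rw [he, Nat.mul_div_cancel_left _ (by omega)]
    have h9 := term_le' h6 h8 h3 (by norm_cast)
    rw [← he, Nat.add_sub_cancel] at h9
    have := mul_le_mul_of_nonneg_left (h1 e h8) (sub_nonneg.2 (one_le_pow₀ (n := 2)
      (show (1 : ℝ) ≤ d by norm_cast; omega)))
    linarith
  · rw [← sum_mul, sum_w', pow_succ]
    have : (0 : ℝ) < (k + 3 : ℕ) ^ m := by positivity
    have : (0 : ℝ) ≤ k := by positivity
    push_cast at *
    nlinarith

end Cfsg.Agent.Classical.Kn
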