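import Cfsg.Agent.Classical.PGL2Dih
import Cfsg.Agent.Classical.Jordan
import Cfsg.Agent.FG.Cover
import Mathlib.LinearAlgebra.Matrix.Swap

/-! No group between `PSL_n(q)` and `PGL_n(q)` has a minimal cover by nilpotent subgroups. -/

set_option autoImplicit false

namespace Cfsg.Agent.Classical

open Matrix Subgroup MulAction Cfsg.Agent.FG Module
open scoped MatrixGroups

section Gen

variable {G X : Type*} [Group G] [MulAction G X] {𝓐 : Finset (Subgroup G)}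

theorem nilp_fix {A : Subgroup G} (hA : Group.IsNilpotent A) {u : G} (hu : u ∈ A) {x : X} (h0 : u • x = x)
    (h : ∀ a ∈ A, u • a • x = a • x → a • x = x) : A ≤ stabilizer G x := by
  have := normalizerCondition_iff_only_full_group_self_normalizing.1 
    (Group.normalizerCondition_of_isNilpotent (G := A)) (stabilizer A x) (le_antisymm (fun (a : A) ha => h a a.2 (by
      have := (mem_normalizer_iff''.1 ha ⟨u, hu⟩).1 h0
      rwa [mem_stabilizer_iff, mul_smul, mul_smul, inv_smul_eq_iff] at this)) le_normalizer)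
  exact fun a ha => (this ▸ mem_top _ : (⟨a, ha⟩ : A) ∈ stabilizer A x)

theorem ncov_red (h : NCov 𝓐) (φ : Subgroup G → Subgroup G) (h1 : ∀ A ∈ 𝓐, φ A ≠ ⊤ ∧ A ≤ φ A) {B : Subgroup G}
    (hB : B ∈ 𝓐) (h2 : ∀ b ∈ B, ∃ A ∈ 𝓐, A ≠ B ∧ b ∈ φ A) : False := by
  classical
  have h3 := h.2.1 ((𝓐.erase B).image φ) ⟨fun A hA => by
    obtain ⟨A, hA', rfl⟩ := Finset.mem_image.1 hA
    exact (h1 A (Finset.mem_of_mem_erase hA')).1, fun g => by
    obtain ⟨C, hC, hg⟩ := h.1.2 g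
    by_cases e : C = B
    · obtain ⟨A, h3, h4, h5⟩ := h2 g (e ▸ hg)
      exact ⟨_, Finset.mem_image_of_mem _ (Finset.mem_erase.2 ⟨h4, h3⟩), h5⟩
    exact ⟨_, Finset.mem_image_of_mem _ (Finset.mem_erase.2 ⟨e, hC⟩), (h1 C hC).2 hg⟩⟩
  have := Finset.card_image_le (s := 𝓐.erase B) (f := φ)
  have := Finset.card_erase_add_one hB
  omega

theorem ncov_two {H : Subgroup G} {𝓐 : Finset (Subgroup H)} (h : NCov 𝓐) {u s t : G} (hu : ∀ a, a * u * a⁻¹ ∈ H)
    {x y : X} (hx : ∀ a : G, u • a • x = a • x ↔ a • x = x) (hy : ∀ a : G, u • a • y = a • y ↔ a • y = y)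
    (h1 : s • x = x) (h2 : s • y ≠ y) (h3 : t • x ≠ x) : False := by
  have key : ∀ {z : X}, (∀ a : G, u • a • z = a • z ↔ a • z = z) → ∀ a : G, (a * u * a⁻¹) • z = z ↔ a • z = z :=
    fun hz a => by rw [mul_smul, mul_smul, smul_eq_iff_eq_inv_smul, hz, inv_smul_eq_iff, eq_comm]
  have le : ∀ {z : X}, (∀ a : G, u • a • z = a • z ↔ a • z = z) → ∀ c : G, c • z = z → ∀ A ∈ 𝓐, ⟨_, hu c⟩ ∈ A →
      A ≤ stabilizer H z := fun {z} hz c hc A hA h4 => nilp_fix (h.2.2 A hA) h4 ((key hz c).2 hc) fun a _ ha => by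
    replace ha : (c * u * c⁻¹) • a.1 • z = a.1 • z := ha
    rw [mul_smul, mul_smul, smul_eq_iff_eq_inv_smul, ← mul_smul c⁻¹, hz, mul_smul, inv_smul_eq_iff, hc] at ha
    exact ha
  obtain ⟨A, hA, h4⟩ := h.1.2 ⟨_, hu 1⟩
  obtain ⟨B, hB, h5⟩ := h.1.2 ⟨_, hu s⟩
  obtain rfl := h.eq_of_le hA hB (le hx 1 (one_smul _ _) A hA h4) (le hx s h1 B hB h5) fun e =>
    h3 ((key hx t).1 (e ▸ mem_top _ : (⟨_, hu t⟩ : H) ∈ stabilizer H x))
  exact h2 ((key hy s).1 (le hy 1 (one_smul _ _) A hA h4 h5))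

end Gen

variable {F : Type*} [Field F]

theorem ncov_pgl2 [Finite F] (hq : 4 ≤ Nat.card F) {G : Subgroup PGL(2, F)} (hG : LP F ≤ G) {𝓐 : Finset (Subgroup G)}
    (h : NCov 𝓐) : False := by
  classical
  have hsq : ∀ g : PGL(2, F), g ^ 2 ∈ G := fun g => hG (by
    obtain ⟨g, rfl⟩ := ProjGenLinGroup.mk_surjective g
    rw [← map_pow, mem_range_toPGL_iff]
    exact ⟨g.1.det, by simp [sq]⟩)
  obtain ⟨u, hu⟩ : ∃ u : P1 F → G, ∀ x y, u x • y = y ↔ y = x := by
    choose c hc using exists_smul_eq_inf (k := F)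
    refine ⟨fun x => ⟨_, hG ((instNormalLP (F := F)).conj_mem' (aff 1 1) ((mem_range_toPGL_iff _).2 (by
      simp [det_fin_two])) (c x))⟩, fun x y => ?_⟩
    rw [Subgroup.mk_smul, mul_smul, mul_smul, inv_smul_eq_iff, aff_one_smul_eq_iff one_ne_zero, ← hc x,
      smul_left_cancel_iff]
  have h1 : ∀ x, ∀ A ∈ 𝓐, u x ∈ A → A ≤ stabilizer G x := fun x A hA hx =>
    nilp_fix (h.2.2 A hA) hx ((hu x x).2 rfl) fun a _ => (hu x _).1
  obtain ⟨c, hc⟩ := IsCyclic.exists_ofOrder_eq_natCard (α := Fˣ)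
  rw [Nat.card_units] at hc
  let y : G := ⟨_, hsq (aff c 0)⟩
  have hy : ∀ x : P1 F, y • x = x ↔ x = inf ∨ x = pt 0 := fun x => by
    have : (c : F) ^ 2 - 1 ≠ 0 := fun h => by
      have := Nat.le_of_dvd two_pos (orderOf_dvd_of_pow_eq_one (x := c) (Units.ext (by simpa [sub_eq_zero] using h)))
      omega
    rw [Subgroup.mk_smul, aff_zero_pow]
    obtain rfl | ⟨x, rfl⟩ := eq_inf_or_eq_pt x
    · simp
    · simp [← sub_eq_zero (b := x), ← sub_one_mul, this]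
  obtain ⟨B, hB, hyB⟩ := h.1.2 y
  refine ncov_red h (fun A => if h : ∃ x, u x ∈ A then stabilizer G h.choose else A) (fun A hA => ?_) hB fun b hb => ?_
  · split_ifs with h2
    · refine ⟨fun e => ?_, h1 _ A hA h2.choose_spec⟩
      obtain ⟨z, hz, -⟩ := exists_third h2.choose h2.choose
      exact hz ((hu z _).1 (e ▸ mem_top _ : u z ∈ stabilizer G h2.choose))
    · exact ⟨h.1.1 A hA, le_rfl⟩
  by_cases h2 : ∃ x : P1 F, b • x = x
  · obtain ⟨x, hx⟩ := h2
    obtain ⟨A, hA, h3⟩ := h.1.2 (u x)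
    refine ⟨A, hA, ?_, by
      rw [dif_pos ⟨x, h3⟩, (hu x _).1 (h1 _ A hA (Exists.choose_spec (⟨x, h3⟩ : ∃ x, u x ∈ A)) h3)]; exact hx⟩
    rintro rfl
    obtain ⟨z, h4, h5⟩ : ∃ z, z ≠ x ∧ ∀ w, y • w = w ↔ w = x ∨ w = z := by
      obtain rfl | rfl := (hy x).1 (h1 x A hA h3 hyB)
      exacts [⟨_, pt_ne_inf 0, hy⟩, ⟨_, inf_ne_pt 0, fun w => (hy w).trans or_comm⟩]
    exact h4 ((hu x z).1 (nilp_fix (h.2.2 A hA) hyB ((h5 z).2 (.inr rfl)) (fun a ha h6 => ((h5 _).1 h6).resolve_left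
      fun h7 => h4 (smul_left_cancel a (h7.trans (h1 x A hA h3 ha).symm))) h3))
  obtain ⟨b, hbG⟩ := b
  obtain ⟨g, rfl⟩ := ProjGenLinGroup.mk_surjective b
  have h3 : NoEig g.1 := (noEig_iff_fixed g).2 (not_exists.1 h2)
  set T := (centralizer ({g} : Set (GL (Fin 2) F))).map ProjGenLinGroup.mk
  have hT : IsCyclic T := isCyclic_torus_PGL h3.disc_ne_zero
  have h4 : Nat.card T = Nat.card F + 1 := Nat.eq_of_mul_eq_mul_left (show 0 < Nat.card F - 1 by omega) (by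
    rw [card_torus_PGL, card_centralizer_GL_noEig h3, mul_comm, ← Nat.sq_sub_sq, one_pow])
  have h5 : ∀ t ∈ T, ∀ x : P1 F, t • x = x → t = 1 := by
    rintro _ ⟨t, ht, rfl⟩ x hx
    obtain ⟨a, b, h5⟩ := (commute_iff_lin h3.not_isScal).1 (mem_centralizer_GL_iff.1 ht)
    by_cases hb : b = 0
    · rw [pgl_mk_eq_one_iff]; simp [h5, hb]
    · exact ((noEig_iff_fixed t).1 (h5 ▸ h3.lin a hb) x hx).elim
  obtain ⟨τ, hτ⟩ := IsCyclic.exists_ofOrder_eq_natCard (α := T)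
  obtain ⟨z, hz⟩ := (isCyclic_iff_exists_zpowers_eq_top.1 (isCyclic_of_le (inf_le_left : T ⊓ G ≤ T)))
  obtain ⟨A, hA, h6⟩ := h.1.2 ⟨z, z.2.2⟩
  have h7 : ∀ t (h : t ∈ G), t ∈ T → ⟨t, h⟩ ∈ A := fun t h h' => by
    obtain ⟨k, hk⟩ : (⟨t, h', h⟩ : ↥(T ⊓ G)) ∈ zpowers z := hz ▸ mem_top _
    convert A.zpow_mem h6 k using 1
    exact Subtype.ext (congrArg Subtype.val hk).symm
  have h8 := h7 _ hbG ⟨g, mem_centralizer_GL_iff.2 rfl, rfl⟩
  refine ⟨A, hA, ?_, by split_ifs with h9; exacts [h1 _ A hA h9.choose_spec h8, h8]⟩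
  rintro rfl
  let w : G := ⟨_, hsq τ⟩
  have := h.2.2 A hA
  have h9 : y * w = w * y := Solv.le_centralizer_of_coprime_of_isNilpotent (zpowers_le.2 (h7 _ w.2 (τ ^ 2).2))
      (zpowers_le.2 hyB) ?_ (mem_zpowers _) _ (mem_zpowers _)
  · have h10 : ∀ x : P1 F, y • x = x → y • w • x = w • x := fun x hx => by rw [← mul_smul, h9, mul_smul, hx]
    have h11 : (w * w) • (inf : P1 F) = inf := by
      rw [mul_smul]
      obtain h11 | h11 := (hy _).1 (h10 _ ((hy inf).2 (.inl rfl)))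
      · rw [h11, h11]
      obtain h12 | h12 := (hy _).1 (h10 _ ((hy _).2 (.inr rfl)))
      · rw [h11, h12]
      · exact absurd (smul_left_cancel w (h11.trans h12.symm)) (inf_ne_pt 0)
    have := Nat.le_of_dvd four_pos (orderOf_dvd_of_pow_eq_one (x := τ) (n := 2 + 2)
      (Subtype.ext (h5 _ (τ ^ (2 + 2)).2 _ (by rw [pow_add]; exact h11))))
    omega
  have a1 : ∀ k, Nat.card F + 1 ∣ 2 * k → orderOf w ∣ k := fun k hk => orderOf_dvd_of_pow_eq_one (Subtype.ext (by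
    rw [← h4, ← hτ, orderOf_dvd_iff_pow_eq_one, pow_mul] at hk
    exact congrArg T.subtype hk))
  have a2 : ∀ k, Nat.card F - 1 ∣ 2 * k → orderOf y ∣ k := fun k hk => orderOf_dvd_of_pow_eq_one (Subtype.ext (by
    rw [← hc, orderOf_dvd_iff_pow_eq_one] at hk
    simp [y, ← pow_mul, aff_zero_pow, hk]))
  rw [Nat.card_zpowers, Nat.card_zpowers]
  obtain ⟨k, hk | hk⟩ := Nat.even_or_odd' (Nat.card F)
  · obtain ⟨k, rfl⟩ : ∃ j, k = j + 1 := ⟨k - 1, by omega⟩
    refine .coprime_dvd_left (a1 (2 + (2 * k + 1)) ⟨2, by omega⟩) (.coprime_dvd_right (a2 (2 * k + 1) ⟨2, by omega⟩) ?_)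
    simp
  · exact .coprime_dvd_left (a1 (k + 1) ⟨1, by omega⟩) (.coprime_dvd_right (a2 k ⟨1, by omega⟩) (by simp))

open scoped Pointwise in
theorem ncov_pgl (m : ℕ) {G : Subgroup PGL(Fin (m + 3), F)}
    (hG : ∀ g : SpecialLinearGroup (Fin (m + 3)) F, SpecialLinearGroup.toPGL g ∈ G)
    {𝓐 : Finset (Subgroup G)} (h : NCov 𝓐) : False := by
  have h0 : ∀ (g : GL (Fin (m + 3)) F) (W : Submodule F (Fin (m + 3) → F)) v, v ∈ g • W ↔ ∃ w ∈ W, g.1 *ᵥ w = v :=
    fun g W v => Submodule.mem_smul_pointwise_iff_exists _ _ _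
  have h1 : ∀ (g : GL (Fin (m + 3)) F) (W : Submodule F (Fin (m + 3) → F)), finrank F ↥(g • W) = finrank F W :=
    fun g W => LinearEquiv.finrank_map_eq (DistribMulAction.toLinearEquiv F _ g) W
  have h2 : ∀ (g : GL (Fin (m + 3)) F) (W : Submodule F (Fin (m + 3) → F)), (∀ v ∈ W, g.1 *ᵥ v ∈ W) → g • W = W :=
    fun g W h => Submodule.eq_of_le_of_finrank_eq (fun v hv => let ⟨w, h3, h4⟩ := (h0 g W v).1 hv; h4 ▸ h w h3) (h1 g W)
  let := MulAction.compHom (Submodule F (Fin (m + 3) → F)) (M := Equiv.Perm _) (N := PGL(Fin (m + 3), F))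
    (QuotientGroup.lift (center _) (toPermHom (GL (Fin (m + 3)) F) (Submodule F (Fin (m + 3) → F))) fun g hg => by
      rw [GeneralLinearGroup.center_eq_range_scalar] at hg
      obtain ⟨c, rfl⟩ := hg
      exact Equiv.ext fun W => h2 _ W fun v hv => by simpa using W.smul_mem c hv)
  let S : Matrix (Fin (m + 3)) (Fin (m + 3)) F := of fun i j => if i.1 + 1 = j.1 then 1 else 0
  have hN : ∀ k v (i : Fin (m + 3)), (toLin' S ^ k) v i = if h : i + k < m + 3 then v ⟨i + k, h⟩ else 0 := by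
    intro k
    induction k with
    | zero => simp
    | succ k ih =>
      intro v i
      rw [pow_succ, End.mul_apply, ih]
      split_ifs with h3 h4 h4
      · simp only [toLin'_apply, mulVec, dotProduct, S, of_apply, ite_mul, one_mul, zero_mul]
        exact (Finset.sum_eq_single ⟨i + (k + 1), h4⟩ (fun j _ hj => if_neg fun e => hj (Fin.ext e.symm))
          (by simp)).trans (if_pos rfl)
      · simp only [toLin'_apply, mulVec, dotProduct, S, of_apply, ite_mul, one_mul, zero_mul]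
        exact Finset.sum_eq_zero fun j _ => if_neg (by omega)
      · omega
      · rfl
  have hW : ∀ (k : ℕ) v, v ∈ LinearMap.ker (toLin' S ^ k) ↔ ∀ i : Fin (m + 3), k ≤ i → v i = 0 := fun k v =>
    ⟨fun h i hi => by simpa [hN, hi] using congrFun h ⟨i - k, by omega⟩, fun h => funext fun i => by
      rw [hN]; split_ifs; exacts [h _ (by simp), rfl]⟩
  let u : SpecialLinearGroup (Fin (m + 3)) F := ⟨1 + S, by
    rw [det_of_isUpperTriangular fun i j hij => by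
      have : j.1 < i.1 := hij
      simp [S, one_apply, show ¬ i = j by omega, show ¬ i.1 + 1 = j.1 by omega]]
    simp [S]⟩
  have hu : ∀ v, (SpecialLinearGroup.toGL u).1 *ᵥ v = v + S *ᵥ v := fun v => (add_mulVec 1 S v).trans (by simp)
  have key : ∀ k ≤ m + 3, ∀ a : PGL(Fin (m + 3), F), SpecialLinearGroup.toPGL u • a • LinearMap.ker (toLin' S ^ k) =
      a • LinearMap.ker (toLin' S ^ k) ↔ a • LinearMap.ker (toLin' S ^ k) = LinearMap.ker (toLin' S ^ k) := by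
    intro k hk a
    obtain ⟨g, rfl⟩ := ProjGenLinGroup.mk_surjective a
    refine ⟨fun h3 => Submodule.eq_of_le_of_finrank_eq (fun v hv => ?_) (h1 g _), fun h3 => h3.symm ▸ h2 _ _ fun v hv => ?_⟩
    · have h4 := pow_finrank_apply_eq_zero (N := toLin' S) ⟨m + 3, LinearMap.ext fun v => funext fun i => by
        simp [hN]⟩ (fun w hw => by simpa [hu, -SpecialLinearGroup.coe_GL_coe_matrix] using Submodule.sub_mem _ (h3.le ((h0 _ _ _).2 ⟨w, hw, rfl⟩)) hw) hv
      have h5 : finrank F (LinearMap.ker (toLin' S ^ k)) ≤ k := by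
        simpa using LinearMap.finrank_le_finrank_of_injective (f := LinearMap.funLeft F F (Fin.castLE hk) ∘ₗ
          (LinearMap.ker (toLin' S ^ k)).subtype) ((injective_iff_map_eq_zero _).2 fun w hw => Subtype.ext
            (funext fun i => if h : k ≤ i then (hW k _).1 w.2 i h else congrFun hw ⟨i, by omega⟩))
      exact (hW k v).2 fun i hi => (hW _ v).1 h4 i ((h1 g _).trans_le (h5.trans hi))
    · rw [hu]
      rw [hW] at hv ⊢
      intro i hi
      have := hN 1 v i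
      split_ifs at this <;> simpa [hv i hi, hv ⟨_, _⟩ (hi.trans (Nat.le_succ _))] using this
  have sw : ∀ (a b : Fin (m + 3)) k, (ProjGenLinGroup.mk (GeneralLinearGroup.swap F a b)) •
      LinearMap.ker (toLin' S ^ k) = LinearMap.ker (toLin' S ^ k) ↔ ∀ v ∈ LinearMap.ker (toLin' S ^ k),
        v ∘ Equiv.swap a b ∈ LinearMap.ker (toLin' S ^ k) := fun a b k =>
    ⟨fun h3 v hv => h3.le ((h0 _ _ _).2 ⟨v, hv, swap_mulVec a b v⟩), fun h3 => h2 _ _ fun v hv =>
      (swap_mulVec a b v).symm ▸ h3 v hv⟩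
  refine ncov_two h (fun a => ?_) (key 1 (by omega)) (key 2 (by omega)) ((sw 1 2 1).2 ?_) (mt (sw 1 2 2).1 ?_)
    (mt (sw 0 1 1).1 ?_)
  · obtain ⟨g, rfl⟩ := ProjGenLinGroup.mk_surjective a
    convert hG ⟨g.1 * u.1 * (g⁻¹).1, by simp [g.det_ne_zero]⟩ using 1
    rw [← map_inv, MonoidHom.comp_apply, ← map_mul, ← map_mul]
    exact congrArg _ (Units.ext rfl)
  all_goals simp only [hW]
  · exact fun v hv i hi => hv _ (by rw [Equiv.swap_apply_def]; split_ifs; exacts [one_le_two, le_rfl, hi])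
  · exact fun h => by simpa using h (Pi.single 1 1) (fun i hi => Pi.single_eq_of_ne (by rintro rfl; simp at hi) _) 2 le_rfl
  · exact fun h => by simpa using h (Pi.single 0 1) (fun i hi => Pi.single_eq_of_ne (by rintro rfl; simp at hi) _) 1 le_rfl

end Cfsg.Agent.Classical
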