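import Cfsg.Agent.Classical.Pron8
import Cfsg.Agent.Classical.Pron9
import Cfsg.Agent.Small.SymSyl
import Cfsg.Agent.Perm.Basic

/-! The Sylow 2-subgroup `A ≀ T` of `U_κ(ℍ)`, `#κ = 2 ^ k`, and its normaliser. -/

set_option autoImplicit false
set_option linter.unusedSectionVars false

namespace Cfsg.Agent.Classical.Psp

open Subgroup Cfsg.Agent.BG Cfsg.Agent.FusE Cfsg.Agent.Syl2 Quaternion Matrix Equiv
open scoped MatrixGroups

variable {F : Type*} [Field F] [Finite F] [NeZero (2 : F)] {κ : Type} [Fintype κ] [DecidableEq κ]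

theorem op_L : OP (L F) := by
  obtain ⟨a, b, hab⟩ := sum_two_sq (-1 : F)
  have hd : ∀ x : ℍ[F], (qsplit hab x).det = x.re ^ 2 + x.imI ^ 2 + x.imJ ^ 2 + x.imK ^ 2 := fun x => by
    simp only [qsplit, RingEquiv.coe_mk, Equiv.coe_fn_mk, det_fin_two_of]
    linear_combination -(x.imJ ^ 2 + x.imK ^ 2) * hab
  let e : L F ≃* SL(2, F) :=
    { (qsplit hab).toEquiv.subtypeEquiv fun x => ⟨fun h => (hd x).trans (nrm ⟨x, h⟩), fun h => mem_L ((hd x).symm.trans h)⟩ with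
      map_mul' := fun x y => Subtype.ext (map_mul (qsplit hab) x.1 y.1) }
  refine ((op_PSL2_odd (NeZero.ne 2)).of_ker (pslMk F) pslMk_surjective ?_).of_equiv e.symm
  rw [ker_pslMk]
  exact Loc.isPGroup_of_forall_pow fun x hx => ⟨1, by rcases sl_mem_center_iff'.1 hx with rfl | rfl <;> simp⟩

theorem nab_L (A : Sylow 2 (L F)) (h8 : Q8 F ≤ A) : NAb (A : Subgroup (L F)) := fun x hx y hy =>
  (normalizer_cases (Loc.sylIn_top A) h8 (le_cmod hy) (fun hw => cmod_symm hw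
    (normalizer_cases (Loc.sylIn_top A) h8 (le_cmod hw) (fun _ => ⟨hw, by simp⟩) hy)) hx).2

variable (κ) in
/-- Scalar matrices. -/
def dc : L F →* U κ F := dg.comp (Pi.constMonoidHom κ (L F))

theorem dc_eq (u : L F) : dc κ u = dg fun _ => u := rfl

theorem dc_conj (u : L F) (f : κ → L F) (π : Perm κ) :
    dc κ u * (dg f * pm π) * (dc κ u)⁻¹ = dg (fun k => u * f k * u⁻¹) * pm π := by
  rw [← map_inv, dc_eq, dc_eq, mul_assoc, mul_assoc, pm_dg, ← mul_assoc, ← mul_assoc, ← map_mul, ← map_mul]; rfl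

theorem dc_φ (u : L F) (k : κ) (v : L F) : dc κ u * φ k v * (dc κ u)⁻¹ = φ k (u * v * u⁻¹) := by
  simpa [dc_eq] using mon_φ (fun _ => u) 1 k v

theorem pm_φ (π : Perm κ) (k : κ) (v : L F) : pm π * φ k v * (pm π)⁻¹ = φ (π k) v := (W κ F).conj_φ π k v

/-- The wreath product `A ≀ T`. -/
def SG (A : Subgroup (L F)) (T : Subgroup (Perm κ)) : Subgroup (U κ F) := (W κ F).grp A ⊤ T

variable {A : Subgroup (L F)} {T : Subgroup (Perm κ)} {X : Subgroup (U κ F)} {a c d x y : U κ F} {i j k : κ}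
  {P Q : Matrix κ Unit ℍ[F]}

theorem mem_SG : x ∈ SG A T ↔ ∃ f π, (∀ k, f k ∈ A) ∧ π ∈ T ∧ x = dg f * pm π :=
  ⟨fun ⟨f, _, π, h1, _, h2, h3⟩ => ⟨f, π, h1, h2, h3⟩, fun ⟨f, π, h1, h2, h3⟩ => ⟨f, (), π, h1, trivial, h2, h3⟩⟩

theorem mon_mem_SG {f : κ → L F} {π : Perm κ} : dg f * pm π ∈ SG A T ↔ (∀ k, f k ∈ A) ∧ π ∈ T :=
  ⟨fun h => by obtain ⟨g, σ, h1, h2, e⟩ := mem_SG.1 h; obtain ⟨rfl, rfl⟩ := mon_inj e; exact ⟨h1, h2⟩,
    fun h => mem_SG.2 ⟨f, π, h.1, h.2, rfl⟩⟩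

theorem dg_mem_SG {f : κ → L F} : dg f ∈ SG A T ↔ ∀ k, f k ∈ A := by
  simpa using mon_mem_SG (A := A) (T := T) (f := f) (π := 1)

theorem pm_mem_SG {π : Perm κ} : pm π ∈ SG A T ↔ π ∈ T := by
  simpa using mon_mem_SG (A := A) (T := T) (f := 1) (π := π)

theorem φ_mem_SG {u : L F} : φ k u ∈ SG A T ↔ u ∈ A :=
  ⟨fun h => by simpa using dg_mem_SG.1 h k, (W κ F).φ_mem k⟩

theorem isPGroup_SG (hA : IsPGroup 2 A) (hT : IsPGroup 2 T) : IsPGroup 2 (SG A T) := by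
  obtain ⟨a, ha⟩ := hA.exists_card_eq
  obtain ⟨b, hb⟩ := hT.exists_card_eq
  exact IsPGroup.of_card (n := a * Nat.card κ + b) (by rw [SG, WD.card_grp, ha, hb, pow_add, pow_mul]; simp)

theorem Ref.ne_one (h : Ref d P) : d ≠ 1 := fun e => by
  have := congrArg (fun X => Pᴴ * X * P) h.2
  simp only [e, U_one, sub_self, Matrix.mul_zero, Matrix.zero_mul, Matrix.mul_smul, Matrix.smul_mul, Matrix.mul_assoc,
    h.1, Matrix.mul_one] at this
  exact one_ne_zero (eq_of_two (this.symm.trans (smul_zero _).symm))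

theorem Ref.eq_of_sup (h : Ref a P) (h' : Ref d Q) (e : Sup a d) : a = d := by
  have h1 : a.1 * Q = -Q := eq_of_two (by
    simpa [h'.2, Matrix.mul_assoc, h'.1] using congrArg (· * Q) e)
  have h2 : P * (Pᴴ * Q) = Q := eq_of_two (by
    rw [← Matrix.mul_assoc, ← Matrix.smul_mul, ← h.2, Matrix.sub_mul, h1, two_smul]; simp)
  have h3 : (Pᴴ * Q)ᴴ * (Pᴴ * Q) = 1 := by
    rw [conjTranspose_mul, conjTranspose_conjTranspose, Matrix.mul_assoc, h2, h'.1]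
  refine Subtype.ext (sub_right_injective (b := 1) (h.2.trans (Eq.trans ?_ h'.2.symm)))
  conv_rhs => rw [← h2, conjTranspose_mul, Matrix.mul_assoc, ← Matrix.mul_assoc (Pᴴ * Q), mul_eq_one_comm.1 h3,
    Matrix.one_mul]

theorem Ref.cases (h : Ref d P) (hd : d ∈ X) (h2 : d * d = 1) (hm : ∀ k, ∃ l, d * z k * d⁻¹ = z l) :
    (∃ k, d = z k) ∨ ∃ i j, SW X d i j := by
  by_cases e : ∀ k, d * z k * d⁻¹ = z k
  · refine .inl (by_contra fun e' => ?_)
    have : dg (fun _ => -1) ∈ orthSub d := dg_mem fun k =>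
      (h.prim (Commute.symm (mul_inv_eq_iff_eq_mul.1 (e k))) (z_z k)).resolve_right fun h1 =>
        e' ⟨k, ((ref_z k).eq_of_sup h h1).symm⟩
    have := orth_iff.1 this
    rw [← dg_neg, show (dg fun _ => 1 : U κ F) = 1 from map_one dg, U_neg, U_one, neg_one_mul] at this
    exact h.ne_one (Subtype.ext (sub_eq_zero.1 (eq_of_two (by
      rw [smul_zero, two_smul, ← eq_neg_iff_add_eq_zero]; exact this.symm))).symm)
  push Not at e
  obtain ⟨i, e⟩ := e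
  obtain ⟨j, h1⟩ := hm i
  have h3 : i ≠ j := fun e' => e (e' ▸ h1)
  have h4 : d⁻¹ = d := inv_eq_of_mul_eq_one_right h2
  refine .inr ⟨i, j, hd, h2, h3, h1, (h.prim ?_ ?_).resolve_left fun h5 => e (mul_inv_eq_iff_eq_mul.2 ?_)⟩
  · rw [commute_iff_eq]
    conv_rhs => rw [(z_comm i j).eq]
    simp only [← h1, h4, mul_assoc, h2, Invol.mul_self_cancel h2, mul_one]
  · rw [(z_comm j i).mul_mul_mul_comm, z_z, z_z, one_mul]
  · exact (h5.symm.of_sup ((z_comm (F := F) i j).eq ▸ (orth_φ h3.symm (-1) (-1)).sup (z_z i))).comm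

theorem mon_of_SG (h : x ∈ SG A T) (k : κ) : ∃ l, x * z k * x⁻¹ = z l := by
  obtain ⟨f, π, -, -, rfl⟩ := mem_SG.1 h
  exact ⟨_, mon_z f π k⟩

theorem norm_mon (h8 : Q8 F ≤ A) (hx : x ∈ N[SG A T]) : ∃ f π, x = dg f * pm π := exists_mon fun k => by
  have h1 := conj_mem_of_norm hx (φ_mem_SG.2 (h8 (neg_mem_Q8 (one_mem _))) : z k ∈ _)
  refine (((ref_z k).conj x).cases h1 (by rw [conj_mul, z_z]; simp) (mon_of_SG h1)).resolve_right fun ⟨i, j, hy⟩ => ?_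
  have h2 := (sup_φ k (qi : L F)).conj x
  have h3 : x * φ k qi * x⁻¹ * (x * φ k qi * x⁻¹) = x * z k * x⁻¹ := by
    rw [conj_mul, ← map_mul, show (qi : L F) * qi = -1 from L_ext_iff.2 (by simp)]
  obtain ⟨f, π, -, -, e⟩ := mem_SG.1 (conj_mem_of_norm hx (φ_mem_SG.2 (h8 qi_mem) : φ k qi ∈ _))
  rw [e] at h2 h3
  have h4 : ∀ l, l ≠ i → l ≠ j → π l = l := fun l a b => z_inj.1 ((mon_z f π l).symm.trans
    (mul_inv_eq_iff_eq_mul.2 ((hy.orth a b _).of_sup h2).comm.eq.symm))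
  have h5 : π (π i) = j := z_inj.1 (by rw [← hy.cj, ← h3, ← mon_z f, ← mon_z f]; group)
  by_cases a : π i = i
  · exact hy.ne (by rw [← h5, a, a])
  by_cases b : π i = j
  · exact hy.ne (π.injective (b.trans (b ▸ h5).symm))
  exact a (π.injective (h4 _ a b))

theorem dc_mem_norm {β : L F} (h : β ∈ N[A]) : dc κ β ∈ N[SG A T] := mem_norm_of_cj_le (by
  rintro _ ⟨s, hs, rfl⟩
  obtain ⟨f, π, h1, h2, rfl⟩ := mem_SG.1 hs
  exact mem_SG.2 ⟨_, π, fun k => conj_mem_of_norm h (h1 k), h2, dc_conj β f π⟩)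

theorem norm_SG (T : Sylow 2 (Perm κ)) [MulAction.IsPretransitive (T : Subgroup (Perm κ)) κ] (k : κ) (h8 : Q8 F ≤ A)
    (hx : x ∈ N[SG A T]) : ∃ β ∈ N[A], ∃ s ∈ SG A T, x = dc κ β * s := by
  obtain ⟨f, π, rfl⟩ := norm_mon h8 hx
  have key : ∀ t ∈ (T : Subgroup (Perm κ)), ∀ σ : Perm κ, dg f * pm σ * pm t * (dg f * pm σ)⁻¹ =
      dg (fun l => f l * (f ((σ * t * σ⁻¹)⁻¹ l))⁻¹) * pm (σ * t * σ⁻¹) := fun t _ σ => by
    rw [_root_.mul_inv_rev, ← map_inv, ← map_inv, mul_assoc, mul_assoc, ← mul_assoc (pm t), ← mul_assoc (pm σ),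
      ← map_mul, ← map_mul, pm_dg, ← mul_assoc, ← map_mul, mul_assoc]
    rfl
  have h1 : π ∈ (T : Subgroup (Perm κ)) := Small.mem_of_norm_perm T fun t ht =>
    (mon_mem_SG.1 (key t ht π ▸ conj_mem_of_norm hx (pm_mem_SG.2 ht))).2
  have h2 : dg f * pm 1 ∈ N[SG A T] := by
    simpa using mul_mem hx (inv_mem (normG _ (pm_mem_SG.2 h1)))
  have h3 : f k ∈ N[A] := mem_norm_of_cj_le (by
    rintro _ ⟨u, hu, rfl⟩
    exact φ_mem_SG.1 (mon_φ f 1 k u ▸ conj_mem_of_norm h2 (φ_mem_SG.2 hu)))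
  refine ⟨f k, h3, dg (fun l => (f k)⁻¹ * f l) * pm π, mon_mem_SG.2 ⟨fun l => ?_, h1⟩, ?_⟩
  · obtain ⟨t, e⟩ := MulAction.exists_smul_eq (T : Subgroup (Perm κ)) k l
    have := (mon_mem_SG.1 (key t t.2 1 ▸ conj_mem_of_norm h2 (pm_mem_SG.2 t.2))).1 l
    rw [one_mul, inv_one, mul_one, show (t : Perm κ)⁻¹ l = k from by rw [← e]; exact t.1.symm_apply_apply k] at this
    simpa [mul_assoc] using conj_mem_of_norm' h3 this
  · rw [← mul_assoc, dc_eq, ← map_mul]; congr 2; funext l; simp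

theorem exists_sylow_SG (A : Sylow 2 (L F)) (T : Sylow 2 (Perm κ)) [MulAction.IsPretransitive (T : Subgroup (Perm κ)) κ]
    (k : κ) (h8 : Q8 F ≤ A) : ∃ S : Sylow 2 (U κ F), (S : Subgroup (U κ F)) = SG A T :=
  exists_sylow_of_norm (isPGroup_SG A.isPGroup' T.isPGroup') fun x hx => by
    obtain ⟨β, h1, s, h2, rfl⟩ := norm_SG T k h8 hx
    obtain ⟨n, hn, h3⟩ := exists_odd_pow A h1
    exact ⟨n, hn, (mul_mem_cancel_left (inv_mem (map_pow (dc κ) β n ▸ dg_mem_SG.2 fun _ => h3))).1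
      (mul_pow_mem_of_norm (dc_mem_norm h1) h2 n)⟩

theorem nab_SG (A : Sylow 2 (L F)) (T : Sylow 2 (Perm κ)) [MulAction.IsPretransitive (T : Subgroup (Perm κ)) κ]
    (k : κ) (h8 : Q8 F ≤ A) : NAb (SG (A : Subgroup (L F)) (T : Subgroup (Perm κ))) := fun x hx y hy => by
  obtain ⟨β, h1, s, h2, rfl⟩ := norm_SG T k h8 hx
  refine (mul_mem (cmod_symm (dc_mem_norm h1) ?_) (le_cmod hy h2)).2
  obtain ⟨γ, h3, t, h4, rfl⟩ := norm_SG T k h8 hy
  refine mul_mem ⟨dc_mem_norm h3, ?_⟩ (le_cmod (dc_mem_norm h1) h4)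
  simp only [← map_inv, ← map_mul]
  exact dg_mem_SG.2 fun _ => nab_L A h8 γ h3 β h1

theorem sw_pm (h : i ≠ j) (hX : pm (swap i j) ∈ X) : SW X (pm (swap i j)) i j :=
  ⟨hX, by rw [← map_mul, Equiv.swap_mul_self, map_one], h, by rw [pm_φ, swap_apply_left], by
    change (dg _ * dg _ : U κ F).1 * _ = _
    ext k l : 1
    rw [← map_mul, dg_val, diagonal_mul, Matrix.neg_apply, Matrix.sub_apply, pm_val, of_apply, one_apply]
    by_cases h1 : k = i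
    · simp [h1, h]
    by_cases h2 : k = j
    · simp [h2, h.symm]
    simp [h1, h2, swap_apply_eq_iff, swap_apply_of_ne_of_ne h1 h2, eq_comm (a := k)]⟩

theorem exists_swap (T : Sylow 2 (Perm κ)) [MulAction.IsPretransitive (T : Subgroup (Perm κ)) κ] (h : i ≠ j) :
    ∃ l, i ≠ l ∧ swap i l ∈ (T : Subgroup (Perm κ)) := by
  obtain ⟨g, -, hg⟩ := (Loc.sylIn_top T).exists_conj_le le_top
    (Loc.isPGroup_zpowers_of_pow (x := swap i j) (k := 1) (by simp [sq]))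
  obtain ⟨t, e⟩ := MulAction.exists_smul_eq (T : Subgroup (Perm κ)) (g i) i
  replace e : t.1 (g i) = i := e
  refine ⟨t.1 (g j), fun e' => h (g.injective (t.1.injective (e.trans e'))), ?_⟩
  have := mul_mem (mul_mem t.2 (hg ⟨_, mem_zpowers _, rfl⟩)) (inv_mem t.2)
  rwa [show (MulAut.conj g).toMonoidHom (swap i j) = swap (g i) (g j) from (swap_apply_apply g i j).symm,
    ← swap_apply_apply, e] at this

end Cfsg.Agent.Classical.Psp
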