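import Cfsg.Agent.Classical.Pron10

/-! Subgroups of odd index of `Sp_{2m}(q)`, `m` a power of 2 and `q` odd, are pronormal (`op_U`). -/

set_option autoImplicit false
set_option linter.unusedSectionVars false

namespace Cfsg.Agent.Classical.Psp

open Subgroup Cfsg.Agent.BG Cfsg.Agent.FusE Cfsg.Agent.Syl2 Quaternion Matrix Equiv

variable {F : Type*} [Field F] [Finite F] [NeZero (2 : F)] {κ ι μ : Type} [Fintype κ] [DecidableEq κ] [Fintype ι]
  [DecidableEq ι] [Fintype μ] [DecidableEq μ]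

theorem τ_conj' {P P' : Matrix κ ι ℍ[F]} (hP : Pᴴ * P = 1) (hP' : P'ᴴ * P' = 1) {x : U κ F} {γ : U ι F}
    (h : x.1 * P = P' * γ.1) (δ : U ι F) : x * τ P hP δ * x⁻¹ = τ P' hP' (γ * δ * γ⁻¹) := Subtype.ext (by
  have h' : Pᴴ * x.1ᴴ = γ.1ᴴ * P'ᴴ := by rw [← conjTranspose_mul, h, conjTranspose_mul]
  simp only [U_mul, U_inv, τ_val, mul_add, add_mul, mul_one, U_mul_ct, add_right_inj, ← Matrix.mul_assoc, h]
  simp only [Matrix.mul_assoc, h', Matrix.mul_sub, Matrix.sub_mul, Matrix.one_mul]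
  rw [← Matrix.mul_assoc γ.1 γ.1ᴴ, U_mul_ct, Matrix.one_mul])

theorem τ_comp {P : Matrix κ ι ℍ[F]} {R : Matrix ι μ ℍ[F]} (hP : Pᴴ * P = 1) (hR : Rᴴ * R = 1)
    (h : (P * R)ᴴ * (P * R) = 1) (γ : U μ F) : τ (P * R) h γ = τ P hP (τ R hR γ) :=
  Subtype.ext (by simp [τ_val, Matrix.mul_assoc])

variable {T : Subgroup (Perm κ)} {X : Subgroup (U κ F)} {a a' y : U κ F} {i j : κ} {P Q : Matrix κ Unit ℍ[F]}

theorem Ref.exists_rel (h : Ref a P) (h' : Ref a Q) : ∃ c : L F, Q = P * (dg fun _ => c : U Unit F).1 := by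
  have h2 : P * (Pᴴ * Q) = Q := by
    rw [← Matrix.mul_assoc, eq_of_two (h.2.symm.trans h'.2), Matrix.mul_assoc, h'.1, Matrix.mul_one]
  obtain ⟨c, e⟩ := exists_dg_unit (⟨Pᴴ * Q, mem_U (mul_eq_one_comm.1 (by
    rw [conjTranspose_mul, conjTranspose_conjTranspose, Matrix.mul_assoc, h2, h'.1]))⟩ : U Unit F)
  exact ⟨c, by rw [← e, h2]⟩

theorem τ_col2_dq (h : Ref a P) (h' : Ref a' Q) (e : Orth a a') (u v : L F) :
    τ _ (col2_col2 h h' e) (dq (u, v)) = τ P h.1 (dg fun _ => u) * τ Q h'.1 (dg fun _ => v) := Subtype.ext (by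
  rw [τ_col2, U_mul, τ_val, τ_val, mul_add, mul_one, add_mul, one_mul, Matrix.mul_assoc _ Pᴴ (_ * _ * _),
    ← Matrix.mul_assoc Pᴴ, ← Matrix.mul_assoc Pᴴ, h.orth h' e, Matrix.zero_mul, Matrix.zero_mul, Matrix.mul_zero,
    add_zero])

theorem part (A : Sylow 2 (L F)) (hX : ∀ k, ∀ u ∈ (A : Subgroup (L F)), φ k u ∈ X) (hy : D X y) (h : Ref y P) {δ : U κ F}
    (hδ : δ ∈ X) {u : L F} (e : δ.1 * P = P * (dg fun _ => u : U Unit F).1) (hu : u ^ 2 ^ 2 = 1) :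
    τ P h.1 (dg fun _ => u) ∈ X := by
  obtain ⟨x, hx, k, rfl⟩ := hy
  obtain ⟨c, h1⟩ := h.exists_rel ((ref_z k).conj x)
  refine mem_of_norm_two (c • A) (B := X.comap ((τ P h.1).comp (dc Unit))) ?_ (mem_norm_of_cj_le ?_) hu
  · rintro _ ⟨v, hv, rfl⟩
    have := mul_mem (mul_mem hx (hX k v hv)) (inv_mem hx)
    rwa [← τ_bcol, τ_conj' _ h.1 h1, ← dc_eq, ← dc_eq, ← map_inv, ← map_mul, ← map_mul] at this
  · rintro _ ⟨v, hv, rfl⟩
    have := mul_mem (mul_mem hδ (show τ P h.1 (dc Unit v) ∈ X from hv)) (inv_mem hδ)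
    rwa [τ_conj _ e, ← dc_eq, ← map_inv, ← map_mul, ← map_mul] at this

theorem SW.omega (A : Sylow 2 (L F)) (h8 : Q8 F ≤ A) (hX : ∀ k, ∀ u ∈ (A : Subgroup (L F)), φ k u ∈ X) (hy : D X y)
    (h : SW X y i j) : φ i qw * (y * φ i qw * y⁻¹) ∈ X := by
  have := NeZero.ne (2 : F)
  have h0 := col2_col2 (ref_z (F := F) i) h.ref' (orth_φ h.ne _ _)
  have h1 : ∀ u v, τ _ h0 (dq (u, v)) = φ i u * (y * φ i v * y⁻¹) := fun u v => by
    rw [τ_col2_dq (ref_z (F := F) i) h.ref' (orth_φ h.ne _ _), τ_bcol, ← τ_bcol i v, τ_conj' _ h.ref'.1 (γ := 1) (Matrix.mul_one _).symm, one_mul, inv_one, mul_one]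
  let R : Matrix (Fin 2) Unit ℍ[F] := of fun k _ => ![ee qi, -ee qi] k
  have hR : Rᴴ * R = 1 := by ext <;> simp [R, mul_apply, ee]; field_simp; norm_num
  have h2 : sc y i = col2 (bcol i) (y.1 * (bcol i : Matrix κ Unit ℍ[F])) * R := by
    ext k l : 1
    rw [sc, Matrix.sub_mul, Matrix.one_mul]
    simp [col2, R, mul_apply (M := (_ : Matrix κ Unit ℍ[F])), mul_apply (M := (_ : Matrix κ (Fin 2) ℍ[F])), add_mul,
      sub_eq_add_neg]
  have h3 : ∀ u, u = qi ∨ u = qj → τ _ h0 (τ R hR (dg fun _ => u)) ∈ X := fun u hu => by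
    obtain ⟨c, hc, e⟩ := h.rel hu
    have := part A hX hy h.ref (mul_mem (hX i c (h8 hc)) (mul_mem (mul_mem h.mem (hX i c (h8 hc))) (inv_mem h.mem))) e
      (by rcases hu with rfl | rfl <;> exact L_ext_iff.2 (by simp [pow_succ]))
    rw [← τ_comp h0 hR (h2 ▸ h.ref.1)]
    simpa only [← h2] using this
  have h4 : ∀ u ∈ Q8 F, τ _ h0 (dq (1, u)) ∈ X := fun u hu =>
    h1 1 u ▸ mul_mem (hX i 1 (one_mem _)) (mul_mem (mul_mem h.mem (hX i u (h8 hu))) (inv_mem h.mem))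
  have key : ∀ (u a : L F) (ha : a.1.re = 0), ee qi * (u.1 - 1) * star (ee qi) = ee a - 1 →
      dq (1, a) * τ R hR (dg fun _ => u) * dq (1, a) = hh a ha := fun u a ha e => by
    have h5 : a.1 * a.1 = -1 := by
      have := nrm a
      ext <;> simp [ha] <;> first | ring1 | linear_combination -this + a.1.re * ha
    have h6 : (1 - ee a) * a.1 = ee a := by
      rw [ee, sub_mul, smul_mul_assoc, add_mul, h5, one_mul, sub_eq_iff_eq_add, ← smul_add, eq_inv_smul_iff₀ this,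
        two_smul]; abel
    have h7 : a.1 * (1 - ee a) = ee a := by
      rw [← h6.symm.trans (Commute.eq _), ee]
      exact ((Commute.one_left _).sub_left (((Commute.one_left _).add_left (Commute.refl _)).smul_left _))
    have h8 : a.1 * ee a * a.1 = -ee a := by rw [ee, mul_smul_comm, smul_mul_assoc, ← smul_neg, mul_add, h5, add_mul, mul_one, h5]; simp [add_comm]
    simp [HH_ext_iff, HH_entry, τ_val, R, hh, mul_apply, dg_val, e, h6, h7, h8]
  have h5 := key qi qi rfl (by ext <;> simp [ee] <;> field_simp <;> norm_num)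
  have h6 := key qj qk rfl (by ext <;> simp [ee] <;> field_simp <;> norm_num)
  have h7 : ee qk * ee qi + ee qk * ee qi = (qw : L F).1 := by
    ext <;> simp [ee] <;> field_simp <;> norm_num
  rw [← h1, show dq (qw, qw) = hh qk rfl * hh qi rfl from HH_ext_iff.2 (by simp [hh, h7]), ← h5, ← h6]
  simp only [map_mul]
  exact mul_mem (mul_mem (mul_mem (h4 _ qk_mem) (h3 _ (.inr rfl))) (h4 _ qk_mem))
    (mul_mem (mul_mem (h4 _ qi_mem) (h3 _ (.inl rfl))) (h4 _ qi_mem))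

theorem dc_qw_mem (T : Sylow 2 (Perm κ)) [MulAction.IsPretransitive (T : Subgroup (Perm κ)) κ]
    (hT : ∀ t ∈ (T : Subgroup (Perm κ)), pm t ∈ X) (h1 : dc κ (-1) ∈ X) (h : φ i qw * φ j qw ∈ X) : dc κ qw ∈ X := by
  classical
  let Γ : AddSubmonoid (κ → ℕ) :=
    { carrier := {v | dg (fun k => (qw : L F) ^ v k) ∈ X}
      zero_mem' := by simpa using (map_one (dg : (κ → L F) →* _)).symm ▸ one_mem X
      add_mem' := fun {v w} hv hw => by
        have := X.mul_mem hv hw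
        rw [← map_mul] at this
        simp only [Set.mem_ofPred, Pi.add_apply, pow_add]
        exact this }
  let v : κ → ℕ := Pi.single i 1 + Pi.single j 1
  have h2 : v ∈ Γ := by
    rw [φ_eq, φ_eq, ← map_mul] at h
    change dg _ ∈ X
    convert h using 2
    funext k
    simp [v, pow_add, Pi.single_apply, Pi.mulSingle_apply]
  have := Fintype.ofFinite (T : Subgroup (Perm κ))
  have h3 : ∑ t : (T : Subgroup (Perm κ)), (fun k => v (t.1⁻¹ k)) ∈ Γ := sum_mem fun t _ => by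
    have := mul_mem (mul_mem (hT t t.2) h2) (inv_mem (hT t t.2))
    rwa [pm_dg, mul_inv_cancel_right] at this
  set c := ∑ t : (T : Subgroup (Perm κ)), v (t.1⁻¹ i) with hc
  have h4 : ∀ k, ∑ t : (T : Subgroup (Perm κ)), v (t.1⁻¹ k) = c := fun k => by
    obtain ⟨s, rfl⟩ := MulAction.exists_smul_eq (T : Subgroup (Perm κ)) i k
    rw [hc, ← Equiv.sum_comp (Equiv.mulLeft s)]
    simp [Subgroup.smul_def]
  have h5 : Fintype.card κ * c = 2 * Fintype.card (T : Subgroup (Perm κ)) := by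
    rw [← smul_eq_mul, ← Finset.card_univ, ← Finset.sum_const, ← Finset.sum_congr rfl fun k _ => h4 k, Finset.sum_comm,
      Finset.sum_congr rfl fun t _ => Equiv.sum_comp t.1⁻¹ v]
    simp [v, Finset.sum_add_distrib, mul_comm]
  obtain ⟨n, hn⟩ := T.isPGroup'.exists_card_eq
  rw [← Nat.card_eq_fintype_card (α := (T : Subgroup (Perm κ))), hn, ← pow_succ'] at h5
  refine pron_mem_of_pow (m := c) (n := 3) (Nat.Coprime.coprime_dvd_left (Dvd.intro_left _ h5)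
    (Nat.Coprime.pow_left _ (by norm_num))) ?_ ?_
  · rw [← map_pow]
    change dg _ ∈ X at h3
    simpa only [Finset.sum_apply, h4, dc_eq] using h3
  · have := NeZero.ne (2 : F)
    rwa [← map_pow, show (qw : L F) ^ 3 = -1 from L_ext_iff.2 (by
      simp [pow_succ]; field_simp; norm_num)]

theorem caseB (A : Sylow 2 (L F)) (h8 : Q8 F ≤ A) (T : Sylow 2 (Perm κ))
    [MulAction.IsPretransitive (T : Subgroup (Perm κ)) κ] (S : Sylow 2 (U κ F)) (hS : (S : Subgroup (U κ F)) = SG A T)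
    (hX : SG A T ≤ X) (h : ¬ CA X) {β : L F} (hβ : β ∈ N[(A : Subgroup (L F))]) : dc κ β ∈ X := by
  have h1 : ∀ k, ∀ u ∈ (A : Subgroup (L F)), φ k u ∈ X := fun k u hu => hX (φ_mem_SG.2 hu)
  obtain ⟨y, hy, h2, h3⟩ : ∃ y ∈ SG (A : Subgroup (L F)) (T : Subgroup (Perm κ)), D X y ∧ ∀ k, y ≠ z k := by
    by_contra! e
    refine h ⟨fun k u hu => h1 k u (h8 hu), fun R hR h2 => ?_⟩
    obtain ⟨x, hx, h3⟩ := (Loc.sylIn_of_sylow_le S (hS ▸ hX)).exists_conj_le hR h2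
    refine ⟨x⁻¹, inv_mem hx, fun d hd h4 => ?_⟩
    obtain ⟨k, h5⟩ := e _ (hS ▸ h3 ⟨d, hd, rfl⟩) (h4.conj hx)
    exact ⟨k, by rw [← h5]; simp [mul_assoc]⟩
  obtain ⟨P, hP⟩ := h2.ref
  obtain ⟨i, j, h4⟩ := (hP.cases (hX hy) h2.sq (mon_of_SG hy)).resolve_left fun ⟨k, e⟩ => h3 k e
  have h5 := h4.omega A h8 h1 h2
  obtain ⟨f, π, h6, -, rfl⟩ := mem_SG.1 hy
  have h7 : π i = j := z_inj.1 ((mon_z f π i).symm.trans h4.cj)
  rw [mon_φ, h7] at h5
  refine normalizer_cases (Loc.sylIn_top A) h8 (X := X.comap (dc κ)) (fun u hu => hX (dg_mem_SG.2 fun _ => hu))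
    (fun _ => dc_qw_mem T (fun t ht => hX (pm_mem_SG.2 ht)) (hX (dg_mem_SG.2 fun _ => h8 (neg_mem_Q8 (one_mem _))))
      (i := i) (j := j) ?_) hβ
  have := mul_mem (mul_mem (inv_mem (h1 j _ (h6 j))) h5) (h1 j _ (h6 j))
  rwa [← map_inv, ← mul_assoc, ← (orth_φ h4.ne _ _).comm.eq, mul_assoc, mul_assoc, ← map_mul, ← map_mul,
    inv_mul_cancel_right, inv_mul_cancel_left] at this

theorem op_U {n : ℕ} (hκ : Nat.card κ = 2 ^ n) : OP (U κ F) ∧ ∃ S : Sylow 2 (U κ F), NAb (S : Subgroup (U κ F)) := by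
  obtain ⟨A, h8⟩ := (isPGroup_Q8 (F := F)).exists_le_sylow
  obtain ⟨T⟩ : Nonempty (Sylow 2 (Perm κ)) := inferInstance
  have := Perm.sylow_isPretransitive hκ T
  obtain ⟨k⟩ : Nonempty κ := (Nat.card_pos_iff.1 (hκ ▸ Nat.two_pow_pos n)).1
  obtain ⟨S, hS⟩ := exists_sylow_SG A T k h8
  refine ⟨op_of_sylow S fun H hH g hg => ?_, S, hS ▸ nab_SG A T k h8⟩
  rw [hS] at hH hg
  obtain ⟨β, hβ, s, hs, rfl⟩ := norm_SG T k h8 hg
  rw [cj_mul, cj_of_mem (hH hs)]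
  by_cases h : CA (H ⊔ cj (dc κ β) H)
  swap
  · exact ⟨_, caseB A h8 T S hS (hH.trans le_sup_left) h hβ, rfl⟩
  have h1 : ∀ x ∈ H, ∃ f π, x = dg f * pm π := fun x hx => exists_mon fun l =>
    h.all (fun i j e => by
      obtain ⟨l, h1, h2⟩ := exists_swap T e
      exact ⟨l, _, sw_pm h1 (mem_sup_left (hH (pm_mem_SG.2 h2)))⟩) Finset.univ _ ((D.z l).conj (mem_sup_left hx))
      (mem_YI.2 (by simp))
  have h2 : ∀ l u, φ l u ∈ H ↔ φ k u ∈ H := fun l u => by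
    obtain ⟨t, rfl⟩ := MulAction.exists_smul_eq (T : Subgroup (Perm κ)) k l
    exact pm_φ t.1 k u ▸ conj_mem_iff_of_norm (normG _ (hH (pm_mem_SG.2 t.2)))
  obtain ⟨w, hw, e⟩ := op_L.exists_w A (nab_L A h8) (B := H.comap (φ k)) (fun u hu => hH (φ_mem_SG.2 hu)) β
  refine ⟨dc κ w, dg_mem fun l => ?_, ?_⟩
  · refine (sup_le (fun u hu => mem_sup_left ((h2 l u).2 hu)) ?_ : _ ≤ (H ⊔ cj (dc κ β) H).comap (φ l)) hw
    rintro _ ⟨u, hu, rfl⟩
    exact mem_sup_right ⟨_, (h2 l u).2 hu, dc_φ β l u⟩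
  refine (congrArg (cj · H) (mul_inv_cancel_left (dc κ w) (dc κ β))).symm.trans ((cj_mul _ _ _).trans
    (congrArg _ (cj_of_norm (mem_norm_of_cj_le ?_))))
  rintro _ ⟨x, hx, rfl⟩
  obtain ⟨f, π, rfl⟩ := h1 x hx
  have : dg (fun l => w⁻¹ * β * f l * (w⁻¹ * β)⁻¹ * (f l)⁻¹) ∈ H := dg_mem fun l => (h2 l _).2 (e (f l)
    (mem_norm_of_cj_le (by
      rintro _ ⟨u, hu, rfl⟩
      have := mul_mem (mul_mem hx ((h2 (π⁻¹ l) u).2 hu)) (inv_mem hx)
      rw [mon_φ, show π (π⁻¹ l) = l from π.apply_symm_apply l] at this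
      exact (h2 l _).1 this)))
  convert mul_mem this hx using 1
  rw [← map_inv, ← map_mul, ← mul_assoc, ← map_mul]
  refine (dc_conj _ f π).trans ?_
  congr 2; funext l; simp

end Cfsg.Agent.Classical.Psp
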