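import Cfsg.Agent.Classical.Pron1
import Cfsg.Agent.Classical.PSL2Four

/-! Sylow 2-subgroups of `GL_{2^k}`, `GU_{2^k}` in odd characteristic as iterated wreath products; their
intersections with `SL` are self-normalising for `k ≥ 2`. -/

set_option autoImplicit false

namespace Cfsg.Agent.Classical.Pron

open Subgroup Cfsg.Agent.BG Matrix
open scoped MatrixGroups

variable {K : Type*} [Field K] {α : Type} [Fintype α] [DecidableEq α]

/-- block diagonal matrices. -/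
def bd : GL α K × GL α K →* GL (α ⊕ α) K :=
  MonoidHom.toHomUnits
    { toFun := fun x => fromBlocks x.1.1 0 0 x.2.1
      map_one' := fromBlocks_one
      map_mul' := fun x y => by simp [fromBlocks_multiply] }

theorem bd_val (a b : GL α K) : (bd (a, b)).1 = fromBlocks a.1 0 0 b.1 := rfl

/-- the block swap. -/
def sw : GL (α ⊕ α) K :=
  ⟨fromBlocks 0 1 1 0, fromBlocks 0 1 1 0, by simp [fromBlocks_multiply], by simp [fromBlocks_multiply]⟩

theorem sw_val : (sw : GL (α ⊕ α) K).1 = fromBlocks 0 1 1 0 := rfl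

theorem sw_sw : (sw : GL (α ⊕ α) K) * sw = 1 := Units.ext sw.val_inv

theorem sw_inv : (sw : GL (α ⊕ α) K)⁻¹ = sw := rfl

theorem sw_bd (a b : GL α K) : sw * bd (a, b) = bd (b, a) * sw :=
  Units.ext (by simp [bd_val, sw_val, fromBlocks_multiply])

theorem bd_mul (a b c d : GL α K) : bd (a, b) * bd (c, d) = bd (a * c, b * d) := (map_mul bd (a, b) (c, d)).symm

theorem bd_inv (a b : GL α K) : (bd (a, b))⁻¹ = bd (a⁻¹, b⁻¹) := (map_inv bd (a, b)).symm

theorem bd_neg (a b : GL α K) : -bd (a, b) = bd (-a, -b) := Units.ext (by simp [bd_val, fromBlocks_neg])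

theorem bd_inj {a b c d : GL α K} : bd (a, b) = bd (c, d) ↔ a = c ∧ b = d := by
  simp [Units.ext_iff, bd_val]

theorem bd_ne [Nonempty α] (a b c d : GL α K) : bd (a, b) ≠ bd (c, d) * sw := fun h => by
  have := congrArg Units.val h
  simp [bd_val, sw_val, fromBlocks_multiply] at this

theorem det_bd (a b : GL α K) : (bd (a, b)).1.det = a.1.det * b.1.det := by simp [bd_val]

theorem bd_scalar (c : Kˣ) : bd (GeneralLinearGroup.scalar α c, GeneralLinearGroup.scalar α c) =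
    GeneralLinearGroup.scalar (α ⊕ α) c := Units.ext (by
  simp only [bd_val, GeneralLinearGroup.coe_scalar, scalar_apply, fromBlocks_diagonal]
  congr 1; ext (i | i) <;> rfl)

theorem ne_neg [Nonempty α] (h2 : (2 : K) ≠ 0) (a : GL α K) : a ≠ -a := fun h => by
  have : (2 : K) • a.1 = 0 := by rw [two_smul]; exact add_eq_zero_iff_eq_neg.2 (congrArg Units.val h)
  exact a.ne_zero ((smul_eq_zero.1 this).resolve_left h2)

theorem exists_bd (h2 : (2 : K) ≠ 0) {x : GL (α ⊕ α) K} (h : x * bd ((1 : GL α K), -1) = bd ((1 : GL α K), -1) * x) :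
    ∃ a b, x = bd (a, b) := by
  have key : ∀ y : GL (α ⊕ α) K, y * bd ((1 : GL α K), -1) = bd ((1 : GL α K), -1) * y →
      y.1 = fromBlocks y.1.toBlocks₁₁ 0 0 y.1.toBlocks₂₂ := fun y h => by
    have := congrArg Units.val h
    rw [Units.val_mul, Units.val_mul, ← fromBlocks_toBlocks y.1] at this
    simp only [bd_val, fromBlocks_multiply, Units.val_one, Units.val_neg, mul_one, mul_zero, add_zero, zero_add, mul_neg,
      one_mul, zero_mul, neg_mul, fromBlocks_inj, true_and, and_true] at this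
    have k : ∀ m : Matrix α α K, -m = m → m = 0 := fun m h =>
      (smul_eq_zero.1 (show (2 : K) • m = 0 by rw [two_smul]; exact add_eq_zero_iff_eq_neg.2 h.symm)).resolve_left h2
    conv_lhs => rw [← fromBlocks_toBlocks y.1, k _ this.1, k _ this.2.symm]
  have h1 := key x h
  have h3 := key x⁻¹ (Commute.inv_left h)
  have h4 := x.mul_inv
  have h5 := x.inv_mul
  rw [h1, h3, fromBlocks_multiply, ← fromBlocks_one, fromBlocks_inj] at h4 h5
  simp only [mul_zero, add_zero, zero_add] at h4 h5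
  exact ⟨⟨_, _, h4.1, h5.1⟩, ⟨_, _, h4.2.2.2, h5.2.2.2⟩, Units.ext h1⟩

theorem det_sw (h2 : (2 : K) ≠ 0) (he : Even (Fintype.card α)) : (sw : GL (α ⊕ α) K).1.det = 1 := by
  have h1 : (sw : GL (α ⊕ α) K).1 * fromBlocks 1 1 1 (-1) = fromBlocks 1 1 1 (-1) * (bd ((1 : GL α K), -1)).1 := by
    simp [sw_val, bd_val, fromBlocks_multiply]
  have h3 : (fromBlocks 1 1 1 (-1) * fromBlocks 1 1 1 (-1) : Matrix (α ⊕ α) (α ⊕ α) K) = (2 : K) • 1 := by
    simp [fromBlocks_multiply, ← fromBlocks_one, fromBlocks_add, two_smul]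
  have h4 := congrArg det h3
  have h5 := congrArg det h1
  rw [det_mul, det_smul, det_one, mul_one] at h4
  rw [det_mul, det_mul, det_bd, mul_comm] at h5
  simpa [det_neg, he.neg_one_pow] using mul_left_cancel₀ (fun h => pow_ne_zero _ h2 (by rw [← h4, h, zero_mul])) h5

/-- The wreath product `A ≀ C₂`. -/
def wr (A : Subgroup (GL α K)) : Subgroup (GL (α ⊕ α) K) where
  carrier := {g | ∃ a ∈ A, ∃ b ∈ A, g = bd (a, b) ∨ g = bd (a, b) * sw}
  one_mem' := ⟨1, one_mem _, 1, one_mem _, .inl (map_one bd).symm⟩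
  mul_mem' := by
    rintro _ _ ⟨a, ha, b, hb, rfl | rfl⟩ ⟨c, hc, d, hd, rfl | rfl⟩
    · exact ⟨_, mul_mem ha hc, _, mul_mem hb hd, .inl (bd_mul ..)⟩
    · exact ⟨_, mul_mem ha hc, _, mul_mem hb hd, .inr (by rw [← mul_assoc, bd_mul])⟩
    · exact ⟨_, mul_mem ha hd, _, mul_mem hb hc, .inr (by rw [mul_assoc, sw_bd, ← mul_assoc, bd_mul])⟩
    · exact ⟨_, mul_mem ha hd, _, mul_mem hb hc, .inl (by
        rw [mul_assoc, ← mul_assoc sw, sw_bd, mul_assoc, sw_sw, mul_one, bd_mul])⟩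
  inv_mem' := by
    rintro _ ⟨a, ha, b, hb, rfl | rfl⟩
    · exact ⟨_, inv_mem ha, _, inv_mem hb, .inl (bd_inv ..)⟩
    · exact ⟨_, inv_mem hb, _, inv_mem ha, .inr (by rw [_root_.mul_inv_rev, sw_inv, bd_inv, sw_bd])⟩

variable {A D : Subgroup (GL α K)}

theorem bd_mem_wr [Nonempty α] {a b : GL α K} : bd (a, b) ∈ wr A ↔ a ∈ A ∧ b ∈ A :=
  ⟨fun ⟨_, hc, _, hd, h⟩ => h.elim (fun h => by rw [(bd_inj.1 h).1, (bd_inj.1 h).2]; exact ⟨hc, hd⟩)
    fun h => (bd_ne _ _ _ _ h).elim, fun h => ⟨_, h.1, _, h.2, .inl rfl⟩⟩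

theorem sw_mem_wr : sw ∈ wr A := ⟨1, one_mem _, 1, one_mem _, .inr (by rw [← Prod.one_eq_mk, map_one, one_mul])⟩

/-- The inductive hypotheses on a Sylow 2-subgroup `A` of `D`. -/
structure Good (D A : Subgroup (GL α K)) : Prop where
  ev : Even (Fintype.card α)
  le : A ≤ D
  pg : IsPGroup 2 A
  neg : -1 ∈ A
  ns : ∃ u ∈ A, u.1.det = 1 ∧ u ≠ 1 ∧ u ≠ -1
  cen : ∀ x : GL α K, (∀ a ∈ A, a.1.det = 1 → x * a = a * x) → ∃ c, x = GeneralLinearGroup.scalar α c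
  nor : ∀ x ∈ D, x ∈ N[A] → ∃ a ∈ A, ∃ c, x = a * GeneralLinearGroup.scalar α c
  sca : ∀ c, GeneralLinearGroup.scalar α c ∈ D → (∃ k, c ^ 2 ^ k = 1) → GeneralLinearGroup.scalar α c ∈ A

theorem scalar_neg_one : GeneralLinearGroup.scalar α (-1 : Kˣ) = -1 := Units.ext (by simp [← diagonal_neg])

variable [Nonempty α] (h2 : (2 : K) ≠ 0) (h : Good D A) {D' : Subgroup (GL (α ⊕ α) K)}
  (hD : ∀ a b, bd (a, b) ∈ D' ↔ a ∈ D ∧ b ∈ D) (hs : sw ∈ D')
include h

theorem Good.t_mem : bd ((1 : GL α K), -1) ∈ wr A ∧ (bd ((1 : GL α K), -1) : GL (α ⊕ α) K).1.det = 1 :=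
  ⟨bd_mem_wr.2 ⟨one_mem _, h.neg⟩, by simp [det_bd, det_neg, h.ev.neg_one_pow]⟩

include h2 hD hs
theorem Good.wr_nor [Finite K] {S : Subgroup (GL (α ⊕ α) K)} (h1 : ∀ g ∈ wr A, g.1.det = 1 → g ∈ S) (h3 : S ≤ wr A)
    {x : GL (α ⊕ α) K} (hx : x ∈ D') (hn : x ∈ N[S]) :
    ∃ r ∈ wr A, ∃ c, x = r * GeneralLinearGroup.scalar _ c := by
  have hsw : sw ∈ S := h1 _ sw_mem_wr (det_sw h2 h.ev)
  have key : ∀ a b, bd (a, b) ∈ D' → bd (a, b) ∈ N[S] →
      ∃ r ∈ wr A, ∃ c, bd (a, b) = r * GeneralLinearGroup.scalar _ c := fun a b hx hn => by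
    have k : ∀ u ∈ A, a * u * a⁻¹ ∈ A ∧ b * u⁻¹ * b⁻¹ ∈ A := fun u hu => by
      have := h3 (conj_mem_of_norm hn (h1 _ (bd_mem_wr.2 ⟨hu, inv_mem hu⟩) (by
        rw [det_bd, ← det_mul, Units.mul_inv, det_one])))
      rwa [bd_inv, bd_mul, bd_mul, bd_mem_wr] at this
    obtain ⟨a1, h4, c1, rfl⟩ := h.nor a ((hD _ _).1 hx).1
      (mem_norm_of_cj_le (by rintro _ ⟨u, hu, rfl⟩; exact (k u hu).1))
    obtain ⟨a2, h5, c2, rfl⟩ := h.nor b ((hD _ _).1 hx).2
      (mem_norm_of_cj_le (by rintro _ ⟨u, hu, rfl⟩; simpa using (k _ (inv_mem hu)).2))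
    have := mul_mem (h3 (conj_mem_of_norm hn hsw)) sw_mem_wr
    rw [bd_inv, mul_assoc _ sw, sw_bd, ← mul_assoc, mul_assoc _ sw, sw_sw, mul_one, bd_mul, bd_mem_wr] at this
    refine ⟨_, bd_mem_wr.2 ⟨mul_mem this.1 h5, h5⟩, c2, ?_⟩
    rw [← bd_scalar, bd_mul]
    congr 2; group
  set t : GL (α ⊕ α) K := bd ((1 : GL α K), -1) with ht
  have ht1 : ∀ g ∈ wr A, t * g = g * t ∨ t * g = -(g * t) := by
    rintro _ ⟨a, -, b, -, rfl | rfl⟩
    · exact .inl (by simp [ht, bd_mul])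
    · exact .inr (by rw [mul_assoc, ht, sw_bd, ← mul_assoc, ← mul_assoc, bd_mul, bd_mul, ← neg_mul, bd_neg]; simp)
  have hy : ∀ s ∈ S, x * t * x⁻¹ * s = s * (x * t * x⁻¹) ∨ x * t * x⁻¹ * s = -(s * (x * t * x⁻¹)) := fun s hs => by
    have e : x * t * x⁻¹ * s = x * (t * (x⁻¹ * s * x)) * x⁻¹ := by group
    rcases ht1 _ (h3 (conj_mem_of_norm' hn hs)) with k | k <;> rw [e, k]
    · exact .inl (by group)
    · exact .inr (by rw [mul_neg, neg_mul]; congr 1; group)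
  have hy2 : x * t * x⁻¹ * (x * t * x⁻¹) = 1 := by
    have : t * t = 1 := by simp [ht, bd_mul, ← Prod.one_eq_mk]
    calc _ = x * (t * t) * x⁻¹ := by group
      _ = 1 := by rw [this]; group
  have hy3 : x * t * x⁻¹ = t ∨ x * t * x⁻¹ = -t := by
    obtain ⟨a, -, b, -, e | e⟩ := h3 (conj_mem_of_norm hn (h1 _ h.t_mem.1 h.t_mem.2))
    · have k1 : ∀ u ∈ A, u.1.det = 1 → a * u = u * a ∧ b * u = u * b := fun u hu hu' => by
        have k1 := hy _ (h1 _ (bd_mem_wr.2 ⟨hu, one_mem _⟩) (by simp [det_bd, hu']))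
        have k2 := hy _ (h1 _ (bd_mem_wr.2 ⟨one_mem _, hu⟩) (by simp [det_bd, hu']))
        rw [e, bd_mul, bd_mul, bd_neg, bd_inj, bd_inj, mul_one, one_mul] at k1 k2
        exact ⟨(k1.resolve_right fun k => ne_neg h2 _ k.2).1, (k2.resolve_right fun k => ne_neg h2 _ k.1).2⟩
      obtain ⟨c, rfl⟩ := h.cen a fun u hu hu' => (k1 u hu hu').1
      obtain ⟨d, rfl⟩ := h.cen b fun u hu hu' => (k1 u hu hu').2
      have inj : Function.Injective (GeneralLinearGroup.scalar α : Kˣ → GL α K) :=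
        Units.map_injective fun _ _ => scalar_inj.1
      rw [e, bd_mul, ← map_mul, ← map_mul, ← map_one bd, Prod.one_eq_mk, bd_inj, map_eq_one_iff _ inj,
        map_eq_one_iff _ inj, Units.ext_iff, Units.ext_iff] at hy2
      have k2 : ∀ c : Kˣ, x * t * x⁻¹ ≠ GeneralLinearGroup.scalar _ c := fun c e => by
        have : t = GeneralLinearGroup.scalar _ c := by
          rw [mul_inv_eq_iff_eq_mul, GeneralLinearGroup.scalar_commute, mul_right_inj] at e
          exact e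
        rw [← bd_scalar, bd_inj] at this
        exact ne_neg h2 _ (this.1.trans this.2.symm)
      rcases mul_self_eq_one_iff.1 hy2.1 with k | k <;> rcases mul_self_eq_one_iff.1 hy2.2 with k' | k'
      · exact (k2 c (by rw [e, ← bd_scalar, Units.ext (k'.trans k.symm)])).elim
      · exact .inl (by rw [e, show c = 1 from Units.ext k, show d = -1 from Units.ext k', map_one, scalar_neg_one])
      · exact .inr (by
          rw [e, show c = -1 from Units.ext k, show d = 1 from Units.ext k', map_one, scalar_neg_one, bd_neg, neg_neg])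
      · exact (k2 c (by rw [e, ← bd_scalar, Units.ext (k'.trans k.symm)])).elim
    · obtain ⟨u, hu, u1, u2, u3⟩ := h.ns
      have k1 := hy _ (h1 _ (bd_mem_wr.2 ⟨hu, one_mem _⟩) (by simp [det_bd, u1]))
      rw [e, mul_assoc, sw_bd, ← mul_assoc, ← mul_assoc, ← neg_mul, mul_left_inj, mul_left_inj] at k1
      simp only [bd_mul, bd_neg, bd_inj, mul_one, one_mul] at k1
      rcases k1 with k | k
      · exact (u2 (by simpa using k.1)).elim
      · exact (u3 (mul_right_cancel (b := a) (by rw [neg_mul, one_mul, ← neg_eq_iff_eq_neg, ← k.1]))).elim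
  rcases hy3 with k | k
  · obtain ⟨a, b, rfl⟩ := exists_bd h2 (mul_inv_eq_iff_eq_mul.1 k)
    exact key a b hx hn
  · obtain ⟨a, b, e⟩ := exists_bd h2 (x := x * sw) (by
      have k' : sw * t = -(t * sw) := by rw [ht, sw_bd, ← neg_mul, bd_neg, neg_neg]
      rw [mul_assoc, k', mul_neg, ← mul_assoc, mul_inv_eq_iff_eq_mul.1 k, neg_mul, neg_mul, neg_neg, mul_assoc])
    obtain ⟨r, hr, c, e'⟩ := key a b (e ▸ mul_mem hx hs) (e ▸ mul_mem hn (normG _ hsw))
    refine ⟨_, mul_mem hr sw_mem_wr, c, ?_⟩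
    rw [mul_assoc, ← GeneralLinearGroup.scalar_commute, ← mul_assoc, ← e', ← e, mul_assoc, sw_sw, mul_one]

theorem Good.wr [Finite K] : Good D' (wr A) where
  ev := by simp
  le := by
    rintro _ ⟨a, ha, b, hb, rfl | rfl⟩
    exacts [(hD _ _).2 ⟨h.le ha, h.le hb⟩, mul_mem ((hD _ _).2 ⟨h.le ha, h.le hb⟩) hs]
  pg := by
    have key : ∀ a ∈ A, ∀ b ∈ A, ∃ k, bd (a, b) ^ 2 ^ k = 1 := fun a ha b hb => by
      obtain ⟨k, hk⟩ := h.pg ⟨a, ha⟩
      obtain ⟨l, hl⟩ := h.pg ⟨b, hb⟩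
      refine ⟨k + l, ?_⟩
      rw [← map_pow, Prod.pow_mk, pow_add, pow_mul, show a ^ 2 ^ k = 1 from congrArg Subtype.val hk, mul_comm, pow_mul,
        show b ^ 2 ^ l = 1 from congrArg Subtype.val hl, one_pow, one_pow]
      exact map_one bd
    rintro ⟨_, a, ha, b, hb, rfl | rfl⟩
    · exact (key a ha b hb).imp fun k hk => Subtype.ext hk
    · obtain ⟨k, hk⟩ := key _ (mul_mem ha hb) _ (mul_mem hb ha)
      refine ⟨k + 1, Subtype.ext ?_⟩
      change (bd (a, b) * sw) ^ 2 ^ (k + 1) = 1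
      rw [pow_succ', pow_mul, sq, mul_assoc, ← mul_assoc sw, sw_bd, mul_assoc, sw_sw, mul_one, bd_mul, hk]
  neg := by
    rw [← map_one bd, Prod.one_eq_mk, bd_neg]
    exact bd_mem_wr.2 ⟨h.neg, h.neg⟩
  ns := ⟨_, h.t_mem.1, h.t_mem.2, by
    rw [← map_one bd, Prod.one_eq_mk, bd_neg]
    exact ⟨fun e => ne_neg h2 _ (bd_inj.1 e).2.symm, fun e => ne_neg h2 _ (bd_inj.1 e).1⟩⟩
  cen x hx := by
    obtain ⟨a, b, rfl⟩ := exists_bd h2 (hx _ h.t_mem.1 h.t_mem.2)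
    obtain ⟨c, rfl⟩ := h.cen a fun u hu hu' => by
      simpa [bd_mul, bd_inj] using hx _ (bd_mem_wr.2 ⟨hu, one_mem _⟩) (by simp [det_bd, hu'])
    have := hx _ sw_mem_wr (det_sw h2 h.ev)
    rw [sw_bd, mul_left_inj, bd_inj] at this
    exact ⟨c, by rw [← this.1, bd_scalar]⟩
  nor x hx hn := h.wr_nor h2 hD hs (fun _ hg _ => hg) le_rfl hx hn
  sca c hc hk := by
    rw [← bd_scalar] at hc ⊢
    exact bd_mem_wr.2 ⟨h.sca c ((hD _ _).1 hc).1 hk, h.sca c ((hD _ _).1 hc).1 hk⟩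

theorem Good.self [Finite K] {k : ℕ} (hk : Fintype.card (α ⊕ α) = 2 ^ k) {x : GL (α ⊕ α) K} (hx : x ∈ D')
    (hd : GeneralLinearGroup.det x = 1) (hn : x ∈ N[Pron.wr A ⊓ GeneralLinearGroup.det.ker]) : x ∈ Pron.wr A := by
  have g := h.wr h2 hD hs
  obtain ⟨r, hr, c, rfl⟩ := h.wr_nor h2 hD hs (fun _ hg e => mem_inf.2 ⟨hg, Units.ext e⟩) inf_le_left hx hn
  obtain ⟨l, hl⟩ := g.pg ⟨r, hr⟩
  rw [map_mul, GeneralLinearGroup.det_scalar, hk] at hd
  refine mul_mem hr (g.sca c ((mul_mem_cancel_left (g.le hr)).1 hx) ⟨k + l, ?_⟩)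
  rw [pow_add, pow_mul, eq_inv_of_mul_eq_one_right hd, inv_pow, ← map_pow,
    show r ^ 2 ^ l = 1 from congrArg Subtype.val hl, map_one, inv_one]

omit h h2 hD hs in
theorem op_of_inf {G : Type*} [Group G] [Finite G] {R D N : Subgroup G} [N.Normal] (hR : IsPGroup 2 R) (h1 : R ≤ D)
    (h : ∀ x ∈ D, x ∈ N → x ∈ N[R ⊓ N] → x ∈ R) : OP ↥(D ⊓ N) := by
  refine op_of_self (S := R.subgroupOf _) (hR.comap_of_injective _ (subtype_injective _)) fun x hx =>
    h x x.2.1 x.2.2 (mem_norm_of_cj_le ?_)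
  rintro _ ⟨s, hs, rfl⟩
  exact ⟨conj_mem_of_norm hx (x := ⟨s, h1 hs.1, hs.2⟩) hs.1, ‹N.Normal›.conj_mem _ hs.2 _⟩

theorem Good.op [Finite K] {k : ℕ} (hk : Fintype.card (α ⊕ α) = 2 ^ k) :
    OP ↥(D' ⊓ (GeneralLinearGroup.det : GL (α ⊕ α) K →* Kˣ).ker) :=
  op_of_inf (h.wr h2 hD hs).pg (h.wr h2 hD hs).le fun _ h1 h3 h4 => h.self h2 hD hs hk h1 h3 h4

end Cfsg.Agent.Classical.Pron
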