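import Cfsg.Agent.Classical.Pron3
import Cfsg.Agent.Classical.Pron2
import Cfsg.Agent.Classical.FqSq

/-! Subgroups of odd index in `SL_{2^w}(q)` and `SU_{2^w}(q)`, `q` odd, `w ≥ 2`, are pronormal. -/

set_option autoImplicit false

namespace Cfsg.Agent.Classical.Pron

open Subgroup Cfsg.Agent.BG Matrix
open scoped MatrixGroups

variable {K : Type*} [Field K]

theorem mem_center_two {x : GL (Fin 2) K} : x ∈ center (GL (Fin 2) K) ↔ IsScal x.1 := by
  rw [GeneralLinearGroup.mem_center_iff_val_mem_range_scalar, isScal_iff]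
  exact exists_congr fun a => by rw [scalar_apply, smul_one_eq_diagonal, eq_comm]

theorem isPGroup_zpowers' {G : Type*} [Group G] {p k : ℕ} {g : G} (h : g ^ p ^ k = 1) : IsPGroup p (zpowers g) := by
  rintro ⟨_, n, rfl⟩
  refine ⟨k, Subtype.ext ?_⟩
  change (g ^ n) ^ p ^ k = 1
  rw [← zpow_natCast, ← _root_.zpow_mul, mul_comm, _root_.zpow_mul, zpow_natCast, h, _root_.one_zpow]

theorem center_of_odd [Finite K] (h2 : (2 : K) ≠ 0) {A : Subgroup (GL (Fin 2) K)} (hA : IsPGroup 2 A)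
    {u v t x : GL (Fin 2) K} (hu : u ∈ A) (hv : v ∈ A) (huv : u * v ≠ v * u) (ht : t ∈ A)
    (ht2 : t * t ∉ center (GL (Fin 2) K)) (hx : x ∈ N[A]) (ho : Odd (orderOf x)) : x ∈ center (GL (Fin 2) K) := by
  let π := QuotientGroup.mk' (center (GL (Fin 2) K))
  have hπ : ∀ y, π y = 1 ↔ y ∈ center (GL (Fin 2) K) := fun y => QuotientGroup.eq_one_iff y
  have : Nontrivial (A.map π) := ⟨⟨⟨π t, t, ht, rfl⟩, 1, fun e => ht2 (by
    have := (hπ t).1 (congrArg Subtype.val e)
    exact mul_mem this this)⟩⟩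
  have := (hA.map π).center_nontrivial
  obtain ⟨⟨⟨_, z, hz, rfl⟩, hc⟩, hz1⟩ := exists_ne (1 : center (A.map π))
  have hz1 : ¬ IsScal z.1 := fun e => hz1 (Subtype.ext (Subtype.ext ((hπ z).2 (mem_center_two.2 e))))
  have hd : ∀ y : GL (Fin 2) K, y.1.det ≠ 0 := fun y => y.det_ne_zero
  have sgn : ∀ (y y' : GL (Fin 2) K) (c : K), y.1 = c • y'.1 → y.1.det = y'.1.det → y = y' ∨ y = -y' := by
    intro y y' c e e'
    rw [e, det_smul, Fintype.card_fin, mul_left_eq_self₀, or_iff_left (hd _), _root_.sq_eq_one_iff] at e'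
    rcases e' with rfl | rfl
    exacts [.inl (Units.ext (by simpa using e)), .inr (Units.ext (by simpa using e))]
  have h1 : ∀ a ∈ A, z * a = a * z ∨ z * a = -(a * z) := fun a ha => by
    have := congrArg Subtype.val (mem_center_iff.1 hc ⟨π a, a, ha, rfl⟩)
    obtain ⟨c, e⟩ := isScal_iff.1 (mem_center_two.1 ((hπ (z * a * (a * z)⁻¹)).1 (by
      rw [map_mul, map_inv, map_mul, map_mul, mul_inv_eq_one]; exact this.symm)))
    refine sgn _ _ c ?_ (by simp [mul_comm])
    rw [← inv_mul_cancel_right (z * a) (a * z), Units.val_mul, e, smul_mul_assoc, one_mul]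
  have tr : ∀ a b : GL (Fin 2) K, a * b = -(b * a) → b.1.trace = 0 := fun a b e => by
    have : a * b * a⁻¹ = -b := by rw [e, neg_mul, mul_inv_cancel_right]
    have := congrArg (fun y : GL (Fin 2) K => y.1.trace) this
    simp only [Units.val_mul, Units.val_neg, trace_neg] at this
    rw [trace_mul_cycle, Units.inv_mul, one_mul] at this
    exact (mul_eq_zero.1 (show 2 * b.1.trace = 0 by linear_combination this)).resolve_left h2
  have h3 : ∀ a ∈ A, a * a ∉ center (GL (Fin 2) K) → z * a = a * z := fun a ha h =>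
    (h1 a ha).resolve_right fun e => h (mem_center_two.2 (isScal_iff.2 ⟨-a.1.det, by
      rw [Units.val_mul, m2_mul_self, tr _ _ e]; simp⟩))
  have cc : ∀ a b c : GL (Fin 2) K, ¬ IsScal a.1 → b * a = a * b → c * a = a * c → b * c = c * b :=
    fun a b c h e e' => Units.ext (commute_of_commute h (congrArg Units.val e) (congrArg Units.val e'))
  obtain ⟨a, ha, haz⟩ : ∃ a ∈ A, z * a = -(a * z) := by
    by_contra! h
    exact huv (cc z _ _ hz1 ((h1 u hu).resolve_right (h u hu)).symm ((h1 v hv).resolve_right (h v hv)).symm)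
  have h4 : x * t * x⁻¹ * (x * t * x⁻¹) ∉ center (GL (Fin 2) K) := fun e => ht2 (by
    have := (inferInstance : (center (GL (Fin 2) K)).Normal).conj_mem _ e x⁻¹
    simpa [mul_assoc] using this)
  have h5 : x * z * x⁻¹ * z = z * (x * z * x⁻¹) :=
    cc _ _ _ (fun e => h4 (mul_mem (mem_center_two.2 e) (mem_center_two.2 e))) (by
      calc x * z * x⁻¹ * (x * t * x⁻¹) = x * (z * t) * x⁻¹ := by group
        _ = _ := by rw [h3 t ht ht2]; group) (h3 _ (conj_mem_of_norm hx ht) h4)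
  have hz0 : z.1.trace = 0 := tr a z (by rw [haz, neg_neg])
  obtain ⟨c, d, e⟩ := (commute_iff_lin hz1).1 (congrArg Units.val h5)
  have h6 := congrArg trace e
  rw [trace_lin, Units.val_mul, Units.val_mul, trace_mul_cycle, Units.inv_mul, one_mul, hz0, mul_zero, add_zero, eq_comm,
    mul_eq_zero, or_iff_right h2] at h6
  rw [h6, zero_smul, zero_add] at e
  have h7 : x * z = z * x := by
    refine mem_cent1.1 (pron_mem_of_pow (m := 2) (n := orderOf x) (Nat.coprime_two_left.2 ho) (mem_cent1.2 ?_)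
      (by rw [pow_orderOf_eq_one]; exact one_mem _))
    rcases sgn _ _ d e (by simp [mul_comm, hd]) with k | k <;> rw [mul_inv_eq_iff_eq_mul] at k <;>
      rw [sq, mul_assoc, k] <;> simp only [neg_mul, mul_neg, ← mul_assoc, k, neg_neg]
  have h8 : Commute x (a * x * a⁻¹) := cc z _ _ hz1 h7 (by
    have k : a⁻¹ * z = -(z * a⁻¹) := by
      rw [inv_mul_eq_iff_eq_mul, mul_neg, ← mul_assoc, ← neg_mul, ← haz, mul_inv_cancel_right]
    rw [mul_assoc, k, mul_neg, mul_assoc a, ← mul_assoc x, h7, ← mul_assoc, ← mul_assoc, ← neg_mul, ← neg_mul, ← haz]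
    group)
  have h9 : x * (a * x * a⁻¹)⁻¹ = 1 := by
    obtain ⟨k, hk⟩ := hA ⟨x * (a * x * a⁻¹)⁻¹, by simpa [mul_assoc] using mul_mem (conj_mem_of_norm hx ha) (inv_mem ha)⟩
    refine mem_bot.1 (pron_mem_of_pow (m := 2 ^ k) (n := orderOf x) ((Nat.coprime_two_left.2 ho).pow_left _)
      (mem_bot.2 (congrArg Subtype.val hk)) (mem_bot.2 ?_))
    rw [h8.inv_right.mul_pow, inv_pow, conj_pow, pow_orderOf_eq_one]; simp
  refine mem_center_two.2 (m2_isScal_of_commute (x := z.1) (y := a.1) (fun e => ne_neg h2 (a * z) ?_)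
    (congrArg Units.val h7) (congrArg Units.val (show x * a = a * x from ?_)))
  · rw [← haz]; exact Units.ext e.symm
  · exact eq_mul_inv_iff_mul_eq.1 (mul_inv_eq_one.1 h9)

theorem good_two [Finite K] (h2 : (2 : K) ≠ 0) {D : Subgroup (GL (Fin 2) K)} {J j t : GL (Fin 2) K} (hJ : J ∈ D)
    (hj : j ∈ D) (ht : t ∈ D) (dJ : J.1.det = 1) (dj : j.1.det = 1) (J2 : J * J = -1) (j2 : j * j = -1)
    (ha : j * J = -(J * j)) {c : Kˣ} (htJ : t * t = GeneralLinearGroup.scalar _ c * J) : ∃ A, Good D A := by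
  have p4 : ∀ y : GL (Fin 2) K, y * y = -1 → y ^ 2 ^ 2 = 1 := fun y h => by
    rw [show 2 ^ 2 = 2 * 2 from rfl, pow_mul, sq y, h, neg_one_sq]
  have hm : (-1 : GL (Fin 2) K) ∈ zpowers J := J2 ▸ mul_mem (mem_zpowers J) (mem_zpowers J)
  have hR := (isPGroup_zpowers' (p4 j j2)).to_sup_of_normal_right' (isPGroup_zpowers' (p4 J J2))
    (zpowers_le.2 (mem_norm_of_cj_le (by
      rw [cj_zpowers, zpowers_le, ha, neg_mul, mul_inv_cancel_right, ← neg_one_mul]
      exact mul_mem hm (mem_zpowers J))))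
  obtain ⟨P, hP⟩ := (hR.comap_of_injective D.subtype D.subtype_injective).exists_le_sylow
  have hPA : ∀ {y} (hy : y ∈ D), y ∈ (P : Subgroup D).map D.subtype ↔ (⟨y, hy⟩ : D) ∈ (P : Subgroup D) := fun hy =>
    mem_map_iff_mem (x := (⟨_, hy⟩ : D)) D.subtype_injective
  set A := (P : Subgroup D).map D.subtype
  have hA : IsPGroup 2 A := P.isPGroup'.map _
  have hJA : J ∈ A := (hPA hJ).2 (hP (mem_sup_right (mem_zpowers J)))
  have hjA : j ∈ A := (hPA hj).2 (hP (mem_sup_left (mem_zpowers j)))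
  have hne : j * J ≠ J * j := fun e => ne_neg h2 _ (e.symm.trans ha)
  have hJc : J ∉ center (GL (Fin 2) K) := fun e => hne (mem_center_iff.1 e j)
  have syl : ∀ y ∈ D, y ∈ N[A] → (∃ k, y ^ 2 ^ k = 1) → y ∈ A := fun y hy hn ⟨k, hk⟩ =>
    (hPA hy).2 (pron_mem_sylow P (k := k) (mem_norm_of_cj_le (by
      rintro _ ⟨s, hs, rfl⟩
      exact (hPA _).1 (conj_mem_of_norm hn (mem_map_of_mem _ hs)))) (Subtype.ext hk))
  have split : ∀ y : GL (Fin 2) K, ∃ k m, Odd m ∧ (y ^ m) ^ 2 ^ k = 1 ∧ Odd (orderOf (y ^ 2 ^ k)) := fun y => by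
    obtain ⟨k, m, hm, e⟩ := Nat.exists_eq_two_pow_mul_odd (orderOf_pos y).ne'
    exact ⟨k, m, hm, by rw [← pow_mul, mul_comm, ← e, pow_orderOf_eq_one], hm.of_dvd_nat
      (orderOf_dvd_of_pow_eq_one (by rw [← pow_mul, ← e, pow_orderOf_eq_one]))⟩
  obtain ⟨s, hs, hs2⟩ : ∃ s ∈ A, s * s ∉ center (GL (Fin 2) K) := by
    obtain ⟨k, m, hm, e, -⟩ := split t
    obtain ⟨Q, hQ⟩ := (isPGroup_zpowers' (g := (⟨t, ht⟩ : D) ^ m) (p := 2) (k := k) (Subtype.ext e)).exists_le_sylow
    obtain ⟨g, rfl⟩ := MulAction.exists_smul_eq D Q P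
    refine ⟨_, mem_map_of_mem _ (conj_mem_cj g (hQ (mem_zpowers _))), fun h => hJc ?_⟩
    have hc : GeneralLinearGroup.scalar _ c ∈ center (GL (Fin 2) K) :=
      mem_center_iff.2 fun y => (GeneralLinearGroup.scalar_commute c y).symm
    have h1 : (t * t) ^ m ∈ center (GL (Fin 2) K) := by
      have := (inferInstance : (center (GL (Fin 2) K)).Normal).conj_mem _ h (g : GL (Fin 2) K)⁻¹
      simpa [mul_assoc, (Commute.refl t).mul_pow] using this
    rw [htJ, Commute.mul_pow (GeneralLinearGroup.scalar_commute c J), mul_mem_cancel_left (pow_mem hc m)] at h1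
    exact pron_mem_of_pow (Nat.coprime_two_right.2 hm) h1 (by rw [sq, J2]; exact mem_center_iff.2 (by simp))
  refine ⟨A, by simp, map_subtype_le _, hA, J2 ▸ mul_mem hJA hJA, ⟨J, hJA, dJ, fun e => hJc (e ▸ one_mem _),
    fun e => hJc (e ▸ mem_center_iff.2 (by simp))⟩, fun x hx => ?_, fun x hx hn => ?_, fun c hc hk => syl _ hc
      (cent_sub _ fun y _ => (GeneralLinearGroup.scalar_commute c y).symm) (hk.imp fun k hk => by
        rw [← map_pow, hk, map_one])⟩
  · obtain ⟨c, e⟩ := GeneralLinearGroup.center_eq_range_scalar.le (mem_center_two.2 (m2_isScal_of_commute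
      (fun e => hne (Units.ext e)) (congrArg Units.val (hx j hjA dj)) (congrArg Units.val (hx J hJA dJ))))
    exact ⟨c, e.symm⟩
  · obtain ⟨k, m, hm, e1, e2⟩ := split x
    obtain ⟨a, ha, z, hz, e⟩ := mem_sup_of_normal_right.1
      (pron_mem_of_pow (H := A ⊔ center _) ((Nat.coprime_two_right.2 hm).pow_right k)
        (mem_sup_left (syl _ (pow_mem hx m) (pow_mem hn m) ⟨k, e1⟩))
        (mem_sup_right (center_of_odd h2 hA hjA hJA hne hs hs2 (pow_mem hn _) e2)))
    obtain ⟨c, rfl⟩ := GeneralLinearGroup.center_eq_range_scalar.le hz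
    exact ⟨a, ha, c, e.symm⟩

theorem exists_op [Finite K] (h2 : (2 : K) ≠ 0) (D : ∀ (α : Type) [Fintype α] [DecidableEq α], Subgroup (GL α K))
    (hD : ∀ (α : Type) [Fintype α] [DecidableEq α] a b, bd (a, b) ∈ D (α ⊕ α) ↔ a ∈ D α ∧ b ∈ D α)
    (hs : ∀ (α : Type) [Fintype α] [DecidableEq α], sw ∈ D (α ⊕ α)) (h0 : ∃ A, Good (D (Fin 2)) A) {w : ℕ}
    (hw : 2 ≤ w) : ∃ (α : Type) (_ : Fintype α) (_ : DecidableEq α), Fintype.card α = 2 ^ w ∧
      OP ↥(D α ⊓ (GeneralLinearGroup.det : GL α K →* Kˣ).ker) := by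
  have key : ∀ k, ∃ (α : Type) (_ : Fintype α) (_ : DecidableEq α) (_ : Nonempty α), Fintype.card α = 2 ^ (k + 1) ∧
      ∃ A, Good (D α) A := by
    intro k
    induction k with
    | zero => exact ⟨Fin 2, _, _, inferInstance, rfl, h0⟩
    | succ k ih =>
      obtain ⟨α, _, _, _, h1, A, h⟩ := ih
      exact ⟨α ⊕ α, _, _, inferInstance, by rw [Fintype.card_sum, h1]; ring, _, h.wr h2 (hD α) (hs α)⟩
  obtain ⟨k, rfl⟩ := Nat.exists_eq_add_of_le' hw
  obtain ⟨α, _, _, _, h1, A, h⟩ := key k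
  have : Fintype.card (α ⊕ α) = 2 ^ (k + 2) := by rw [Fintype.card_sum, h1]; ring
  exact ⟨α ⊕ α, _, _, this, h.op h2 (hD α) (hs α) this⟩

theorem exists_quat [Finite K] (h2 : (2 : K) ≠ 0) (c : K) : ∃ a b : K, a ^ 2 + b ^ 2 = c := by
  obtain ⟨a, b, e⟩ := exists_det_lin_eq (m := !![0, 1; -1, 0]) (by
    simpa [disc, det_fin_two] using show (4 : K) ≠ 0 by rw [show (4 : K) = 2 * 2 by norm_num]; exact mul_ne_zero h2 h2) c
  exact ⟨a, b, by rw [← e, det_lin]; simp [det_fin_two]⟩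

theorem good_of [Finite K] (h2 : (2 : K) ≠ 0) {D : Subgroup (GL (Fin 2) K)} {a b c : K} (hab : a ^ 2 + b ^ 2 = -1)
    (hc : c ≠ 0) (h : ∀ g : GL (Fin 2) K, g.1 = !![0, 1; -1, 0] ∨ g.1 = !![a, b; b, -a] ∨ g.1 = !![c, c; -c, c] → g ∈ D) :
    ∃ A, Good D A := by
  have d1 : (!![0, 1; -1, 0] : M2 K).det = 1 := by simp [det_fin_two]
  have d2 : (!![a, b; b, -a] : M2 K).det = 1 := by simp [det_fin_two]; linear_combination -hab
  have d3 : (!![c, c; -c, c] : M2 K).det ≠ 0 := by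
    simpa [det_fin_two, ← two_mul] using ⟨h2, hc⟩
  refine good_two h2 (J := .mkOfDetNeZero _ (d1.trans_ne one_ne_zero)) (j := .mkOfDetNeZero _ (d2.trans_ne one_ne_zero))
    (t := .mkOfDetNeZero _ d3) (h _ (.inl rfl)) (h _ (.inr (.inl rfl))) (h _ (.inr (.inr rfl))) d1 d2 ?_ ?_ ?_
    (c := Units.mk0 (2 * c * c) (mul_ne_zero (mul_ne_zero h2 hc) hc)) ?_
  all_goals
    ext i j
    fin_cases i <;> fin_cases j <;> simp [Matrix.mul_apply, Fin.sum_univ_two]
  all_goals first | ring1 | linear_combination hab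

theorem op_SL_odd [Finite K] (h2 : (2 : K) ≠ 0) {w : ℕ} (hw : 2 ≤ w) : OP SL(2 ^ w, K) := by
  obtain ⟨a, b, hab⟩ := exists_quat h2 (-1)
  obtain ⟨α, _, _, h1, h⟩ := exists_op h2 (fun _ _ _ => ⊤) (by simp) (by simp)
    (good_of h2 hab one_ne_zero fun _ _ => trivial) hw
  let e := Fintype.equivFinOfCardEq h1
  refine h.of_surj
    { toFun := fun g => ⟨reindex e e g.1.1, by
        rw [det_reindex_self]; exact congrArg Units.val g.2.2⟩
      map_one' := Subtype.ext (by simp)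
      map_mul' := fun a b => Subtype.ext (submatrix_mul_equiv a.1.1 b.1.1 _ e.symm _).symm } fun g => ?_
  refine ⟨⟨GeneralLinearGroup.mkOfDetNeZero (reindex e.symm e.symm g.1) (by rw [det_reindex_self, g.2]; simp),
    trivial, Units.ext (by simp)⟩, Subtype.ext ?_⟩
  change reindex e e (reindex e.symm e.symm g.1) = g.1
  simp

/-- The unitary group of the standard form. -/
def uGL (σ : K →+* K) (α : Type) [Fintype α] [DecidableEq α] : Subgroup (GL α K) where
  carrier := {g | g.1ᵀ * g.1.map σ = 1}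
  one_mem' := by simp
  mul_mem' {a b} ha hb := by
    change (a.1 * b.1)ᵀ * (a.1 * b.1).map σ = 1
    rw [transpose_mul, Matrix.map_mul, mul_assoc, ← mul_assoc a.1ᵀ, ha, one_mul, hb]
  inv_mem' {a} ha := by
    have : (a⁻¹).1ᵀ * (a.1ᵀ * a.1.map σ) * (a⁻¹).1.map σ = 1 := by
      rw [← mul_assoc, ← transpose_mul, mul_assoc, ← Matrix.map_mul, Units.mul_inv]; simp
    rwa [ha, mul_one] at this

theorem herm_iff {n q : ℕ} {σ : K →+* K} (hσ : ∀ x, σ x = x ^ q) {g : Matrix (Fin n) (Fin n) K} :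
    (∀ u v, hermForm n K q (g *ᵥ u) (g *ᵥ v) = hermForm n K q u v) ↔ gᵀ * g.map σ = 1 := by
  have key : ∀ u v, hermForm n K q (g *ᵥ u) (g *ᵥ v) = u ⬝ᵥ (gᵀ * g.map σ) *ᵥ (σ ∘ v) := fun u v => by
    rw [← mulVec_mulVec, dotProduct_mulVec, vecMul_transpose]
    exact Finset.sum_congr rfl fun i _ => by rw [← hσ, RingHom.map_mulVec]
  refine ⟨fun h => ?_, fun h u v => by rw [key, h, one_mulVec]; exact Finset.sum_congr rfl fun i _ => by simp [hσ]⟩
  ext i j
  have := (key (Pi.single i 1) (Pi.single j 1)).symm.trans (h _ _)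
  rw [show σ ∘ Pi.single j 1 = Pi.single j 1 by ext k; simp [Pi.single_apply], single_one_dotProduct, mulVec_single_one]
    at this
  simpa [hermForm, ← hσ, Pi.single_apply, one_apply, eq_comm] using this

theorem op_SU_odd [Fintype K] (h2 : (2 : K) ≠ 0) {q : ℕ} (hF : Fintype.card K = q ^ 2) {w : ℕ} (hw : 2 ≤ w) :
    OP (SU (2 ^ w) K q) := by
  have := Fact.mk hF
  set σ := Geom.frobq hF
  have hσ : ∀ x, σ x = x ^ q := fun _ => rfl
  obtain ⟨d, hd, hd'⟩ := exists_trace_zero K q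
  replace hd' : σ d = -d := eq_neg_of_add_eq_zero_right hd'
  obtain ⟨⟨a, ha⟩, ⟨b, hb⟩, hab⟩ := exists_quat (K := σ.eqLocusField (RingHom.id K))
    (fun h => h2 (congrArg Subtype.val h)) ⟨-(d ^ 2)⁻¹, by simp [RingHom.mem_eqLocusField, hd']⟩
  replace hab : a ^ 2 + b ^ 2 = -(d ^ 2)⁻¹ := congrArg Subtype.val hab
  replace ha : σ a = a := ha
  replace hb : σ b = b := hb
  have hab' : (d * a) ^ 2 + (d * b) ^ 2 = -1 := by rw [mul_pow, mul_pow, ← mul_add, hab]; field_simp
  obtain ⟨c, hc⟩ := exists_norm_eq (F := K) (q := q) (c := 2⁻¹) (by rw [← hσ, map_inv₀, map_ofNat])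
  rw [← hσ, ← mul_eq_one_iff_eq_inv₀ h2] at hc
  obtain ⟨α, _, _, h1, h⟩ := exists_op h2 (uGL σ) (fun α _ _ a b => by
      change _ = _ ↔ _ = _ ∧ _ = _
      simp [bd_val, fromBlocks_transpose, fromBlocks_map, fromBlocks_multiply, ← fromBlocks_one])
    (fun α _ _ => by
      change _ = _
      simp [sw_val, fromBlocks_transpose, fromBlocks_map, fromBlocks_multiply])
    (good_of h2 hab' (c := c) (by rintro rfl; simp at hc) fun g hg => by
      change _ = _
      rcases hg with e | e | e <;> rw [e] <;> ext i j <;> fin_cases i <;> fin_cases j <;>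
        simp [Matrix.mul_apply, Fin.sum_univ_two, ha, hb, hd']
      all_goals first | ring1 | linear_combination hc | linear_combination -hab') hw
  let e := Fintype.equivFinOfCardEq h1
  refine h.of_surj
    { toFun := fun g => ⟨⟨reindex e e g.1.1, by
        rw [det_reindex_self]; exact congrArg Units.val g.2.2⟩, (herm_iff hσ).2 (by
          change (reindex e e g.1.1)ᵀ * (reindex e e g.1.1).map σ = 1
          simp [← submatrix_map, show g.1.1ᵀ * g.1.1.map σ = 1 from g.2.1])⟩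
      map_one' := Subtype.ext (Subtype.ext (by simp))
      map_mul' := fun a b => Subtype.ext (Subtype.ext (submatrix_mul_equiv a.1.1 b.1.1 _ e.symm _).symm) } fun g => ?_
  refine ⟨⟨GeneralLinearGroup.mkOfDetNeZero (reindex e.symm e.symm g.1.1) (by rw [det_reindex_self, g.1.2]; simp),
    ?_, Units.ext (by simp)⟩, Subtype.ext (Subtype.ext ?_)⟩
  · change (reindex e.symm e.symm g.1.1)ᵀ * (reindex e.symm e.symm g.1.1).map σ = 1
    simp [← submatrix_map, show g.1.1ᵀ * g.1.1.map σ = 1 from (herm_iff hσ).1 g.2]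
  · change reindex e e (reindex e.symm e.symm g.1.1) = g.1.1
    simp

end Cfsg.Agent.Classical.Pron
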