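import Cfsg.Agent.Classical.Pron1
import Cfsg.Agent.FusE.Quat3
import Cfsg.Agent.Invol.ZS

/-! A subgroup of `Sp₄(q) = U₂(ℍ)` containing `Q₈ × Q₈` in which `diag(1, -1)` is isolated modulo `±1`
normalises the decomposition (`le_CG_zz`). -/

set_option autoImplicit false
set_option linter.unusedSectionVars false

namespace Cfsg.Agent.Classical.Psp

open Subgroup Cfsg.Agent.BG Cfsg.Agent.FusE Quaternion Matrix

theorem zs_abs {H : Type*} [Group H] [Finite H] {C T : Subgroup H} {z : H} (hz : z ∈ T) (hT : T ≤ C)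
    (h2 : IsPGroup 2 T) (ho : orderOf z = 2) (iso : ∀ x ∈ C, Commute z (x * z * x⁻¹) → x * z * x⁻¹ = z)
    (nil : ∀ (r : ℕ) [Fact r.Prime] (R : Subgroup H), IsPGroup r R → Odd (Nat.card R) → T ≤ N[R] → R ≤ C1[z]) :
    C ≤ C1[z] := by
  have h1 : IsIsolatedInvolution (⟨z, hT hz⟩ : C) := ⟨by rw [← ho, ← orderOf_coe], fun g hg =>
    Subtype.ext (iso g g.2 (congrArg Subtype.val hg))⟩
  set O := (pPrimeCore 2 C).map C.subtype
  have hO : Odd (Nat.card O) := by rw [card_map_of_injective C.subtype_injective]; exact Invol.odd_oddCore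
  have hN : C ≤ N[O] := le_norm_iff.2 (by
    rintro g hg _ ⟨o, h, rfl⟩
    exact ⟨_, (inferInstance : (pPrimeCore 2 C).Normal).conj_mem o h ⟨g, hg⟩, rfl⟩)
  obtain ⟨k, hk⟩ := h2.exists_card_eq
  have := h2.isNilpotent
  have h3 : O ≤ C1[z] := Solv.le_of_forall_invariant_sylIn (hT.trans hN)
    (by rw [hk]; exact (Nat.coprime_two_left.2 hO).pow_left _) (.inl inferInstance)
    fun r _ R hR h => nil r R hR.pg (hO.of_dvd_nat (card_dvd_of_le hR.le)) h
  intro g hg
  obtain ⟨o, h4, c, h5, e⟩ := Invol.Isolated.factor h1 ⟨g, hg⟩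
  rw [show g = o * c from congrArg Subtype.val e]
  exact mul_mem (h3 ⟨o, h4, rfl⟩) (mem_cent1.2 (congrArg Subtype.val h5))

variable {F : Type*} [Field F] [Finite F] [NeZero (2 : F)]

theorem L_sq {x : L F} (h : x * x = 1) : x = 1 ∨ x = -1 := (pm_of_sq (.inl h)).resolve_right fun e => by
  have h1 := nrm x
  have h2 := (L_ext_iff.1 h).1
  simp only [Submonoid.coe_mul, re_mul, e, OneMemClass.coe_one, re_one] at h1 h2
  exact NeZero.ne (2 : F) (by linear_combination -h1 - h2)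

theorem Q8_le {X : Subgroup (L F)} (hi : qi ∈ X) (hj : qj ∈ X) : Q8 F ≤ X := fun x hx => by
  have h1 : (-1 : L F) ∈ X := by
    rw [show (-1 : L F) = qi * qi from L_ext_iff.2 (by simp)]; exact mul_mem hi hi
  have h2 : ∀ y ∈ X, -y ∈ X := fun y hy => by simpa using mul_mem h1 hy
  have hk : qk ∈ X := qi_j (F := F) ▸ mul_mem hi hj
  rcases Q8_cases hx with (rfl | rfl) | (rfl | rfl) | (rfl | rfl) | (rfl | rfl)
  exacts [one_mem _, h1, hi, h2 _ hi, hj, h2 _ hj, hk, h2 _ hk]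

theorem ideal_Q8 {β : ℍ[F]} (hβ : β ≠ 0) (I : Submodule F ℍ[F]) (h : ∀ p ∈ Q8 F, ∀ q ∈ Q8 F, p.1 * β * q.1 ∈ I)
    {p : L F} (hp : p ∈ Q8 F) : p.1 ∈ I := by
  have key : ∀ q ∈ Q8 F, (β * q.1).re ≠ 0 → p.1 ∈ I := fun q hq h0 => by
    have k : ∀ s ∈ Q8 F, p.1 * (s.1 * (β * q.1) * star s.1) ∈ I := fun s hs => by
      simpa [mul_assoc] using h _ (mul_mem hp hs) _ (mul_mem hq (inv_mem hs))
    have := add_mem (add_mem (add_mem (k _ (one_mem _)) (k _ qi_mem)) (k _ qj_mem)) (k _ qk_mem)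
    rw [← mul_add, ← mul_add, ← mul_add] at this
    generalize β * q.1 = γ at h0 this
    have h4 : (2 * 2 * γ.re) ≠ 0 := mul_ne_zero (mul_ne_zero (NeZero.ne 2) (NeZero.ne 2)) h0
    rw [← I.smul_mem_iff h4]
    convert this using 1
    ext <;> simp <;> ring
  by_contra hn
  have h1 := not_not.1 fun e => hn (key _ (one_mem _) e)
  have h2 := not_not.1 fun e => hn (key _ qi_mem e)
  have h3 := not_not.1 fun e => hn (key _ qj_mem e)
  have h4 := not_not.1 fun e => hn (key _ qk_mem e)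
  simp at h1 h2 h3 h4
  exact hβ (by ext <;> simp [*])

theorem HH_entry (x y : HH F) (i j : Fin 2) : (x * y).1 i j = x.1 i 0 * y.1 0 j + x.1 i 1 * y.1 1 j := by
  simp [mul_apply]

theorem zz_zz : (zz : HH F) * zz = 1 := by simp [dq_mul, ← Prod.one_eq_mk]

theorem zz_inv : (zz : HH F)⁻¹ = zz := inv_eq_of_mul_eq_one_right zz_zz

theorem inverted {x : HH F} (h : zz * x * zz = x⁻¹) : x.1 1 0 = -star (x.1 0 1) ∧ (x.1 0 1 = 0 → x * x = 1) := by
  have h1 : x.1 1 0 = -star (x.1 0 1) := by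
    have := congrFun (congrFun (congrArg Subtype.val h) 1) 0
    rw [HH_entry, HH_entry, HH_entry, show (x⁻¹).1 1 0 = star (x.1 0 1) from rfl] at this
    simpa [neg_eq_iff_eq_neg] using this
  refine ⟨h1, fun h0 => ?_⟩
  have : zz * x * zz = x := HH_ext_iff.2 (by simp [HH_entry, h1, h0, -Submonoid.coe_mul])
  rw [← mul_inv_cancel x, ← h, this]

theorem nil_lemma {R : Subgroup (HH F)} (hN : ∀ p ∈ Q8 F, ∀ q ∈ Q8 F, dq (p, q) ∈ N[R]) {n : ℕ} (hn : Odd n)
    (ho : ∀ x ∈ R, x ^ n = 1 ∨ x ^ n = -1)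
    (hZ : (∀ x ∈ R, x = 1 ∨ x = -1) ∨ ∃ w ∈ R, ¬ (w = 1 ∨ w = -1) ∧ ∀ y ∈ R, w ∈ CG y) : R ≤ CG zz := by
  have hpm : ∀ x ∈ R, x * x = 1 ∨ x * x = -1 → x = 1 ∨ x = -1 := fun x hx h => by
    have : x ∈ center (HH F) := pron_mem_of_pow (Nat.coprime_two_right.2 hn) (mem_center_HH.2 (ho x hx))
      (mem_center_HH.2 (by rwa [sq]))
    exact mem_center_HH.1 this
  have hz : zz ∈ N[R] := hN _ (one_mem _) _ (neg_mem_Q8 (one_mem _))
  intro x hx
  by_contra hx'
  obtain ⟨w, hw, hw1, hw2⟩ := hZ.resolve_left fun h => hx' (by rcases h x hx with rfl | rfl <;> simp [mem_CG])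
  have hc : ∀ y ∈ R, w * y = y * w := fun y hy => mem_cent1.1 (pron_mem_of_pow (Nat.coprime_two_right.2 hn)
    (by rcases ho w hw with h | h <;> simp [h, mem_cent1]) (mem_cent1.2 (by
      rcases hw2 y hy with h | h <;> rw [sq, mul_assoc, h] <;> simp [← mul_assoc, h])))
  have h0 : x * (zz * x⁻¹ * zz⁻¹) ∈ R := mul_mem hx (conj_mem_of_norm hz (inv_mem hx))
  set x0 := x * (zz * x⁻¹ * zz⁻¹) with hx0
  have hβ : x0.1 0 1 ≠ 0 := fun e => hx' (mem_CG'.2 (by
    rcases hpm _ h0 (.inl ((inverted (by simp [hx0, zz_inv, mul_assoc, zz_zz])).2 e)) with h | h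
    · exact .inl (by rw [← mul_inv_eq_one, ← h, hx0]; group)
    · exact .inr (by rw [← neg_one_mul, ← mul_inv_eq_iff_eq_mul, ← h, hx0]; group)))
  have A : ∀ y ∈ R, (∀ t ∈ R, y * t = t * y) → y * zz = zz * y → y = 1 ∨ y = -1 := fun y _ h1 h2 => by
    obtain ⟨u, v, rfl⟩ := diag_of_comm h2
    have key : ∀ p ∈ Q8 F, u * p = p * v := fun p hp => Subtype.ext (ideal_Q8 hβ
      (LinearMap.eqLocus (LinearMap.mulLeft F u.1) (LinearMap.mulRight F v.1)) (fun p hp q hq => by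
        have := congrFun (congrFun (congrArg Subtype.val (h1 _ (conj_mem_of_norm (hN p hp _ (inv_mem hq)) h0))) 0) 1
        simpa [dq_inv, HH_entry, -Submonoid.coe_mul] using this) hp)
    obtain rfl : u = v := by simpa using key 1 (one_mem _)
    rcases real_of_ij (key _ qi_mem) (key _ qj_mem) with rfl | rfl
    · exact .inl (map_one dq)
    · exact .inr (by rw [← neg_dq, ← Prod.one_eq_mk, map_one])
  have hw' : zz * w * zz⁻¹ ∈ R := conj_mem_of_norm hz hw
  have h3 : w * (zz * w * zz⁻¹) = 1 ∨ w * (zz * w * zz⁻¹) = -1 := A _ (mul_mem hw hw') (fun t ht => by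
      have := hc _ (conj_mem_of_norm' hz ht)
      calc w * (zz * w * zz⁻¹) * t = w * zz * (w * (zz⁻¹ * t * zz)) * zz⁻¹ := by group
        _ = w * t * (zz * w * zz⁻¹) := by rw [this]; group
        _ = _ := by rw [hc t ht]; group) (by
      rw [hc _ hw']
      calc zz * w * zz⁻¹ * w * zz = zz * (w * (zz * w * zz⁻¹)) := by simp only [zz_inv, mul_assoc]
        _ = _ := by rw [hc _ hw'])
  have h4 : zz * (w * w) * zz = (w * w)⁻¹ := by
    rw [eq_inv_iff_mul_eq_one]
    calc zz * (w * w) * zz * (w * w) = (zz * w * zz⁻¹ * (zz * w * zz⁻¹ * w)) * w := by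
          simp only [mul_assoc, zz_inv, Invol.mul_self_cancel zz_zz]
      _ = w * (zz * w * zz⁻¹) * (w * (zz * w * zz⁻¹)) := by
          rw [← hc _ hw', mul_assoc, mul_assoc w, ← hc _ hw', ← mul_assoc, ← hc _ hw']
      _ = 1 := by rcases h3 with h | h <;> simp [h]
  have e : ∀ t ∈ R, w * w * t = t * (w * w) := fun t ht => by rw [mul_assoc, hc t ht, ← mul_assoc, hc t ht, mul_assoc]
  have h7 : (w * w).1 0 1 ≠ 0 := fun e => hw1 (hpm w hw (hpm _ (mul_mem hw hw) (.inl ((inverted h4).2 e))))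
  have hy := mul_mem hw hw
  generalize w * w = y at *
  have h5 := (inverted h4).1
  have key : ∀ q ∈ Q8 F, q.1.re = 0 → y.1 0 1 * q.1 * star (y.1 0 1) = 0 := fun q hq h => by
    have := congrFun (congrFun (congrArg Subtype.val (e _ (conj_mem_of_norm (hN _ (one_mem _) _ hq) hy))) 0) 0
    have hq' : star q.1 = -q.1 := by ext <;> simp [h]
    simp only [dq_inv, HH_entry, coe_dq, of_apply, cons_val', cons_val_zero, cons_val_one, cons_val_fin_one, zero_mul,
      mul_zero, add_zero, zero_add, inv_one, OneMemClass.coe_one, one_mul, mul_one, L_inv, add_right_inj, h5, hq',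
      mul_neg, neg_mul, neg_neg, neg_zero, ← mul_assoc] at this
    exact zero_of_neg this.symm
  set β := y.1 0 1
  have h8 : β * star β = 0 := by
    have := congrArg normSq (key _ qi_mem rfl)
    rw [map_mul, map_mul, normSq_star, show normSq (qi : L F).1 = 1 by simp [normSq_def'], mul_one, map_zero,
      mul_self_eq_zero] at this
    rw [self_mul_star, this]; rfl
  refine h7 (by
    simpa using ideal_Q8 (star_ne_zero.2 h7) (LinearMap.ker (LinearMap.mulLeft F β)) (fun p hp q _ => by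
      have : β * p.1 * star β = 0 := by
        rcases Q8_cases hp with (rfl | rfl) | (rfl | rfl) | (rfl | rfl) | (rfl | rfl) <;>
          first | simpa using h8 | exact key _ hp (by simp)
      simp [← mul_assoc, this]) (one_mem _))

theorem le_CG_zz {C : Subgroup (HH F)} (hQ : ∀ p ∈ Q8 F, ∀ q ∈ Q8 F, dq (p, q) ∈ C)
    (iso : ∀ x ∈ C, x * zz * x⁻¹ ∈ CG zz → x ∈ CG zz) : C ≤ CG zz := by
  let π := QuotientGroup.mk' (center (HH F))
  have hk : ∀ x, π x = 1 ↔ x = 1 ∨ x = -1 := fun x => (QuotientGroup.eq_one_iff x).trans mem_center_HH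
  have hc : ∀ x y, π x * π y = π y * π x ↔ x ∈ CG y := fun x y => by
    rw [← mul_inv_eq_one, ← map_mul, ← map_mul, ← map_inv, ← map_mul, hk, mul_inv_eq_one, mul_inv_eq_iff_eq_mul,
      neg_one_mul, mem_CG]
  have := zs_abs (C := C.map π) (T := (((Q8 F).prod (Q8 F)).map dq).map π) (z := π zz)
    (mem_map_of_mem _ (mem_map_of_mem _ ⟨one_mem _, neg_mem_Q8 (one_mem _)⟩))
    (map_mono (by rintro _ ⟨⟨p, q⟩, h, rfl⟩; exact hQ p h.1 q h.2))
    (((isPGroup_SS isPGroup_Q8).to_le (by rintro _ ⟨⟨p, q⟩, h, rfl⟩; exact dq_mem.2 h)).map π)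
    (Invol.orderOf_two_iff.2 ⟨by rw [← map_mul, zz_zz, map_one], fun h => zz_ne ((hk _).1 h)⟩) (by
      rintro _ ⟨x, hx, rfl⟩ h
      rw [← map_inv, ← map_mul, ← map_mul] at h
      rw [mul_inv_eq_iff_eq_mul, hc]
      exact iso x hx ((hc _ _).1 h.eq.symm)) fun r _ R hR ho hN y hy => by
    obtain ⟨y, rfl⟩ := QuotientGroup.mk'_surjective _ y
    refine mem_cent1.2 ((hc _ _).2 (nil_lemma (R := R.comap π) (fun p hp q hq => ?_) ho (fun x hx => ?_) ?_ hy))
    · exact mem_norm_of_cj_le (by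
        rintro _ ⟨x, hx, rfl⟩
        simpa using conj_mem_of_norm (hN (mem_map_of_mem _ (mem_map_of_mem dq (x := (p, q)) ⟨hp, hq⟩))) hx)
    · rw [← hk, map_pow]
      exact congrArg Subtype.val (pow_card_eq_one' (x := (⟨π x, hx⟩ : R)))
    · rcases subsingleton_or_nontrivial R with h | h
      · exact .inl fun x hx => (hk x).1 (congrArg Subtype.val (Subsingleton.elim (⟨π x, hx⟩ : R) 1))
      have := hR.center_nontrivial
      obtain ⟨⟨⟨w, hw⟩, h1⟩, h2⟩ := exists_ne (1 : center R)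
      obtain ⟨w, rfl⟩ := QuotientGroup.mk'_surjective _ w
      exact .inr ⟨w, hw, fun e => h2 (Subtype.ext (Subtype.ext ((hk w).2 e))), fun y hy =>
        (hc _ _).1 (congrArg Subtype.val (mem_center_iff.1 h1 ⟨π y, hy⟩)).symm⟩
  exact fun x hx => (hc _ _).1 (mem_cent1.1 (this (mem_map_of_mem π hx)))

end Cfsg.Agent.Classical.Psp
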