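import Cfsg.Agent.Classical.Pron5
import Cfsg.Agent.Syl2.Wr

/-! The model `U κ F = U_κ(ℍ[F])` of the symplectic group: monomial matrices, embeddings `τ P` of smaller
unitary groups, orthogonality of supports and primitive involutions. -/

set_option autoImplicit false
set_option linter.unusedSectionVars false

namespace Cfsg.Agent.Classical.Psp

open Subgroup Cfsg.Agent.BG Cfsg.Agent.FusE Cfsg.Agent.Syl2 Quaternion Matrix Equiv

/-- The unitary group over the quaternions. -/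
abbrev U (κ : Type) [Fintype κ] [DecidableEq κ] (F : Type*) [Field F] := unitary (Matrix κ κ ℍ[F])

variable {F : Type*} [Field F] [Finite F] [NeZero (2 : F)] {κ ι : Type} [Fintype κ] [DecidableEq κ] [Fintype ι]
  [DecidableEq ι]

theorem mem_U {A : Matrix κ κ ℍ[F]} (h : A * Aᴴ = 1) : A ∈ unitary (Matrix κ κ ℍ[F]) := ⟨mul_eq_one_comm.1 h, h⟩

theorem U_inv (x : U κ F) : (x⁻¹).1 = x.1ᴴ := rfl
theorem U_mul (x y : U κ F) : (x * y).1 = x.1 * y.1 := rfl
theorem U_one : (1 : U κ F).1 = 1 := rfl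
theorem U_neg (x : U κ F) : (-x).1 = -x.1 := rfl
theorem U_mul_ct (x : U κ F) : x.1 * x.1ᴴ = 1 := x.2.2
theorem U_ct_mul (x : U κ F) : x.1ᴴ * x.1 = 1 := x.2.1

theorem exists_equiv_Sp (m : ℕ) : Nonempty (U (Fin m) F ≃* symplecticGroup (Fin m) F) := by
  obtain ⟨a, b, hab⟩ := sum_two_sq (-1 : F)
  let e : Fin m × Fin 2 ≃ Fin m ⊕ Fin m :=
    { toFun := fun p => ![.inl p.1, .inr p.1] p.2
      invFun := Sum.elim (·, 0) (·, 1)
      left_inv := by rintro ⟨i, a⟩; fin_cases a <;> rfl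
      right_inv := by rintro (i | i) <;> rfl }
  let Ψ : Matrix (Fin m) (Fin m) ℍ[F] ≃+* Matrix (Fin m ⊕ Fin m) (Fin m ⊕ Fin m) F :=
    ((qsplit hab).mapMatrix.trans (compRingEquiv _ _ F)).trans (reindexRingEquiv F e)
  have hs : ∀ M, Ψ (star M) * J (Fin m) F = J (Fin m) F * (Ψ M)ᵀ := fun M => by
    ext (i | i) (j | j) <;> simp [Ψ, J, mul_apply, e, qsplit, one_apply] <;> ring
  have key : ∀ M, M ∈ unitary (Matrix (Fin m) (Fin m) ℍ[F]) ↔ Ψ M ∈ symplecticGroup (Fin m) F := fun M => by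
    rw [SymplecticGroup.mem_iff, Matrix.mul_assoc, ← hs, ← Matrix.mul_assoc, ← map_mul]
    refine ⟨fun h => by rw [h.2, map_one, Matrix.one_mul], fun h => mem_U (Ψ.injective ?_)⟩
    rwa [map_one, ← (Matrix.isUnit_iff_isUnit_det _).2 (isUnit_det_J _ _) |>.mul_left_inj, Matrix.one_mul]
  exact ⟨{ Ψ.toEquiv.subtypeEquiv key with map_mul' := fun x y => Subtype.ext (map_mul Ψ x.1 y.1) }⟩

/-- Diagonal matrices. -/
def dg : (κ → L F) →* U κ F where
  toFun f := ⟨diagonal fun i => (f i).1, mem_U (by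
    rw [diagonal_conjTranspose, diagonal_mul_diagonal, ← diagonal_one]; congr 1; funext i; exact (f i).2.2)⟩
  map_one' := Subtype.ext diagonal_one
  map_mul' f g := Subtype.ext (diagonal_mul_diagonal _ _).symm

/-- Permutation matrices. -/
def pm : Perm κ →* U κ F where
  toFun π := ⟨of fun i j => if i = π j then 1 else 0, mem_U (by
    ext i j : 1
    simp only [mul_apply, of_apply, conjTranspose_apply, ← π.symm_apply_eq, one_apply]
    simp [apply_ite star, eq_comm])⟩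
  map_one' := Subtype.ext (by ext i j : 1; simp [one_apply]; rfl)
  map_mul' π σ := Subtype.ext (by ext i j : 1; simp [mul_apply]; rfl)

theorem dg_val (f : κ → L F) : (dg f).1 = diagonal fun i => (f i).1 := rfl

theorem pm_val (π : Perm κ) : (pm π : U κ F).1 = of fun i j => if i = π j then 1 else 0 := rfl

theorem mon_val (f : κ → L F) (π : Perm κ) (i j : κ) : (dg f * pm π).1 i j = if i = π j then (f i).1 else 0 := by
  simp [dg_val, pm_val]

/-- The wreath datum. -/
def W (κ : Type) [Fintype κ] [DecidableEq κ] (F : Type*) [Field F] [Finite F] [NeZero (2 : F)] : WD (U κ F) (L F) Unit κ where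
  b := dg.comp (MonoidHom.fst _ _)
  s := pm
  conj π f _ := Subtype.ext (by
    ext i j : 1
    refine Eq.trans ?_ (mon_val _ π i j).symm
    simp only [Submonoid.coe_mul, MonoidHom.comp_apply, MonoidHom.coe_fst, dg_val, pm_val, mul_diagonal, of_apply]
    split_ifs with h <;> simp [h])
  inj f _ π h := by
    have key := fun i j => (mon_val f π i j).symm.trans (congrFun (congrFun (congrArg Subtype.val h) i) j)
    have h1 : ∀ i, i = π i ∧ (f i).1 = 1 := fun i => by
      have := key i i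
      rw [U_one, one_apply_eq] at this
      split_ifs at this with h
      exacts [⟨h, this⟩, absurd this zero_ne_one]
    exact ⟨funext fun i => Subtype.ext (h1 i).2, rfl, Equiv.ext fun i => (h1 i).1.symm⟩

/-- The `k`-th block. -/
abbrev φ (k : κ) : L F →* U κ F := (W κ F).φ k

/-- The involution of the `k`-th block. -/
abbrev z (k : κ) : U κ F := φ k (-1)

theorem φ_eq (k : κ) (u : L F) : φ k u = dg (Pi.mulSingle k u) := rfl

theorem pm_dg (π : Perm κ) (f : κ → L F) : pm π * dg f = dg (fun i => f (π⁻¹ i)) * pm π := (W κ F).conj π f ()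

theorem mon_inj {f f' : κ → L F} {π π' : Perm κ} (h : dg f * pm π = dg f' * pm π') : f = f' ∧ π = π' :=
  ((W κ F).ext_iff' (e := ()) (e' := ()) h).imp id And.right

theorem dg_inj {f f' : κ → L F} : dg f = dg f' ↔ f = f' :=
  ⟨fun h => (mon_inj (π := 1) (π' := 1) (by rw [h])).1, congrArg _⟩

theorem mon_conj (f : κ → L F) (π : Perm κ) (g : κ → L F) :
    dg f * pm π * dg g * (dg f * pm π)⁻¹ = dg fun i => f i * g (π⁻¹ i) * (f i)⁻¹ := by
  rw [mul_assoc (dg f), pm_dg, _root_.mul_inv_rev, ← mul_assoc, mul_assoc (dg f), mul_inv_cancel_right, ← map_inv,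
    ← map_mul, ← map_mul]
  rfl

theorem mon_φ (f : κ → L F) (π : Perm κ) (k : κ) (u : L F) :
    dg f * pm π * φ k u * (dg f * pm π)⁻¹ = φ (π k) (f (π k) * u * (f (π k))⁻¹) := by
  rw [φ_eq, mon_conj, φ_eq]
  congr 1; funext i
  by_cases h : i = π k
  · simp [h]
  · simp [h, symm_apply_eq]

theorem mon_z (f : κ → L F) (π : Perm κ) (k : κ) : dg f * pm π * z k * (dg f * pm π)⁻¹ = z (π k) := by
  rw [mon_φ]; simp

theorem z_z (k : κ) : (z k : U κ F) * z k = 1 := by rw [← map_mul]; simp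

theorem z_inj {k l : κ} : (z k : U κ F) = z l ↔ k = l := ⟨fun h => by
  by_contra e
  have := congrFun (dg_inj.1 h) k
  simp [e, neg_ne_self'] at this, congrArg _⟩

theorem exists_mon {x : U κ F} (h : ∀ k, ∃ l, x * z k * x⁻¹ = z l) : ∃ f π, x = dg f * pm π := by
  choose p hp using h
  have hi : Function.Injective p := fun k l e => z_inj.1 ((MulAut.conj x).injective ((hp k).trans (e ▸ (hp l).symm)))
  let π := Equiv.ofBijective p (Finite.injective_iff_bijective.1 hi)
  have h0 : ∀ i j, i ≠ π j → x.1 i j = 0 := fun i j e => by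
    have h1 : x * z j = z (p j) * x := mul_inv_eq_iff_eq_mul.1 (hp j)
    have := congrFun (congrFun (congrArg Subtype.val h1) i) j
    simp only [φ_eq, U_mul, dg_val, mul_diagonal, diagonal_mul, Pi.mulSingle_eq_same,
      Pi.mulSingle_eq_of_ne (show i ≠ p j from e)] at this
    exact zero_of_neg (by simpa using this.symm)
  have h1 : ∀ i, x.1 i (π⁻¹ i) * star (x.1 i (π⁻¹ i)) = 1 := fun i => by
    have := congrFun (congrFun (U_mul_ct x) i) i
    rwa [mul_apply, Finset.sum_eq_single (π⁻¹ i) (fun j _ e => by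
      rw [h0 i j (fun e' => e (by simp [e'])), zero_mul]) (by simp), one_apply_eq] at this
  refine ⟨fun i => ⟨_, mul_eq_one_comm.1 (h1 i), h1 i⟩, π, Subtype.ext ?_⟩
  ext i j : 1
  rw [mon_val]
  split_ifs with e
  exacts [by simp [e], h0 i j e]

theorem eq_of_two {α β : Type*} {X Y : Matrix α β ℍ[F]} (h : (2 : F) • X = (2 : F) • Y) : X = Y :=
  smul_right_injective _ (NeZero.ne 2) h

/-- The embedding attached to an isometry `P`. -/
def τ (P : Matrix κ ι ℍ[F]) (hP : Pᴴ * P = 1) : U ι F →* U κ F :=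
  have key : ∀ A B : Matrix ι ι ℍ[F], (1 + P * (A - 1) * Pᴴ) * (1 + P * (B - 1) * Pᴴ) = 1 + P * (A * B - 1) * Pᴴ :=
    fun A B => by
      have : P * (A - 1) * Pᴴ * (P * (B - 1) * Pᴴ) = P * ((A - 1) * (B - 1)) * Pᴴ := by
        simp only [Matrix.mul_assoc]; rw [← Matrix.mul_assoc Pᴴ, hP, Matrix.one_mul]
      rw [add_mul, mul_add, mul_add, this, one_mul, one_mul, mul_one, add_assoc, ← Matrix.add_mul, ← Matrix.add_mul,
        ← Matrix.mul_add, ← Matrix.mul_add]
      congr 3; noncomm_ring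
  { toFun := fun γ => ⟨1 + P * (γ.1 - 1) * Pᴴ, mem_U (by
      have := key γ.1 γ.1ᴴ
      rw [U_mul_ct] at this
      simpa [Matrix.mul_assoc] using this)⟩
    map_one' := Subtype.ext (by simp)
    map_mul' := fun γ δ => Subtype.ext (key _ _).symm }

section
variable {P : Matrix κ ι ℍ[F]} (hP : Pᴴ * P = 1)

theorem τ_val (γ : U ι F) : (τ P hP γ).1 = 1 + P * (γ.1 - 1) * Pᴴ := rfl

theorem τ_mul_P (γ : U ι F) : (τ P hP γ).1 * P = P * γ.1 := by
  simp [τ_val, Matrix.add_mul, Matrix.mul_assoc, hP, Matrix.mul_sub]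

theorem τ_inj : Function.Injective (τ P hP) := fun γ δ h => Subtype.ext (by
  have := congrArg (fun x : U κ F => Pᴴ * (x.1 * P)) h
  simpa [τ_mul_P, ← Matrix.mul_assoc, hP] using this)

theorem τ_conj {x : U κ F} {γ : U ι F} (h : x.1 * P = P * γ.1) (δ : U ι F) :
    x * τ P hP δ * x⁻¹ = τ P hP (γ * δ * γ⁻¹) := Subtype.ext (by
  have h' : Pᴴ * x.1ᴴ = γ.1ᴴ * Pᴴ := by rw [← conjTranspose_mul, h, conjTranspose_mul]
  simp only [U_mul, U_inv, τ_val, mul_add, add_mul, mul_one, U_mul_ct, add_right_inj, ← Matrix.mul_assoc, h]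
  simp only [Matrix.mul_assoc, h', Matrix.mul_sub, Matrix.sub_mul, Matrix.one_mul]
  rw [← Matrix.mul_assoc γ.1 γ.1ᴴ, U_mul_ct, Matrix.one_mul])

include hP in
theorem exists_rel {x : U κ F} (h : x.1 * (P * Pᴴ) = P * Pᴴ * x.1) : ∃ γ : U ι F, x.1 * P = P * γ.1 := by
  have h1 : x.1 * P = P * (Pᴴ * x.1 * P) := by
    rw [← Matrix.mul_assoc, ← Matrix.mul_assoc, ← h, Matrix.mul_assoc, Matrix.mul_assoc, hP, Matrix.mul_one]
  refine ⟨⟨_, mem_U ?_⟩, h1⟩
  simp only [conjTranspose_mul, conjTranspose_conjTranspose, Matrix.mul_assoc]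
  rw [← Matrix.mul_assoc P, ← Matrix.mul_assoc x.1, h, Matrix.mul_assoc, ← Matrix.mul_assoc x.1, U_mul_ct,
    Matrix.one_mul, Matrix.mul_assoc, hP, Matrix.mul_one, hP]

theorem rel_mul {x y : U κ F} {γ δ : U ι F} (h : x.1 * P = P * γ.1) (h' : y.1 * P = P * δ.1) :
    (x * y).1 * P = P * (γ * δ).1 := by
  rw [U_mul, U_mul, Matrix.mul_assoc, h', ← Matrix.mul_assoc, h, Matrix.mul_assoc]

theorem rel_inv {x : U κ F} {γ : U ι F} (h : x.1 * P = P * γ.1) : (x⁻¹).1 * P = P * (γ⁻¹).1 := by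
  rw [U_inv, U_inv, ← Matrix.mul_one (_ * P), ← U_mul_ct γ, ← Matrix.mul_assoc, Matrix.mul_assoc _ P, ← h,
    ← Matrix.mul_assoc, U_ct_mul, Matrix.one_mul]

end

/-- The supports of `a` and `b` are orthogonal. -/
def Orth (a b : U κ F) : Prop := (1 - a.1) * (1 - b.1) = 0

/-- The support of `b` lies in the `-1`-eigenspace of `c`. -/
def Sup (c b : U κ F) : Prop := c.1 * (1 - b.1) = -(1 - b.1)

variable {a b c x : U κ F}

theorem orth_iff : Orth a b ↔ a.1 * (1 - b.1) = 1 - b.1 := by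
  rw [Orth, sub_mul, one_mul, sub_eq_zero, eq_comm]

theorem Orth.symm (h : Orth a b) : Orth b a := by
  have := congrArg (fun X => b.1 * Xᴴ * a.1) h
  simp only [conjTranspose_mul, conjTranspose_sub, conjTranspose_one, conjTranspose_zero, mul_zero, zero_mul] at this
  rw [← mul_assoc, mul_assoc, mul_sub, sub_mul 1, U_mul_ct, U_ct_mul, mul_one, one_mul] at this
  rw [Orth, ← neg_sub, ← neg_sub a.1, neg_mul_neg, this]

theorem Orth.comm (h : Orth a b) : Commute a b := Subtype.ext (by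
  have h' : (1 - b.1) * (1 - a.1) = 0 := h.symm
  have h : (1 - a.1) * (1 - b.1) = 0 := h
  rw [U_mul, U_mul, ← sub_eq_zero, ← sub_self (0 : Matrix κ κ ℍ[F])]
  conv_rhs => rw [← h]; enter [2]; rw [h, ← h']
  noncomm_ring)

theorem one_sub_conj (x a : U κ F) : 1 - (x * a * x⁻¹).1 = x.1 * (1 - a.1) * x.1ᴴ := by
  rw [mul_sub, sub_mul, mul_one, U_mul_ct]; rfl

theorem Orth.conj (h : Orth a b) (x : U κ F) : Orth (x * a * x⁻¹) (x * b * x⁻¹) := by
  rw [Orth, one_sub_conj, one_sub_conj, mul_assoc, ← mul_assoc x.1ᴴ, ← mul_assoc x.1ᴴ, U_ct_mul, one_mul, ← mul_assoc,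
    mul_assoc x.1, show (1 - a.1) * (1 - b.1) = 0 from h, mul_zero, zero_mul]

theorem Orth.of_conj (h : Orth (x * a * x⁻¹) (x * b * x⁻¹)) : Orth a b := by simpa [mul_assoc] using h.conj x⁻¹

/-- The elements with support orthogonal to that of `a`. -/
def orthSub (a : U κ F) : Subgroup (U κ F) where
  carrier := {b | Orth b a}
  one_mem' := by simp [Orth]
  mul_mem' {b c} hb hc := orth_iff.2 (by rw [U_mul, mul_assoc, orth_iff.1 hc, orth_iff.1 hb])
  inv_mem' {b} hb := orth_iff.2 (by rw [← orth_iff.1 hb, ← mul_assoc, U_inv, U_ct_mul, one_mul, orth_iff.1 hb])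

theorem Orth.of_sup (h : Orth a c) (h' : Sup c b) : Orth a b := eq_of_two (by
  rw [smul_zero, ← mul_smul_comm, two_smul, ← sub_neg_eq_add, ← show _ = -(1 - b.1) from h', ← one_sub_mul, ← mul_assoc,
    show (1 - a.1) * (1 - c.1) = 0 from h, zero_mul])

theorem Orth.sup (h : Orth a b) (hb : b * b = 1) : Sup (a * b) b := by
  rw [Sup, U_mul, mul_assoc, mul_sub, ← U_mul, hb, mul_one, U_one, ← neg_sub, mul_neg, orth_iff.1 h]

theorem Orth.eq_one (h : Orth a a) (ha : a * a = 1) : a = 1 := by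
  have := orth_iff.1 h
  rw [mul_sub, ← U_mul, ha, mul_one, U_one, ← neg_sub] at this
  exact Subtype.ext (sub_eq_zero.1 (eq_of_two (by rw [smul_zero, two_smul, ← eq_neg_iff_add_eq_zero]; exact this.symm))).symm

theorem orth_φ {k l : κ} (h : k ≠ l) (u v : L F) : Orth (φ k u) (φ l v) := by
  simp only [Orth, φ_eq, dg_val, ← diagonal_one, diagonal_sub, diagonal_mul_diagonal, ← diagonal_zero]
  congr 1; funext i
  by_cases e : i = k
  · simp [e, h]
  · simp [e]

/-- `d` is the reflection in the column `P`. -/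
def Ref (d : U κ F) (P : Matrix κ Unit ℍ[F]) : Prop := Pᴴ * P = 1 ∧ 1 - d.1 = (2 : F) • (P * Pᴴ)

theorem Ref.conj {d : U κ F} {P : Matrix κ Unit ℍ[F]} (h : Ref d P) (x : U κ F) : Ref (x * d * x⁻¹) (x.1 * P) :=
  ⟨by rw [conjTranspose_mul, Matrix.mul_assoc, ← Matrix.mul_assoc x.1ᴴ, U_ct_mul, Matrix.one_mul, h.1],
    by rw [one_sub_conj, h.2]; simp [Matrix.mul_assoc]⟩

/-- The `k`-th basis column. -/
def bcol (k : κ) : Matrix κ Unit ℍ[F] := of fun i _ => if i = k then 1 else 0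

theorem bcol_bcol (k : κ) : (bcol k : Matrix κ Unit ℍ[F])ᴴ * (bcol k : Matrix κ Unit ℍ[F]) = 1 := by
  ext i j : 1; simp [bcol, mul_apply, one_apply]

theorem τ_bcol (k : κ) (u : L F) : τ (bcol k) (bcol_bcol k) (dg fun _ => u) = φ k u := Subtype.ext (by
  ext i j : 1
  simp only [τ_val, φ_eq, dg_val, bcol, Matrix.mul_apply, Matrix.add_apply, one_apply, diagonal_apply,
    Pi.mulSingle_apply]
  by_cases h : i = k <;> by_cases h' : j = k <;> simp [h, h', eq_comm (a := k)])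

theorem exists_dg_unit (γ : U Unit F) : ∃ c : L F, γ = dg fun _ => c :=
  ⟨⟨γ.1 () (), by simpa [mul_apply] using congrFun (congrFun γ.2.1 ()) (),
    by simpa [mul_apply] using congrFun (congrFun γ.2.2 ()) ()⟩, Subtype.ext (by ext i j : 1; simp [dg_val])⟩

theorem ref_z (k : κ) : Ref (z k : U κ F) (bcol k) := ⟨bcol_bcol k, by
  rw [z, ← τ_bcol, τ_val, sub_add_cancel_left, ← Matrix.neg_mul, ← Matrix.mul_neg, ← Matrix.smul_mul]
  congr 1
  ext i j : 1; simp [mul_apply, dg_val, two_smul, mul_add]⟩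

theorem Ref.rel {d : U κ F} {P : Matrix κ Unit ℍ[F]} (h : Ref d P) (hc : Commute c d) :
    ∃ u : L F, c.1 * P = P * (dg fun _ => u : U Unit F).1 := by
  obtain ⟨γ, e⟩ := exists_rel h.1 (x := c) (eq_of_two (by
    rw [← mul_smul_comm, ← smul_mul_assoc, ← h.2, mul_sub, sub_mul, ← U_mul, hc.eq, mul_one, one_mul, U_mul]))
  obtain ⟨u, rfl⟩ := exists_dg_unit γ
  exact ⟨u, e⟩

theorem Ref.prim {d : U κ F} {P : Matrix κ Unit ℍ[F]} (h : Ref d P) (hc : Commute c d) (h2 : c * c = 1) :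
    Orth c d ∨ Sup c d := by
  obtain ⟨u, e⟩ := h.rel hc
  have := congrArg (Pᴴ * ·) (rel_mul e e)
  simp only [h2, U_one, Matrix.one_mul, ← Matrix.mul_assoc, h.1, ← map_mul] at this
  have h3 : u * u = 1 := Subtype.ext (by simpa [dg_val] using (congrFun (congrFun this ()) ()).symm)
  rw [orth_iff, Sup, h.2, mul_smul_comm, ← Matrix.mul_assoc, e]
  rcases L_sq h3 with rfl | rfl
  · exact .inl (by simp [dg_val])
  · exact .inr (by simp [dg_val, ← diagonal_neg])

end Cfsg.Agent.Classical.Psp
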