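import Cfsg.Agent.Classical.Pron6
import Cfsg.Agent.Classical.Pron4

/-! Overgroups of `Q₈ ≀ T` in `U_κ(ℍ)` in which the block involutions are not fused to swaps: the conjugates of
the block involutions form a class of odd transpositions. -/

set_option autoImplicit false
set_option linter.unusedSectionVars false

namespace Cfsg.Agent.Classical.Psp

open Subgroup Cfsg.Agent.BG Cfsg.Agent.FusE Cfsg.Agent.Syl2 Quaternion Matrix Equiv

variable {F : Type*} [Field F] [Finite F] [NeZero (2 : F)] {κ : Type} [Fintype κ] [DecidableEq κ]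

theorem dg_mem {Y : Subgroup (U κ F)} {f : κ → L F} (h : ∀ k, φ k (f k) ∈ Y) : dg f ∈ Y :=
  pi_mem_of_mulSingle_mem (H := Y.comap dg) f h

theorem dg_neg (f : κ → L F) : -dg f = dg fun k => -f k := Subtype.ext (by
  rw [U_neg, dg_val, dg_val, diagonal_neg]; rfl)

theorem comm_dg {b : U κ F} (p : κ → Prop) [DecidablePred p] (h : ∀ l, ¬ p l → Commute b (z l)) :
    Commute b (dg fun l => if p l then -1 else 1) := by
  have : dg (fun l => if p l then 1 else -1) ∈ C1[b] := dg_mem fun l => by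
    split_ifs with e
    exacts [by simp, mem_cent1.2 (h l e).eq.symm]
  have := (show Commute b _ from (mem_cent1.1 this).symm).neg_right
  rw [dg_neg] at this
  convert this using 3
  split_ifs <;> simp

theorem z_comm (k l : κ) : Commute (z k : U κ F) (z l) := by
  by_cases h : k = l
  exacts [h ▸ Commute.refl _, (orth_φ h _ _).comm]

theorem z_ne_one (k : κ) : (z k : U κ F) ≠ 1 := fun h => by
  simpa [neg_ne_self'] using congrFun (dg_inj.1 (h.trans (map_one dg).symm)) k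

/-- Two columns side by side. -/
def col2 (P Q : Matrix κ Unit ℍ[F]) : Matrix κ (Fin 2) ℍ[F] := of fun k a => ![P k (), Q k ()] a

section
variable {P Q : Matrix κ Unit ℍ[F]} {a a' x : U κ F}

theorem Ref.orth (h : Ref a P) (h' : Ref a' Q) (e : Orth a a') : Pᴴ * Q = 0 := by
  have := congrArg (fun X => Pᴴ * X * Q) e
  simp only [h.2, h'.2, Matrix.mul_smul, Matrix.smul_mul, Matrix.mul_assoc, h'.1, Matrix.mul_one, Matrix.zero_mul,
    Matrix.mul_zero] at this
  rw [← Matrix.mul_assoc Pᴴ P, h.1, Matrix.one_mul] at this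
  exact eq_of_two (eq_of_two (by rw [this]; simp))

theorem col2_col2 (h : Ref a P) (h' : Ref a' Q) (e : Orth a a') : (col2 P Q)ᴴ * col2 P Q = 1 := by
  have k := fun {X Y : Matrix Unit Unit ℍ[F]} (h : X = Y) => congrFun (congrFun h ()) ()
  have h1 := k h.1
  have h2 := k h'.1
  have h3 := k (h.orth h' e)
  have h4 := k (h'.orth h e.symm)
  ext i j : 1
  fin_cases i <;> fin_cases j
  exacts [h1, h3, h4, h2]

theorem col2_rel {u v : L F} (h : x.1 * P = P * (dg fun _ => u : U Unit F).1)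
    (h' : x.1 * Q = Q * (dg fun _ => v : U Unit F).1) : x.1 * col2 P Q = col2 P Q * (dq (u, v)).1 := by
  ext i j : 1
  have h1 := congrFun (congrFun h i) ()
  have h2 := congrFun (congrFun h' i) ()
  fin_cases j
  exacts [by simpa [col2, mul_apply, dg_val] using h1, by simpa [col2, mul_apply, dg_val] using h2]

theorem τ_col2 (hP : (col2 P Q)ᴴ * col2 P Q = 1) (u v : L F) : (τ _ hP (dq (u, v))).1 =
    1 + P * ((dg fun _ => u : U Unit F).1 - 1) * Pᴴ + Q * ((dg fun _ => v : U Unit F).1 - 1) * Qᴴ := by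
  ext i j : 1
  simp [τ_val, col2, mul_apply, dg_val, add_assoc]

theorem Ref.val (h : Ref a P) : P * ((dg fun _ => -1 : U Unit F).1 - 1) * Pᴴ = a.1 - 1 := by
  rw [← neg_sub 1 a.1, h.2, ← dg_neg, show (dg fun _ => 1 : U Unit F) = 1 from map_one dg, U_neg, U_one]
  simp [Matrix.mul_add, Matrix.add_mul, two_smul, sub_eq_add_neg]

theorem τ_col2_zz (h' : Ref a' Q) (hP : (col2 P Q)ᴴ * col2 P Q = 1) : τ _ hP zz = a' := Subtype.ext (by
  rw [τ_col2, h'.val, show (dg fun _ => 1 : U Unit F) = 1 from map_one dg]; simp)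

theorem τ_col2_neg (h : Ref a P) (h' : Ref a' Q) (e : Orth a a') (hP : (col2 P Q)ᴴ * col2 P Q = 1) :
    τ _ hP (-1) = a * a' := Subtype.ext (by
  rw [← map_one dq, Prod.one_eq_mk, neg_dq, τ_col2, h.val, h'.val, U_mul, ← sub_eq_zero, ← neg_zero,
    ← show (1 - a.1) * (1 - a'.1) = 0 from e]
  noncomm_ring)

theorem Ref.fix (h : Ref a P) (e : Orth x a) : x.1 * P = P * (dg fun _ => 1 : U Unit F).1 := eq_of_two (by
  have := congrArg (· * P) (orth_iff.1 e)
  simpa [h.2, Matrix.mul_assoc, h.1, dg_val] using this)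

theorem φ_bcol (k : κ) (u : L F) :
    (φ k u).1 * (bcol k : Matrix κ Unit ℍ[F]) = (bcol k : Matrix κ Unit ℍ[F]) * (dg fun _ => u : U Unit F).1 := by
  rw [← τ_bcol, τ_mul_P]

end

/-- Conjugates of the block involutions. -/
def D (X : Subgroup (U κ F)) (d : U κ F) : Prop := ∃ x ∈ X, ∃ k, d = x * z k * x⁻¹

/-- The block involutions are weakly closed. -/
structure CA (X : Subgroup (U κ F)) : Prop where
  q : ∀ k, ∀ u ∈ Q8 F, φ k u ∈ X
  fr : ∀ T ≤ X, IsPGroup 2 T → ∃ x ∈ X, ∀ d ∈ T, D X d → ∃ k, d = x * z k * x⁻¹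

variable {X : Subgroup (U κ F)} {a b c d d' x : U κ F}

theorem D.z (k : κ) : D X (z k) := ⟨1, one_mem _, k, by simp⟩

theorem D.conj (h : D X d) (hx : x ∈ X) : D X (x * d * x⁻¹) := by
  obtain ⟨y, hy, k, rfl⟩ := h
  exact ⟨_, mul_mem hx hy, k, by group⟩

theorem D.sq (h : D X d) : d * d = 1 := by
  obtain ⟨y, -, k, rfl⟩ := h
  rw [conj_mul, z_z]; simp

theorem D.inv (h : D X d) : d⁻¹ = d := inv_eq_of_mul_eq_one_right h.sq

theorem D.ne_one (h : D X d) : d ≠ 1 := by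
  obtain ⟨y, -, k, rfl⟩ := h
  simpa [mul_inv_eq_one] using z_ne_one k

theorem D.ref (h : D X d) : ∃ P, Ref d P := by
  obtain ⟨y, -, k, rfl⟩ := h
  exact ⟨_, (ref_z k).conj y⟩

theorem dih {G : Type*} [Group G] [Finite G] {x y : G} (hx : x * x = 1) (hy : y * y = 1) :
    ∃ g ∈ zpowers (x * y), ∃ n e, Odd n ∧ ((x * y) ^ n) ^ 2 ^ e = 1 ∧ x * (g * y * g⁻¹) = (x * y) ^ n := by
  obtain ⟨e, n, ⟨k, rfl⟩, h⟩ := Nat.exists_eq_two_pow_mul_odd (orderOf_pos (x * y)).ne'
  refine ⟨((x * y) ^ k)⁻¹, inv_mem (npow_mem_zpowers _ _), _, e, ⟨k, rfl⟩,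
    by rw [← pow_mul, mul_comm _ (2 ^ e), ← h, pow_orderOf_eq_one], ?_⟩
  have := Invol.conj_pow_of_inverts (Invol.conj_prod_left hx hy) k
  rw [← this, inv_eq_of_mul_eq_one_right hx, two_mul, add_assoc, pow_add, add_comm k, pow_add, pow_one,
    _root_.mul_inv_rev, _root_.mul_inv_rev, inv_eq_of_mul_eq_one_right hx, ← this, inv_eq_of_mul_eq_one_right hx]
  simp only [mul_assoc, Invol.mul_self_cancel hx, hx, mul_one]

variable (h : CA X)
include h

theorem CA.mem (hd : D X d) : d ∈ X := by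
  obtain ⟨y, hy, k, rfl⟩ := hd
  exact mul_mem (mul_mem hy (h.q k _ (neg_mem_Q8 (one_mem _)))) (inv_mem hy)

theorem CA.frame {s : Set (U κ F)} (hs : ∀ d ∈ s, D X d) (hc : ∀ d ∈ s, ∀ d' ∈ s, Commute d d') :
    ∃ x ∈ X, ∀ d ∈ s, ∃ k, d = x * z k * x⁻¹ := by
  have h1 : closure s ≤ C[closure s] := by
    rw [centralizer_closure, closure_le]; exact fun d hd d' hd' => hc d' hd' d hd
  obtain ⟨x, hx, e⟩ := h.fr (closure s) ((closure_le _).2 fun d hd => h.mem (hs d hd)) fun ⟨g, hg⟩ =>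
    ⟨1, Subtype.ext (by
      change g ^ 2 = 1
      induction hg using closure_induction with
      | mem d hd => rw [sq, (hs d hd).sq]
      | one => simp
      | mul a b ha hb e e' => rw [Commute.mul_pow (h1 hb a ha), e, e', one_mul]
      | inv a _ e => rw [inv_pow, e, inv_one])⟩
  exact ⟨x, hx, fun d hd => e d (subset_closure hd) (hs d hd)⟩

theorem CA.two (ha : D X a) (hb : D X b) {k : ℕ} (e : (a * b) ^ 2 ^ k = 1) : a = b ∨ Orth a b := by
  obtain ⟨x, -, hx⟩ := h.fr (zpowers a ⊔ zpowers (a * b))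
    (sup_le (zpowers_le.2 (h.mem ha)) (zpowers_le.2 (mul_mem (h.mem ha) (h.mem hb))))
    ((Pron.isPGroup_zpowers' (k := 1) (by rw [pow_one, sq, ha.sq])).to_sup_of_normal_right' (Pron.isPGroup_zpowers' e)
      (zpowers_le.2 (mem_norm_of_cj_le (by
        rw [cj_zpowers, Invol.conj_prod_left ha.sq hb.sq, zpowers_inv]))))
  obtain ⟨i, rfl⟩ := hx a (mem_sup_left (mem_zpowers a)) ha
  obtain ⟨j, rfl⟩ := hx b (by
    have := mul_mem (mem_sup_left (T := zpowers (x * z i * x⁻¹ * b)) (mem_zpowers (x * z i * x⁻¹)))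
      (mem_sup_right (mem_zpowers (x * z i * x⁻¹ * b)))
    rwa [← mul_assoc, ha.sq, one_mul] at this) hb
  by_cases e : i = j
  exacts [.inl (by rw [e]), .inr ((orth_φ e _ _).conj x)]

theorem CA.two' (ha : D X a) (hb : D X b) {k : ℕ} (e : (a * b) ^ 2 ^ k = 1) : Commute a b :=
  (h.two ha hb e).elim (fun e => e ▸ Commute.refl a) Orth.comm

theorem CA.of_comm (ha : D X a) (hb : D X b) (e : Commute a b) : a = b ∨ Orth a b :=
  h.two ha hb (k := 1) (by rw [pow_one, e.mul_pow, sq, sq, ha.sq, hb.sq, one_mul])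

theorem CA.fmax (hd : D X d) (hc : ∀ k, Commute d (z k)) : ∃ k, d = z k := by
  by_contra! e
  have : dg (fun _ => -1) ∈ orthSub d := dg_mem fun k => ((h.of_comm hd (D.z k) (hc k)).resolve_left (e k)).symm
  have := orth_iff.1 this
  rw [← dg_neg, show (dg fun _ => 1 : U κ F) = 1 from map_one dg, U_neg, U_one, neg_one_mul] at this
  exact hd.ne_one (Subtype.ext (sub_eq_zero.1 (eq_of_two (by
    rw [smul_zero, two_smul, ← eq_neg_iff_add_eq_zero]; exact this.symm))).symm)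

theorem CA.zl {P : Matrix κ (Fin 2) ℍ[F]} (hP : Pᴴ * P = 1) (ha : D X (τ P hP zz))
    (hq : ∀ γ ∈ [dq (qi, 1), dq (qj, 1), dq (1, qi), dq (1, qj)], ∃ x ∈ X, x.1 * P = P * γ.1) (hb : D X b)
    (hc : Commute b (τ P hP (-1))) : Commute b (τ P hP zz) := by
  let C : Subgroup (HH F) :=
    { carrier := {γ | ∃ x ∈ X, x.1 * P = P * γ.1}
      one_mem' := ⟨1, one_mem _, by simp⟩
      mul_mem' := fun ⟨_, h1, h2⟩ ⟨_, h3, h4⟩ => ⟨_, mul_mem h1 h3, rel_mul h2 h4⟩
      inv_mem' := fun ⟨_, h1, h2⟩ => ⟨_, inv_mem h1, rel_inv h2⟩ }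
  have key : ∀ γ : HH F, γ * zz * γ⁻¹ ∈ CG zz → (τ P hP (γ * zz * γ⁻¹) * τ P hP zz) ^ 2 ^ 2 = 1 := fun γ e => by
    have h2 : γ * zz * γ⁻¹ * (γ * zz * γ⁻¹) = 1 := by rw [conj_mul, zz_zz]; simp
    generalize γ * zz * γ⁻¹ = δ at e h2
    rw [← map_mul, ← map_pow, show 2 ^ 2 = 2 * 2 from rfl, pow_mul, sq (δ * zz), mul_assoc, ← mul_assoc zz]
    rcases CG_symm e with e | e <;> simp [e, mul_assoc, zz_zz, h2]
  have := le_CG_zz (C := C) (fun p hp q hq' => by
      rw [show dq (p, q) = dq (p, 1) * dq (1, q) by simp [dq_mul]]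
      exact mul_mem (Q8_le (X := C.comap (dq.comp (MonoidHom.inl _ _))) (hq _ (by simp)) (hq _ (by simp)) hp)
        (Q8_le (X := C.comap (dq.comp (MonoidHom.inr _ _))) (hq _ (by simp)) (hq _ (by simp)) hq'))
    fun γ ⟨x, hx, e⟩ h1 => by
      have h2 := τ_inj hP (by
        simpa only [← map_mul] using (h.two' (τ_conj hP e zz ▸ ha.conj hx) ha (key γ h1)).eq)
      obtain ⟨u, v, h3⟩ := diag_of_comm h2
      have h4 : dq (u, v) * dq (u, v) = 1 := by rw [← h3, conj_mul, zz_zz]; simp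
      rw [dq_mul, ← map_one dq, Prod.one_eq_mk, dq_inj] at h4
      have h5 : ¬ (dq (u, v) = 1 ∨ dq (u, v) = -1) := by
        rw [← h3, mul_inv_eq_iff_eq_mul, mul_inv_eq_iff_eq_mul, one_mul, neg_one_mul, ← mul_neg_one γ, mul_eq_left,
          mul_right_inj]
        exact zz_ne
      rw [mem_CG', h3]
      rcases L_sq h4.1 with rfl | rfl <;> rcases L_sq h4.2 with rfl | rfl <;>
        simp [neg_dq, ← map_one dq, Prod.one_eq_mk] at h5 ⊢
  obtain ⟨γ, e⟩ := exists_rel hP (x := b) (eq_of_two (by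
    have h1 : 1 - (τ P hP (-1)).1 = (2 : F) • (P * Pᴴ) := by
      rw [τ_val, sub_add_cancel_left, U_neg, U_one, Matrix.mul_sub, Matrix.sub_mul]; simp [two_smul]
    rw [← mul_smul_comm, ← smul_mul_assoc, ← h1, mul_sub, sub_mul, ← U_mul, hc.eq, mul_one, one_mul, U_mul]))
  have h1 := key γ (by rcases mem_CG'.1 (this ⟨b, h.mem hb, e⟩) with e | e <;> simp [e, mem_CG])
  refine h.two' hb ha (k := 3) ?_
  rw [pow_succ', pow_mul, ← h1, ← τ_conj hP e, hb.inv, sq, mul_assoc (b * _)]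

theorem CA.zl' {P Q : Matrix κ Unit ℍ[F]} {a' : U κ F} (hP : Ref a P) (hQ : Ref a' Q) (e : Orth a a') (ha : D X a')
    (h1 : ∀ u, u = qi ∨ u = qj → ∃ x ∈ X, x.1 * P = P * (dg fun _ => u : U Unit F).1 ∧ Orth x a')
    (h2 : ∀ u, u = qi ∨ u = qj → ∃ x ∈ X, x.1 * Q = Q * (dg fun _ => u : U Unit F).1 ∧ Orth x a)
    (hb : D X b) (hc : Commute b (a * a')) : Commute b a' := by
  have h3 := col2_col2 hP hQ e
  rw [← τ_col2_zz hQ h3] at ha ⊢
  refine h.zl h3 ha ?_ hb (τ_col2_neg hP hQ e h3 ▸ hc)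
  simp only [List.mem_cons, List.not_mem_nil, or_false]
  rintro _ (rfl | rfl | rfl | rfl)
  · obtain ⟨x, hx, a, b⟩ := h1 qi (.inl rfl); exact ⟨x, hx, col2_rel a (hQ.fix b)⟩
  · obtain ⟨x, hx, a, b⟩ := h1 qj (.inr rfl); exact ⟨x, hx, col2_rel a (hQ.fix b)⟩
  · obtain ⟨x, hx, a, b⟩ := h2 qi (.inl rfl); exact ⟨x, hx, col2_rel (hP.fix b) a⟩
  · obtain ⟨x, hx, a, b⟩ := h2 qj (.inr rfl); exact ⟨x, hx, col2_rel (hP.fix b) a⟩

theorem CA.qij (k : κ) {u : L F} (hu : u = qi ∨ u = qj) : φ k u ∈ X :=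
  h.q k u (by rcases hu with rfl | rfl; exacts [qi_mem, qj_mem])

theorem CA.pair_z {i j : κ} (e : i ≠ j) (ha : D X a) (hc : Commute a (z i * z j)) : Commute a (z j) :=
  h.zl' (ref_z i) (ref_z j) (orth_φ e _ _) (D.z j) (fun u hu => ⟨_, h.qij i hu, φ_bcol i u, orth_φ e _ _⟩)
    (fun u hu => ⟨_, h.qij j hu, φ_bcol j u, orth_φ e.symm _ _⟩) ha hc

theorem CA.comm_of_mul (hd : D X d) (hd' : D X d') (hn : d' ≠ d) (hc : Commute d' d) (ha : D X a)
    (e : Commute a (d' * d)) : Commute a d := by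
  obtain ⟨x, hx, h1⟩ := h.frame (s := {d, d'}) (by simp [hd, hd']) (by simp [hc, hc.symm])
  obtain ⟨j, rfl⟩ := h1 d (by simp)
  obtain ⟨i, rfl⟩ := h1 d' (by simp)
  have := (h.pair_z (i := i) (j := j) (fun e => hn (by rw [e])) (ha.conj (inv_mem hx))
    (by simpa [mul_assoc] using e.map (MulAut.conj x⁻¹))).map (MulAut.conj x)
  simpa [mul_assoc] using this

theorem CA.mem_of_two (hb : D X b) (i j : κ) (hc : ∀ k, k ≠ i → k ≠ j → Commute b (z k)) : ∃ k, b = z k := by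
  have key : ∀ i j, (∀ k, k ≠ i → k ≠ j → Commute b (z k)) → Commute b (z j) := fun i j hc => by
    have := comm_dg (b := b) (fun l => l = i ∨ l = j) fun l e => hc l (not_or.1 e).1 (not_or.1 e).2
    by_cases e : i = j
    · convert this using 1
      exact congrArg dg (funext fun l => by simp [e, Pi.mulSingle_apply])
    · refine h.pair_z e hb ?_
      convert this using 1
      refine (map_mul dg _ _).symm.trans (congrArg dg (funext fun l => ?_))
      by_cases h1 : l = i <;> by_cases h2 : l = j <;> simp_all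
  refine h.fmax hb fun k => ?_
  by_cases h1 : k = i
  · exact h1 ▸ key j k fun l a b => hc l (h1 ▸ b) a
  by_cases h2 : k = j
  exacts [h2 ▸ key i k (h2 ▸ hc), hc k h1 h2]

theorem CA.odd (ha : D X a) (hb : D X b) (hn : ¬ Commute a b) : Odd (orderOf (a * b)) := by
  obtain ⟨g, hg, n, e, h1, h2, h3⟩ := dih ha.sq hb.sq
  have hb' := hb.conj (zpowers_le.2 (mul_mem (h.mem ha) (h.mem hb)) hg)
  by_cases h4 : g * b * g⁻¹ = a
  · exact h1.of_dvd_nat (orderOf_dvd_of_pow_eq_one (by rw [← h3, h4, ha.sq]))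
  have h5 := h.two' ha hb' (h3 ▸ h2)
  refine (hn (h.comm_of_mul ha hb' h4 h5.symm hb ?_).symm).elim
  rw [← h5.eq, h3]
  refine (Invol.commute_of_inverts_of_mul_self (Invol.conj_pow_of_inverts (Invol.conj_prod_right ha.sq hb.sq) n) ?_).symm
  rw [← h3, h5.symm.mul_mul_mul_comm, ha.sq, hb'.sq, one_mul]

end Cfsg.Agent.Classical.Psp
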