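import Cfsg.Agent.Classical.Pron7

/-! Reflections interchanging two blocks; if the block involutions are weakly closed in an overgroup `X` of
`Q₈ ≀ T`, then `X` permutes them (`CA.all`). -/

set_option autoImplicit false
set_option linter.unusedSectionVars false

namespace Cfsg.Agent.Classical.Psp

open Subgroup Cfsg.Agent.BG Cfsg.Agent.FusE Cfsg.Agent.Syl2 Quaternion Matrix Equiv

variable {F : Type*} [Field F] [Finite F] [NeZero (2 : F)] {κ : Type} [Fintype κ] [DecidableEq κ]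

/-- `y` is a reflection interchanging the blocks `i` and `j`. -/
structure SW (X : Subgroup (U κ F)) (y : U κ F) (i j : κ) : Prop where
  mem : y ∈ X
  sq : y * y = 1
  ne : i ≠ j
  cj : y * z i * y⁻¹ = z j
  sup : Sup (z i * z j) y

variable {X : Subgroup (U κ F)} {a a' b c d d' x y : U κ F} {i j k : κ}

theorem Sup.conj (h : Sup c b) (x : U κ F) : Sup (x * c * x⁻¹) (x * b * x⁻¹) := by
  rw [Sup, one_sub_conj, U_mul, U_mul, U_inv, mul_assoc, ← mul_assoc x.1ᴴ, ← mul_assoc x.1ᴴ, U_ct_mul, one_mul,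
    ← mul_assoc, mul_assoc x.1, show c.1 * (1 - b.1) = -(1 - b.1) from h, mul_neg, neg_mul]

theorem Orth.mul (h : Orth a c) (h' : Orth b c) : Orth (a * b) c := (orthSub c).mul_mem h h'

theorem sup_φ (k : κ) (u : L F) : Sup (z k) (φ k u) := by
  simp only [Sup, φ_eq, dg_val, ← diagonal_one, diagonal_sub, diagonal_mul_diagonal, diagonal_neg]
  congr 1; funext i
  by_cases e : i = k <;> simp [e]

theorem SW.inv (h : SW X y i j) : y⁻¹ = y := inv_eq_of_mul_eq_one_right h.sq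

theorem SW.symm (h : SW X y i j) : SW X y j i :=
  ⟨h.mem, h.sq, h.ne.symm, by rw [← h.cj, h.inv]; simp [mul_assoc, h.sq, Invol.mul_self_cancel h.sq],
    (z_comm (F := F) i j).eq ▸ h.sup⟩

theorem SW.orth (h : SW X y i j) (h1 : k ≠ i) (h2 : k ≠ j) (u : L F) : Orth (φ k u) y :=
  ((orth_φ h1.symm _ _).mul (orth_φ h2.symm _ _)).symm.of_sup h.sup

theorem SW.not_comm (h : SW X y i j) : ¬ Commute y (z i) := fun e =>
  h.ne (z_inj.1 (by rw [← h.cj, e.eq, mul_inv_cancel_right]))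

theorem SW.conj (h : SW X y i j) (hx : x ∈ X) {i' j' : κ} (h1 : x * z i * x⁻¹ = z i') (h2 : x * z j * x⁻¹ = z j') :
    SW X (x * y * x⁻¹) i' j' :=
  ⟨mul_mem (mul_mem hx h.mem) (inv_mem hx), by rw [conj_mul, h.sq]; simp,
    fun e => h.ne (z_inj.1 ((MulAut.conj x).injective (h1.trans (e ▸ h2.symm)))),
    by rw [← h1, ← h2, ← h.cj]; group, by rw [← h1, ← h2, conj_mul]; exact h.sup.conj x⟩

/-- The column of a block swap. -/
def sc (y : U κ F) (i : κ) : Matrix κ Unit ℍ[F] :=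
  (1 - y.1) * (bcol i : Matrix κ Unit ℍ[F]) * (of fun _ _ => ee qi : Matrix Unit Unit ℍ[F])

theorem SW.ref' (h : SW X y i j) : Ref (z j) (y.1 * (bcol i : Matrix κ Unit ℍ[F])) := h.cj ▸ (ref_z i).conj y

theorem SW.ref (h : SW X y i j) : Ref y (sc y i) := by
  have := NeZero.ne (2 : F)
  have h1 : y.1ᴴ = y.1 := congrArg Subtype.val h.inv
  have h2 : y.1 * y.1 = 1 := congrArg Subtype.val h.sq
  have h3 := (ref_z i).orth h.ref' (orth_φ h.ne _ _)
  have h4 : (1 - y.1) * (1 - y.1) = (2 : F) • (1 - y.1) := by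
    rw [mul_sub, sub_mul _ _ y.1, h2, two_smul]; noncomm_ring
  set n : Matrix Unit Unit ℍ[F] := of fun _ _ => ee qi
  have h5 : (2 : F) • (nᴴ * n) = 1 := by
    ext <;> simp [n, mul_apply, ee]; field_simp; norm_num
  have h6 : (2 : F) • (n * nᴴ) = 1 := by
    ext <;> simp [n, mul_apply, ee]; field_simp; norm_num
  refine ⟨?_, eq_of_two ?_⟩
  · simp only [sc, conjTranspose_mul, conjTranspose_sub, conjTranspose_one, h1, Matrix.mul_assoc]
    rw [← Matrix.mul_assoc (1 - y.1), h4, ← Matrix.mul_assoc _ (bcol i), ← Matrix.mul_assoc (bcol i)ᴴ, Matrix.smul_mul,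
      Matrix.sub_mul, Matrix.mul_smul, Matrix.mul_sub, h3, Matrix.one_mul, bcol_bcol, sub_zero, Matrix.smul_mul,
      Matrix.one_mul, Matrix.mul_smul, h5]
  · have h7 : (z j).1 * (1 - y.1) = -((z i).1 * (1 - y.1)) := by
      rw [← mul_neg, ← show _ = -(1 - y.1) from h.sup, ← mul_assoc, ← U_mul, ← mul_assoc, z_z, one_mul]
    have h8 : y.1 * (z i).1 = (z j).1 * y.1 := congrArg Subtype.val (mul_inv_eq_iff_eq_mul.1 h.cj)
    have h9 : (1 - y.1) * (z i).1 * (1 - y.1) = 0 := by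
      rw [sub_mul, sub_mul, h8, mul_assoc _ y.1, mul_sub y.1, h2, mul_one, ← neg_sub 1 y.1, mul_neg, h7]; simp
    have h0 : (2 : F) • (sc y i * (sc y i)ᴴ) =
        (1 - y.1) * ((bcol i : Matrix κ Unit ℍ[F]) * (bcol i : Matrix κ Unit ℍ[F])ᴴ * (1 - y.1)) := by
      simp only [sc, conjTranspose_mul, conjTranspose_sub, conjTranspose_one, h1, Matrix.mul_assoc]
      rw [← Matrix.mul_assoc n, ← Matrix.mul_smul, ← Matrix.mul_smul, ← Matrix.smul_mul _ (n * nᴴ), h6, Matrix.one_mul]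
    rw [h0, ← Matrix.mul_smul, ← Matrix.smul_mul, ← (ref_z i).2, sub_mul 1 (z i).1, one_mul,
      mul_sub _ _ ((z i).1 * _), ← mul_assoc, h9, h4, sub_zero]

theorem SW.rel (h : SW X y i j) {u : L F} (hu : u = qi ∨ u = qj) :
    ∃ c ∈ Q8 F, (φ i c * (y * φ i c * y⁻¹)).1 * sc y i = sc y i * (dg fun _ => u : U Unit F).1 := by
  have key : ∀ c : L F, (φ i c * (y * φ i c * y⁻¹)).1 * ((1 - y.1) * (bcol i : Matrix κ Unit ℍ[F])) =
      (1 - y.1) * (bcol i : Matrix κ Unit ℍ[F]) * (dg fun _ => c : U Unit F).1 := fun c => by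
    have h1 := h.ref'.fix (orth_φ h.ne c _)
    have h2 := (ref_z i).fix (h.symm.cj ▸ (orth_φ h.ne c (-1)).conj y)
    rw [show (dg fun _ => 1 : U Unit F) = 1 from map_one dg, U_one, Matrix.mul_one] at h1 h2
    rw [Matrix.sub_mul, Matrix.mul_sub, Matrix.sub_mul, Matrix.one_mul, U_mul, Matrix.mul_assoc, h2, φ_bcol,
      Matrix.mul_assoc, ← Matrix.mul_assoc _ y.1, ← U_mul, inv_mul_cancel_right, U_mul, Matrix.mul_assoc y.1, φ_bcol,
      ← Matrix.mul_assoc y.1, ← Matrix.mul_assoc, h1]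
  rcases hu with rfl | rfl
  · refine ⟨qi, qi_mem, ?_⟩
    rw [sc, ← Matrix.mul_assoc, key, Matrix.mul_assoc, Matrix.mul_assoc _ _ (dg _).1]
    congr 1; ext <;> simp [dg_val, ee]
  · refine ⟨qk, qk_mem, ?_⟩
    rw [sc, ← Matrix.mul_assoc, key, Matrix.mul_assoc, Matrix.mul_assoc _ _ (dg _).1]
    congr 1; ext <;> simp [dg_val, ee]

/-- The centraliser of the block involutions outside `I`. -/
def YI (F : Type*) [Field F] [Finite F] [NeZero (2 : F)] (I : Finset κ) : Subgroup (U κ F) := ⨅ k ∉ I, C1[z k]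

theorem mem_YI {I : Finset κ} : x ∈ YI F I ↔ ∀ k ∉ I, Commute x (z k) := by
  simp [YI, mem_iInf, mem_cent1, commute_iff_eq]

theorem z_mem_YI (I : Finset κ) (k : κ) : z k ∈ YI F I := mem_YI.2 fun l _ => z_comm k l

theorem z_three (h : i ≠ j) (h1 : k ≠ i) (h2 : k ≠ j) :
    (z j * (z i * z k) : U κ F) = dg fun l => if l = i ∨ l = j ∨ l = k then -1 else 1 := by
  change dg (Pi.mulSingle j (-1)) * (dg (Pi.mulSingle i (-1)) * dg (Pi.mulSingle k (-1))) = _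
  rw [← map_mul, ← map_mul]
  refine congrArg dg (funext fun l => ?_)
  by_cases h1 : l = i <;> by_cases h2 : l = j <;> by_cases h3 : l = k <;> simp_all

variable (h : CA X)
include h

theorem CA.p3 (hy : SW X y i j) (h1 : k ≠ i) (h2 : k ≠ j) (hb : D X b) (hc : Commute b (y * z k)) :
    Commute b (z k) := by
  have h3 := (hy.orth h1 h2 (-1)).symm
  refine h.zl' hy.ref (ref_z k) h3 (D.z k) (fun u hu => ?_)
    (fun u hu => ⟨_, h.qij k hu, φ_bcol k u, hy.orth h1 h2 u⟩) hb hc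
  obtain ⟨c, h4, e⟩ := hy.rel hu
  have h5 := orth_φ h1.symm c (-1)
  exact ⟨_, mul_mem (h.q i c h4) (mul_mem (mul_mem hy.mem (h.q i c h4)) (inv_mem hy.mem)), e,
    h5.mul ((h3.mul h5).mul (hy.inv.symm ▸ h3))⟩

theorem CA.exists_d (ha : D X a) (hb : D X b) (hn : ¬ Commute a b) :
    ∃ d, D X d ∧ d * a * d⁻¹ = b ∧ ∀ Y : Subgroup (U κ F), a ∈ Y → b ∈ Y → d ∈ Y := by
  obtain ⟨k, j, h1, h2⟩ := Invol.exists_invol_conj_of_odd ha.sq hb.sq (h.odd ha hb hn)
  exact ⟨_, h2 ▸ ha.conj (zpow_mem (mul_mem (h.mem ha) (h.mem hb)) j), h1,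
    fun Y h3 h4 => mul_mem h3 (zpow_mem (mul_mem h3 h4) k)⟩

theorem CA.two_eq (ha : D X a) (ho : Orth a' a) (hd : D X d) (hd' : D X d') (hn : d' ≠ d) (hc : Commute d' d)
    (e : a' * a = d' * d) : a = d ∨ a = d' := by
  have h1 : Commute a (d' * d) := e ▸ ho.comm.symm.mul_right (Commute.refl a)
  by_contra! h2
  have h3 := (h.of_comm ha hd (h.comm_of_mul hd hd' hn hc ha h1)).resolve_left h2.1
  have h4 := (h.of_comm ha hd' (h.comm_of_mul hd' hd hn.symm hc.symm ha (hc.eq ▸ h1))).resolve_left h2.2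
  have h5 : a'⁻¹ * (d' * d) ∈ orthSub a := mul_mem (inv_mem ho) (h4.symm.mul h3.symm)
  rw [← e, inv_mul_cancel_left] at h5
  exact ha.ne_one (Orth.eq_one h5 ha.sq)

theorem CA.alpha (hij : i ≠ j) (hd : D X d) (hd' : D X d') (hc : Commute d' d)
    (e : d' * d * z i * (d' * d)⁻¹ = z j) : Commute d (z i) := by
  have hn : d' ≠ d := fun e' => hij (z_inj.1 (by rwa [e', hd.sq, one_mul, inv_one, mul_one] at e))
  have h1 : d' * d * (d' * d) = 1 := by rw [hc.symm.mul_mul_mul_comm, hd.sq, hd'.sq, one_mul]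
  have h0 := mul_mem (h.mem hd') (h.mem hd)
  obtain ⟨w, he⟩ : ∃ w, d' * d = w := ⟨_, rfl⟩
  rw [he] at e h0 h1
  have h2 := (sup_φ i (qi : L F)).conj w
  rw [e] at h2
  have h2 := ((orth_φ hij qi _).of_sup h2).comm
  have h3 : φ i (qi : L F) * φ i qi = z i := by rw [← map_mul, show (qi : L F) * qi = -1 from L_ext_iff.2 (by simp)]
  have hu := h.q i _ qi_mem
  generalize φ i (qi : L F) = u at h2 h3 hu
  obtain ⟨s, h4, h5, h6⟩ : ∃ s ∈ X, s * w = w * s ∧ s * s = z j * z i := ⟨u * (w * u * w⁻¹),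
    mul_mem hu (mul_mem (mul_mem h0 hu) (inv_mem h0)), by
      conv_rhs => rw [h2.eq]
      simp only [mul_assoc, inv_eq_of_mul_eq_one_right h1, h1, Invol.mul_self_cancel h1, mul_one],
    by rw [h2.symm.mul_mul_mul_comm, conj_mul, h3, e, (z_comm i j).eq]⟩
  have h7 : s * d' * s⁻¹ * (s * d * s⁻¹) = d' * d := by rw [conj_mul, he, h5, mul_inv_cancel_right]
  refine h.pair_z hij.symm hd ?_
  rw [← h6]
  refine Commute.symm (mul_inv_eq_iff_eq_mul.1 ?_)
  rw [show s * s * d * (s * s)⁻¹ = s * (s * d * s⁻¹) * s⁻¹ by group]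
  rcases h.two_eq (hd.conj h4) (((h.of_comm hd' hd hc).resolve_left hn).conj s) hd hd' hn hc h7 with h8 | h8
  · rw [h8, h8]
  · rwa [h8, hc.eq, mul_left_inj, ← h8] at h7

theorem CA.all (hs : ∀ i j : κ, i ≠ j → ∃ l y, SW X y i l) (I : Finset κ) :
    ∀ b, D X b → b ∈ YI F I → ∃ k, b = z k := by
  induction I using Finset.strongInduction with | H I ih => ?_
  have T : ∀ {d}, D X d → d ∈ YI F I → (∀ k, d ≠ z k) → ∀ l ∈ I, ¬ Commute d (z l) := fun hd h1 h2 l hl e =>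
    (ih _ (Finset.erase_ssubset hl) _ hd (mem_YI.2 fun k hk => by
      by_cases e' : k = l
      exacts [e' ▸ e, mem_YI.1 h1 k fun h3 => hk (Finset.mem_erase.2 ⟨e', h3⟩)])).elim h2
  have H : ∀ {b}, D X b → b ∈ YI F I → (∀ k, b ≠ z k) → ∀ k ∈ I, ∀ l ∈ I, k ≠ l → ∃ g ∈ X, g ∈ YI F I ∧
      g * z k * g⁻¹ = z l ∧ (∀ Z : Subgroup (U κ F), z k ∈ Z → z l ∈ Z → b ∈ Z → g ∈ Z) ∧
      (∀ m, ∃ m', g * z m * g⁻¹ = z m') ∧ ∀ m ∈ I, ¬ Commute (g * g) (z m) := fun {b} hb h1 h2 k hk l hl hkl => by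
    obtain ⟨d, hd, e, h3⟩ := h.exists_d (D.z k) hb fun e => T hb h1 h2 k hk e.symm
    obtain ⟨d', hd', e', h4⟩ := h.exists_d (D.z l) hb fun e => T hb h1 h2 l hl e.symm
    have h5 := h3 _ (z_mem_YI I k) h1
    have h6 := mul_mem (h4 _ (z_mem_YI I l) h1) h5
    have h7 : d' * d * z k * (d' * d)⁻¹ = z l := by
      rw [show d' * d * z k * (d' * d)⁻¹ = d' * (d * z k * d⁻¹) * d'⁻¹ by group, e, ← e', hd'.inv]
      simp [mul_assoc, hd'.sq, Invol.mul_self_cancel hd'.sq]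
    have h8 := T hd h5 fun m e'' => h2 k (by rw [← e, e'', (z_comm m k).eq, mul_inv_cancel_right])
    have h9 : ¬ Commute d' d := fun e'' => h8 k hk (h.alpha hkl hd hd' e'' h7)
    have h0 := mul_mem (h.mem hd') (h.mem hd)
    refine ⟨_, h0, h6, h7, fun Z a b c => mul_mem (h4 Z b c) (h3 Z a c), fun m => ?_, fun m hm e'' => h9 ?_⟩
    · by_contra! e''
      exact T ((D.z m).conj h0) (mul_mem (mul_mem h6 (z_mem_YI I m)) (inv_mem h6)) e'' l hl
        (h7 ▸ (z_comm m k).map (MulAut.conj (d' * d)))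
    have k1 : d' * d ∈ C1[z m] := pron_mem_of_pow (Nat.coprime_two_left.2 (h.odd hd' hd h9))
      (by rw [sq]; exact mem_cent1.2 e'') (by simp)
    have k2 : d * z m ∈ C1[d' * d] := pron_mem_of_pow (Nat.coprime_two_left.2 (h.odd hd (D.z m) (h8 m hm))) (by
      have k3 : d * z m * d ∈ C1[d' * d] := mem_cent1.2 (by
        have := (show Commute _ _ from mem_cent1.1 k1).inv_left.map (MulAut.conj d)
        simpa [hd.inv, hd'.inv, mul_assoc, hd.sq, Invol.mul_self_cancel hd.sq] using this.eq.symm)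
      rw [sq, ← mul_assoc]; exact mul_mem k3 (mem_cent1_comm.1 k1)) (by simp)
    have k3 := mem_cent1.1 ((mul_mem_cancel_right (mem_cent1_comm.1 k1)).1 k2)
    rw [← mul_assoc, mul_left_inj] at k3
    exact k3.symm
  have R : ∀ {b}, D X b → b ∈ YI F I → (∀ k, b ≠ z k) → ∀ i j, ∃ k ∈ I, k ≠ i ∧ k ≠ j := fun hb h1 h2 i j => by
    by_contra! e
    exact (h.mem_of_two hb i j fun k a b => mem_YI.1 h1 k fun c => b (e k c a)).elim h2
  have C1 : ∀ {b y i j}, D X b → b ∈ YI F I → (∀ k, b ≠ z k) → SW X y i j → i ∈ I → j ∈ I → ¬ Commute b y :=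
    fun {b y i j} hb h1 h2 hy hi hj hc => by
    obtain ⟨k, hk, k1, k2⟩ := R hb h1 h2 i j
    by_cases e : ∃ l ∈ I, l ≠ i ∧ l ≠ j ∧ l ≠ k
    · obtain ⟨l, hl, l1, l2, l3⟩ := e
      obtain ⟨g, -, -, -, h3, h4, h5⟩ := H hb h1 h2 l hl k hk l3
      have h6 : Commute g y := mem_cent1.1 (h3 C1[y] (mem_cent1.2 (hy.orth l1 l2 _).comm)
        (mem_cent1.2 (hy.orth k1 k2 _).comm) (mem_cent1.2 hc))
      have h7 : ∀ {i j}, SW X y i j → i ∈ I → g * z i * g⁻¹ = z j := fun {i j} hy hi => by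
        obtain ⟨m, e⟩ := h4 i
        by_contra e'
        have h8 : m ≠ i := fun e'' => h5 i hi (Commute.mul_left (mul_inv_eq_iff_eq_mul.1 (e'' ▸ e))
          (mul_inv_eq_iff_eq_mul.1 (e'' ▸ e)))
        have := (hy.orth h8 (fun e'' => e' (e'' ▸ e)) (-1)).comm.symm
        rw [← show _ = φ m (-1) from e] at this
        refine hy.not_comm ?_
        simpa [mul_assoc, h6.inv_left.left_comm, h6.symm.eq] using this.map (MulAut.conj g⁻¹)
      refine h5 i hi (mul_inv_eq_iff_eq_mul.1 ?_)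
      rw [show g * g * z i * (g * g)⁻¹ = g * (g * z i * g⁻¹) * g⁻¹ by group, h7 hy hi, h7 hy.symm hj]
    push Not at e
    have h3 := comm_dg (b := b) (fun l => l = i ∨ l = j ∨ l = k) fun l e' => mem_YI.1 h1 l fun hl => by
      push Not at e'; exact e'.2.2 (e l hl e'.1 e'.2.1)
    refine T hb h1 h2 k hk (h.p3 (hy.conj (h.mem (D.z i)) (mul_inv_cancel_right _ _)
      (by rw [(z_comm i j).eq, mul_inv_cancel_right])) k1 k2 hb ?_)
    rw [(D.z (X := X) i).inv, ← mul_inv_eq_iff_eq_mul.1 hy.symm.cj, mul_assoc, mul_assoc]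
    refine hc.mul_right ?_
    rwa [z_three hy.ne k1 k2]
  intro b hb h1
  by_contra! h2
  obtain ⟨y, i, j, hy, hi, hj⟩ : ∃ y i j, SW X y i j ∧ i ∈ I ∧ j ∈ I := by
    obtain ⟨-, -, k, -⟩ := id hb
    obtain ⟨i, hi, -⟩ := R hb h1 h2 k k
    obtain ⟨j, hj, e, -⟩ := R hb h1 h2 i i
    obtain ⟨l, y, hy⟩ := hs i j e.symm
    by_cases hl : l ∈ I
    · exact ⟨y, i, l, hy, hi, hl⟩
    obtain ⟨g, hg, h3, h4, -⟩ := H hb h1 h2 i hi j hj e.symm
    exact ⟨_, j, i, (hy.conj hg h4 (mul_inv_eq_iff_eq_mul.2 (mem_YI.1 h3 l hl).eq)).conj hy.mem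
      (mul_inv_eq_iff_eq_mul.2 (hy.orth e (fun e' => hl (e' ▸ hj)) _).comm.eq.symm) hy.symm.cj, hj, hi⟩
  have h3 : y ∈ YI F I := mem_YI.2 fun k hk =>
    (hy.orth (k := k) (fun e => hk (e ▸ hi)) (fun e => hk (e ▸ hj)) _).comm.symm
  obtain ⟨g, hg, n, e, -, h4, h5⟩ := dih hy.sq hb.sq
  have h6 := Invol.conj_pow_of_inverts (Invol.conj_prod_right hy.sq hb.sq) n
  have hb' := hb.conj (zpowers_le.2 (mul_mem hy.mem (h.mem hb)) hg)
  have h7 := zpowers_le.2 (mul_mem h3 h1) hg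
  have h8 := mul_mem (mul_mem h7 h1) (inv_mem h7)
  rw [← h5] at h4 h6
  generalize g * b * g⁻¹ = b' at *
  by_cases h9 : ∃ k, b' = z k
  · obtain ⟨k, rfl⟩ := h9
    have key : ∀ {i j}, SW X y i j → i ∈ I → k ≠ i := fun {i j} hy hi e => by
      subst e
      have k1 : y * z k * (y * z k) = z j * z k := by rw [← hy.cj, hy.inv, mul_assoc (y * z k)]
      refine T hb h1 h2 k hi (h.pair_z hy.ne.symm hb (Invol.commute_of_inverts_of_mul_self ?_ ?_).symm)
      · rw [← k1, ← conj_mul, h6, ← _root_.mul_inv_rev]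
      · rw [(z_comm k j).mul_mul_mul_comm, z_z, z_z, one_mul]
    have k1 := key hy hi
    have k2 := key hy.symm hj
    have k3 := (Invol.commute_of_inverts_of_mul_self h6 (by
      rw [(hy.orth k1 k2 _).comm.mul_mul_mul_comm, hy.sq, z_z, one_mul])).symm
    refine C1 hb h1 h2 hy hi hj ?_
    simpa using k3.mul_right (h.p3 hy k1 k2 hb k3).inv_right
  push Not at h9
  have k1 := C1 hb' h8 h9 hy hi hj
  have ha := hb'.conj hy.mem
  have k2 := (h.two ha hb' (k := e) (by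
    rw [hy.inv, mul_assoc, ← sq, ← pow_mul, mul_comm 2, pow_mul, h4, one_pow])).resolve_left
    fun e => k1 (mul_inv_eq_iff_eq_mul.1 e).symm
  rcases hy.ref.prim (c := y * b' * y⁻¹ * b') (by
      rw [commute_iff_eq]
      conv_rhs => rw [k2.comm.eq]
      conv_lhs => rw [k2.comm.eq]
      simpa [hy.inv, mul_assoc, hy.sq, Invol.mul_self_cancel hy.sq] using congrArg (· * y) k2.comm.eq.symm)
    (by rw [k2.comm.symm.mul_mul_mul_comm, ha.sq, hb'.sq, one_mul]) with k3 | k3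
  · exact k1 (k3.symm.of_sup (k2.sup hb'.sq)).comm.symm
  obtain ⟨d, hd, e, k4⟩ := h.exists_d (D.z i) hb' fun e => T hb' h8 h9 i hi e.symm
  have k5 := k4 _ (z_mem_YI I i) h8
  obtain ⟨m, k6⟩ : ∃ m, d⁻¹ * (y * b' * y⁻¹) * d⁻¹⁻¹ = z m := by
    by_contra! k6
    refine T (ha.conj (inv_mem (h.mem hd))) (mul_mem (mul_mem (inv_mem k5) (mul_mem (mul_mem h3 h8) (inv_mem h3)))
      (inv_mem (inv_mem k5))) k6 i hi ?_
    simpa [← e, mul_assoc] using k2.comm.map (MulAut.conj d⁻¹)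
  obtain ⟨k, hk, k7, k8⟩ := R hb h1 h2 i m
  have k9 : Orth b' (d * z k * d⁻¹) := e ▸ (orth_φ k7.symm _ _).conj d
  refine C1 ((D.z k).conj (h.mem hd)) (mul_mem (mul_mem k5 (z_mem_YI I k)) (inv_mem k5)) (fun l e' => ?_) hy hi hj
    (((Orth.mul ?_ k9).symm.of_sup k3).comm)
  · by_cases hl : l ∈ I
    · exact T hb' h8 h9 l hl (e' ▸ k9.comm)
    · rw [mul_inv_eq_iff_eq_mul, ← (mem_YI.1 k5 l hl).eq, mul_right_inj, z_inj] at e'
      exact hl (e' ▸ hk)
  · have := (orth_φ k8.symm (-1) (-1)).conj d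
    rw [← show _ = φ m (-1) from k6] at this
    simpa [mul_assoc] using this

end Cfsg.Agent.Classical.Psp
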